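import Groth.Prelude.Def_W4bk4boschfrg79
import Mathlib.RingTheory.AdicCompletion.RingHom
import Mathlib.RingTheory.AdicCompletion.Completeness

/-!
Maps out of adic completions into complete algebras.
-/

namespace Groth.Agent.AdicRingLib

open AdicCompletion

universe u v w

theorem isBase_fg {R : Type u} [CommRing R] {I : Ideal R} (hR : AdicRing.IsBase R I) : I.FG := by
  rcases hR.2 with ⟨h, -⟩ | ⟨-, -, -, t, -, rfl⟩
  · exact IsNoetherian.noetherian I
  · exact ⟨{t}, by simp⟩

variable {R : Type u} [CommRing R] {C : Type v} [CommRing C] [Algebra R C] (J : Ideal C)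
  {B : Type w} [CommRing B] [Algebra R B] (K : Ideal B) [IsAdicComplete K B]

theorem exists_algHom_completion (g : C →ₐ[R] B) (hg : J.map g ≤ K) :
    ∃ G : AdicCompletion J C →ₐ[R] B, ∀ c, G (algebraMap C (AdicCompletion J C) c) = g c := by
  have hle : ∀ n, J ^ n ≤ (K ^ n).comap g := fun n => by
    rw [← Ideal.map_le_iff_le_comap, Ideal.map_pow]
    exact Ideal.pow_right_mono hg n
  let f : ∀ n, AdicCompletion J C →ₐ[R] B ⧸ K ^ n := fun n =>
    (Ideal.quotientMapₐ (K ^ n) g (hle n)).comp ((evalₐ J n).restrictScalars R)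
  have hf : ∀ {m n : ℕ} (h : m ≤ n),
      (Ideal.Quotient.factorₐ R (Ideal.pow_le_pow_right h)).comp (f n) = f m := by
    intro m n h
    refine AlgHom.ext fun x => ?_
    obtain ⟨s, rfl⟩ := AdicCompletion.mk_surjective J C x
    show Ideal.Quotient.factor (Ideal.pow_le_pow_right h) (Ideal.quotientMap _ g.toRingHom (hle n) (evalₐ J n (mk J C s))) =
      Ideal.quotientMap _ g.toRingHom (hle m) (evalₐ J m (mk J C s))
    simp only [evalₐ_mk, Ideal.quotientMap_mk, Ideal.Quotient.factor_mk]
    rw [Ideal.Quotient.eq]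
    show g (s.val n) - g (s.val m) ∈ K ^ m
    rw [← map_sub]
    refine hle m ?_
    have h1 := (SModEq.sub_mem.1 (s.property h))
    rw [smul_eq_mul, Ideal.mul_top] at h1
    simpa using neg_mem h1
  refine ⟨IsAdicComplete.liftAlgHom K f hf, fun c => ?_⟩
  refine (IsHausdorff.eq_iff_smodEq (I := K)).2 fun n => ?_
  rw [SModEq.sub_mem, smul_eq_mul, Ideal.mul_top, ← Ideal.Quotient.eq, IsAdicComplete.mk_liftAlgHom]
  show Ideal.quotientMap _ g.toRingHom (hle n) (evalₐ J n (algebraMap C _ c)) = _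
  rw [AlgHom.commutes]
  rfl

variable {J K}

theorem algHom_completion_ext {G G' : AdicCompletion J C →ₐ[R] B} (hJ : J.FG)
    (hG : ∀ c ∈ J, G (algebraMap C (AdicCompletion J C) c) ∈ K)
    (h : ∀ c, G (algebraMap C (AdicCompletion J C) c) = G' (algebraMap C (AdicCompletion J C) c)) :
    G = G' := by
  refine AlgHom.ext fun x => (IsHausdorff.eq_iff_smodEq (I := K)).2 fun n => ?_
  rw [SModEq.sub_mem, smul_eq_mul, Ideal.mul_top]
  obtain ⟨c, hc⟩ := Ideal.Quotient.mk_surjective (eval J C n x)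
  have hmem : x - algebraMap C (AdicCompletion J C) c ∈
      J ^ n • (⊤ : Submodule C (AdicCompletion J C)) := by
    rw [pow_smul_top_eq_ker_eval hJ, LinearMap.mem_ker, map_sub, sub_eq_zero, ← hc]
    rfl
  rw [Ideal.smul_top_eq_map, Submodule.restrictScalars_mem] at hmem
  have key : ∀ F : AdicCompletion J C →ₐ[R] B, (∀ c ∈ J, F (algebraMap C _ c) ∈ K) →
      ((J ^ n).map (algebraMap C (AdicCompletion J C))).map F.toRingHom ≤ K ^ n := by
    intro F hF
    rw [Ideal.map_map, Ideal.map_pow]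
    refine Ideal.pow_right_mono ?_ n
    rw [Ideal.map_le_iff_le_comap]
    exact hF
  have h1 : G (x - algebraMap C (AdicCompletion J C) c) ∈ K ^ n :=
    key G hG (Ideal.mem_map_of_mem _ hmem)
  have h2 : G' (x - algebraMap C (AdicCompletion J C) c) ∈ K ^ n :=
    key G' (fun a ha => h a ▸ hG a ha) (Ideal.mem_map_of_mem _ hmem)
  have := sub_mem h1 h2
  rwa [map_sub, map_sub, h, sub_sub_sub_cancel_right] at this

end Groth.Agent.AdicRingLib
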