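import Groth.Agent.AdicRingLib.Saturated
import Groth.Agent.AdicRingLib.Maps
import Groth.Agent.RegLocal.Complete

/-!
# Restricted power series over a base ring of class (N) or (V)

Saturated submodules of `R⟨ζ⟩ ^ s` are finitely generated and closed, `R⟨ζ⟩` is torsion free.
-/

set_option autoImplicit false

namespace Groth.Agent.AdicRingLib

open AdicRing

universe u v

/-- Case (V) data. -/
structure IsValBase (R : Type u) [CommRing R] (I : Ideal R) (t : R) : Prop where
  domain : IsDomain R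
  pre : PreValuationRing R
  dim : Ring.KrullDimLE 1 R
  ne : t ≠ 0
  eq : I = Ideal.span {t}
  notUnit : ¬ IsUnit t

theorem isBase_cases {R : Type u} [CommRing R] {I : Ideal R} (hR : IsBase R I) :
    (IsNoetherianRing R ∧ NoPowTorsion I R) ∨ ∃ t, IsValBase R I t := by
  obtain ⟨hc, h | ⟨h1, h2, h3, t, h4, h5⟩⟩ := hR
  · exact Or.inl h
  refine Or.inr ⟨t, h1, h2, h3, h4, h5, fun hu => ?_⟩
  have htop : I = ⊤ := by rw [h5]; exact Ideal.span_singleton_eq_top.2 hu
  have h10 : (1 : R) = 0 := IsHausdorff.haus' (I := I) 1 fun n => by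
    rw [SModEq.zero, htop, Ideal.top_pow, smul_eq_mul, Ideal.mul_top]
    exact Submodule.mem_top
  exact one_ne_zero h10

theorem rpow_isAdicComplete {R : Type u} [CommRing R] {I : Ideal R} (hI : I.FG) (n : ℕ) :
    IsAdicComplete (I.map (algebraMap R (RPow R I n))) (RPow R I n) := by
  have h := AdicCompletion.isAdicComplete (M := MvPolynomial (Fin n) R)
    (hI.map (MvPolynomial.C : R →+* MvPolynomial (Fin n) R))
  rw [IsAdicComplete.map_algebraMap_iff]
  exact (IsAdicComplete.map_algebraMap_iff I (RPow R I n) (S := MvPolynomial (Fin n) R)).1 h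

/-- Reduction of restricted power series modulo `I`. -/
theorem exists_red {R : Type u} [CommRing R] {I : Ideal R} (hI : I.FG) (n : ℕ) :
    ∃ π : RPow R I n →ₐ[R] MvPolynomial (Fin n) (R ⧸ I), Function.Surjective π ∧
      ∀ x, π x = 0 → x ∈ I.map (algebraMap R (RPow R I n)) := by
  let J := I.map (MvPolynomial.C : R →+* MvPolynomial (Fin n) R)
  let g : MvPolynomial (Fin n) R →+* MvPolynomial (Fin n) (R ⧸ I) := MvPolynomial.map (Ideal.Quotient.mk I)
  have hg : RingHom.ker g = J := by
    rw [MvPolynomial.ker_map, Ideal.mk_ker]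
  let q : MvPolynomial (Fin n) R ⧸ J →+* MvPolynomial (Fin n) (R ⧸ I) :=
    Ideal.Quotient.lift J g fun a ha => by rwa [← RingHom.mem_ker, hg]
  let π₀ : RPow R I n →+* MvPolynomial (Fin n) (R ⧸ I) := q.comp (AdicCompletion.evalOneₐ J).toRingHom
  have hπ : ∀ c, π₀ (algebraMap _ _ c) = g c := fun c => by
    show q (AdicCompletion.evalOneₐ J (algebraMap _ _ c)) = _
    rw [AlgHom.commutes]; rfl
  refine ⟨{ toRingHom := π₀, commutes' := fun r => ?_ }, ?_, fun x hx => ?_⟩
  · refine (hπ (MvPolynomial.C r)).trans ?_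
    simp [g, MvPolynomial.algebraMap_eq]
  · intro y
    obtain ⟨c, hc⟩ := MvPolynomial.map_surjective (Ideal.Quotient.mk I) Ideal.Quotient.mk_surjective y
    exact ⟨algebraMap _ _ c, (hπ c).trans hc⟩
  · obtain ⟨c, hc⟩ := Ideal.Quotient.mk_surjective (AdicCompletion.evalOneₐ J x)
    have hcJ : c ∈ J := by
      rw [← hg, RingHom.mem_ker]
      have : q (AdicCompletion.evalOneₐ J x) = 0 := hx
      rwa [← hc] at this
    have : x ∈ RingHom.ker (AdicCompletion.evalOneₐ J).toRingHom := by
      rw [RingHom.mem_ker]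
      exact hc.symm.trans (Ideal.Quotient.eq_zero_iff_mem.2 hcJ)
    rw [AdicCompletion.ker_evalOneₐ_eq_map J (hI.map _), Ideal.map_map] at this
    exact this

section Val

variable {R : Type u} [CommRing R] {I : Ideal R} {t : R} (h : IsValBase R I t) (n : ℕ)
include h

theorem IsValBase.fg : I.FG := ⟨{t}, by simp [h.eq]⟩

theorem IsValBase.rpow_torsionFree (x : RPow R I n) (hx : t • x = 0) : x = 0 := by
  have := h.domain
  obtain ⟨-, -, -, ht0, rfl, -⟩ := h
  set J := (Ideal.span {t}).map (MvPolynomial.C : R →+* MvPolynomial (Fin n) R)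
  have hJ : ∀ k, ∀ p : MvPolynomial (Fin n) R, p ∈ J ^ k • (⊤ : Ideal (MvPolynomial (Fin n) R)) ↔
      MvPolynomial.C t ^ k ∣ p := fun k p => by
    rw [smul_eq_mul, Ideal.mul_top, show J = Ideal.span {MvPolynomial.C t} by
      rw [← Set.image_singleton, ← Ideal.map_span]]
    rw [Ideal.span_singleton_pow, Ideal.mem_span_singleton]
  obtain ⟨s, rfl⟩ := AdicCompletion.mk_surjective J (MvPolynomial (Fin n) R) x
  refine AdicCompletion.ext fun k => ?_
  have h1 := congrArg (fun z : RPow R (Ideal.span {t}) n => z.val (k + 1)) hx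
  change t • (Submodule.Quotient.mk (s.1 (k + 1)) :
    MvPolynomial (Fin n) R ⧸ (J ^ (k + 1) • ⊤ : Submodule (MvPolynomial (Fin n) R) (MvPolynomial (Fin n) R))) = 0 at h1
  change (Submodule.Quotient.mk (s.1 k) :
    MvPolynomial (Fin n) R ⧸ (J ^ k • ⊤ : Submodule (MvPolynomial (Fin n) R) (MvPolynomial (Fin n) R))) = 0
  rw [← Submodule.Quotient.mk_smul, Submodule.Quotient.mk_eq_zero, hJ] at h1
  rw [Submodule.Quotient.mk_eq_zero, hJ]
  obtain ⟨d, hd⟩ := h1
  rw [MvPolynomial.smul_eq_C_mul, pow_succ', mul_assoc] at hd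
  have h2 := mul_left_cancel₀ (by simpa using ht0) hd
  have h3 := SModEq.sub_mem.1 (s.property (Nat.le_succ k))
  rw [hJ, h2] at h3
  simpa using dvd_add h3 (dvd_mul_right (MvPolynomial.C t ^ k) d)

theorem IsValBase.exists_red_span :
    ∃ π : RPow R I n →ₐ[R] MvPolynomial (Fin n) (R ⧸ Ideal.span {t}), Function.Surjective π ∧
      ∀ x, π x = 0 → ∃ y, x = t • y := by
  obtain ⟨-, -, -, -, rfl, -⟩ := h
  obtain ⟨π, h1, h2⟩ := exists_red (⟨{t}, by simp⟩ : (Ideal.span {t}).FG) n
  refine ⟨π, h1, fun x hx => ?_⟩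
  have := h2 x hx
  obtain ⟨y, hy⟩ := Ideal.mem_span_singleton.1
    ((Ideal.map_span (algebraMap R (RPow R (Ideal.span {t}) n)) {t}).le.trans
      (by rw [Set.image_singleton]) this)
  exact ⟨y, by rw [hy, Algebra.smul_def]⟩

theorem IsValBase.complete_span :
    IsAdicComplete (Ideal.span {algebraMap R (RPow R I n) t}) (RPow R I n) := by
  have hc := rpow_isAdicComplete h.fg n
  rwa [show I.map (algebraMap R (RPow R I n)) = Ideal.span {algebraMap R (RPow R I n) t} by
    conv_lhs => arg 2; rw [h.eq]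
    rw [Ideal.map_span, Set.image_singleton]] at hc

theorem IsValBase.fg_of_isSat {s : ℕ} (N : Submodule (RPow R I n) (Fin s → RPow R I n))
    (hN : Sat.IsSat t N) : N.FG := by
  have := h.domain
  have := h.pre
  have := h.dim
  have : ValuationRing R := ⟨⟩
  obtain ⟨π, h1, h2⟩ := h.exists_red_span n
  have := h.complete_span n
  exact Sat.fg_of_isSat π h.ne h.notUnit h1 h2 N hN

theorem IsValBase.mem_of_forall_approx {s : ℕ} (N : Submodule (RPow R I n) (Fin s → RPow R I n))
    (hN : Sat.IsSat t N) (x : Fin s → RPow R I n)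
    (hx : ∀ k : ℕ, ∃ y ∈ N, ∃ z, x - y = t ^ k • z) : x ∈ N := by
  have := h.domain
  have := h.pre
  have := h.dim
  have : ValuationRing R := ⟨⟩
  obtain ⟨π, h1, h2⟩ := h.exists_red_span n
  have := h.complete_span n
  exact Sat.mem_of_forall_approx π h.ne h.notUnit h1 h2 (h.rpow_torsionFree n) N hN x hx

theorem IsValBase.exists_dvd_pow {r : R} (hr : r ≠ 0) : ∃ L : ℕ, r ∣ t ^ L := by
  have := h.domain
  have := h.pre
  have := h.dim
  have : ValuationRing R := ⟨⟩
  exact Sat.exists_pow_dvd hr h.notUnit h.ne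

end Val

theorem rpow_isNoetherianRing {R : Type u} [CommRing R] [IsNoetherianRing R] (I : Ideal R) (n : ℕ) :
    IsNoetherianRing (RPow R I n) :=
  Groth.Agent.RegLocal.isNoetherianRing_adicCompletion _ (Ideal.fg_of_isNoetherianRing _)

end Groth.Agent.AdicRingLib
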