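import Groth.Agent.AdicRingLib.TruncFP

/-!
# Truncations of complete localizations; topological finite type and presentation are local
-/

set_option autoImplicit false

open AdicRing

namespace Groth.Agent.AdicRingLib.CLocTrunc

universe u v

variable {R : Type u} [CommRing R] {I : Ideal R} (hI : I.FG)

include hI in
theorem completion_isAdicComplete (B : Type v) [CommRing B] [Algebra R B] :
    IsAdicComplete (I.map (algebraMap R (AdicCompletion (I.map (algebraMap R B)) B)))
      (AdicCompletion (I.map (algebraMap R B)) B) := by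
  have h := AdicCompletion.isAdicComplete (M := B) (hI.map (algebraMap R B))
  rw [IsAdicComplete.map_algebraMap_iff]
  exact (IsAdicComplete.map_algebraMap_iff I _ (S := B)).1 h

include hI in
theorem completion_approx (B : Type v) [CommRing B] [Algebra R B] (m : ℕ)
    (p : AdicCompletion (I.map (algebraMap R B)) B) :
    ∃ c : B, p - algebraMap B _ c ∈
      (I ^ m).map (algebraMap R (AdicCompletion (I.map (algebraMap R B)) B)) := by
  let J := I.map (algebraMap R B)
  obtain ⟨c, hc⟩ := Submodule.Quotient.mk_surjective _ (p.val m)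
  refine ⟨c, ?_⟩
  have hmem : p - algebraMap B _ c ∈ J ^ m • (⊤ : Submodule B (AdicCompletion J B)) := by
    rw [AdicCompletion.pow_smul_top_eq_ker_eval (hI.map _), LinearMap.mem_ker, map_sub, sub_eq_zero]
    exact hc.symm
  rw [Ideal.smul_top_eq_map, Submodule.restrictScalars_mem, ← Ideal.map_pow, Ideal.map_map,
    ← IsScalarTower.algebraMap_eq] at hmem
  exact hmem

theorem mem_of_completion_mem (B : Type v) [CommRing B] [Algebra R B] (m : ℕ) {c : B}
    (hc : algebraMap B (AdicCompletion (I.map (algebraMap R B)) B) c ∈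
      (I ^ m).map (algebraMap R (AdicCompletion (I.map (algebraMap R B)) B))) :
    c ∈ (I ^ m).map (algebraMap R B) := by
  let J := I.map (algebraMap R B)
  have hle : (I ^ m).map (algebraMap R (AdicCompletion J B)) ≤
      RingHom.ker (AdicCompletion.evalₐ J m).toRingHom := by
    rw [Ideal.map_le_iff_le_comap]
    intro a ha
    rw [Ideal.mem_comap, RingHom.mem_ker]
    show AdicCompletion.evalₐ J m (algebraMap R (AdicCompletion J B) a) = 0
    rw [IsScalarTower.algebraMap_apply R B (AdicCompletion J B), AlgHom.commutes]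
    refine Ideal.Quotient.eq_zero_iff_mem.2 ?_
    rw [← Ideal.map_pow]
    exact Ideal.mem_map_of_mem _ ha
  have := hle hc
  rw [RingHom.mem_ker] at this
  rw [Ideal.map_pow, ← Ideal.Quotient.eq_zero_iff_mem, ← Ideal.Quotient.algebraMap_eq,
    ← AlgHom.commutes (AdicCompletion.evalₐ J m) c]
  exact this

include hI in
theorem exists_truncEquiv (B : Type v) [CommRing B] [Algebra R B] (m : ℕ) :
    Nonempty ((B ⧸ (I ^ m).map (algebraMap R B)) ≃ₐ[R]
      (AdicCompletion (I.map (algebraMap R B)) B ⧸
        (I ^ m).map (algebraMap R (AdicCompletion (I.map (algebraMap R B)) B)))) := by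
  let C := AdicCompletion (I.map (algebraMap R B)) B
  let g : B →ₐ[R] C := IsScalarTower.toAlgHom R B C
  have hle : (I ^ m).map (algebraMap R B) ≤ ((I ^ m).map (algebraMap R C)).comap g := by
    refine Ideal.map_le_iff_le_comap.2 fun a ha => ?_
    rw [Ideal.mem_comap, Ideal.mem_comap, g.commutes]
    exact Ideal.mem_map_of_mem _ ha
  refine ⟨AlgEquiv.ofBijective (Ideal.quotientMapₐ ((I ^ m).map (algebraMap R C)) g hle) ⟨?_, ?_⟩⟩
  · exact Ideal.quotientMap_injective' (H := hle) fun c hc => mem_of_completion_mem B m hc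
  · intro q
    obtain ⟨p, rfl⟩ := Ideal.Quotient.mk_surjective q
    obtain ⟨c, hc⟩ := completion_approx hI B m p
    exact ⟨Ideal.Quotient.mk _ c, (Ideal.Quotient.eq.2 hc).symm⟩

section Away

variable (A : Type v) [CommRing A] [Algebra R A] (f : A) (m : ℕ)

/-- `(A / I^m A)_f`. -/
abbrev Tr : Type v :=
  Localization.Away f ⧸ ((I ^ m).map (algebraMap R A)).map (algebraMap A (Localization.Away f))

theorem tr_isAway :
    IsLocalization.Away (Ideal.Quotient.mk ((I ^ m).map (algebraMap R A)) f) (Tr (I := I) A f m) := by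
  have h : Algebra.algebraMapSubmonoid (A ⧸ (I ^ m).map (algebraMap R A)) (Submonoid.powers f) =
      Submonoid.powers (Ideal.Quotient.mk ((I ^ m).map (algebraMap R A)) f) := by
    rw [Algebra.algebraMapSubmonoid, Submonoid.map_powers, Ideal.Quotient.algebraMap_eq]
  show IsLocalization (Submonoid.powers _) _
  rw [← h]
  infer_instance

instance tr_isScalarTower :
    IsScalarTower R (A ⧸ (I ^ m).map (algebraMap R A)) (Tr (I := I) A f m) :=
  IsScalarTower.of_algebraMap_eq fun r => by
    rw [IsScalarTower.algebraMap_apply R A (A ⧸ (I ^ m).map (algebraMap R A)),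
      ← IsScalarTower.algebraMap_apply A (A ⧸ (I ^ m).map (algebraMap R A)),
      ← IsScalarTower.algebraMap_apply R A]

include hI in
theorem tr_equiv : Nonempty (Tr (I := I) A f m ≃ₐ[R]
    (CLoc I f ⧸ (I ^ m).map (algebraMap R (CLoc I f)))) := by
  obtain ⟨e⟩ := exists_truncEquiv hI (Localization.Away f) m
  exact ⟨(Ideal.quotientEquivAlgOfEq R (by rw [Ideal.map_map, ← IsScalarTower.algebraMap_eq])).trans e⟩

include hI in
theorem finiteType_cloc (h : Algebra.FiniteType R (A ⧸ (I ^ m).map (algebraMap R A))) :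
    Algebra.FiniteType R (CLoc I f ⧸ (I ^ m).map (algebraMap R (CLoc I f))) := by
  haveI := tr_isAway (I := I) A f m
  haveI := IsLocalization.finiteType_of_monoid_fg
    (Submonoid.powers (Ideal.Quotient.mk ((I ^ m).map (algebraMap R A)) f)) (Tr (I := I) A f m)
  obtain ⟨e⟩ := tr_equiv hI A f m
  exact Algebra.FiniteType.equiv (Algebra.FiniteType.trans h inferInstance) e

include hI in
theorem finitePresentation_cloc (h : Algebra.FinitePresentation R (A ⧸ (I ^ m).map (algebraMap R A))) :
    Algebra.FinitePresentation R (CLoc I f ⧸ (I ^ m).map (algebraMap R (CLoc I f))) := by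
  haveI := tr_isAway (I := I) A f m
  haveI := IsLocalization.Away.finitePresentation
    (Ideal.Quotient.mk ((I ^ m).map (algebraMap R A)) f) (S := Tr (I := I) A f m)
  obtain ⟨e⟩ := tr_equiv hI A f m
  haveI := Algebra.FinitePresentation.trans R (A ⧸ (I ^ m).map (algebraMap R A)) (Tr (I := I) A f m)
  exact Algebra.FinitePresentation.equiv e

variable {ι : Type*} (g : ι → A) (hg : Ideal.span (Set.range g) = ⊤)

omit f in
include hg in
theorem span_mk_eq_top :
    Ideal.span (Set.range fun i => Ideal.Quotient.mk ((I ^ m).map (algebraMap R A)) (g i)) = ⊤ := by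
  have h := congrArg (Ideal.map (Ideal.Quotient.mk ((I ^ m).map (algebraMap R A)))) hg
  rwa [Ideal.map_span, Ideal.map_top, ← Set.range_comp] at h

omit f in
include hI hg in
theorem finiteType_of_cloc
    (h : ∀ i, Algebra.FiniteType R (CLoc I (g i) ⧸ (I ^ m).map (algebraMap R (CLoc I (g i))))) :
    Algebra.FiniteType R (A ⧸ (I ^ m).map (algebraMap R A)) := by
  refine Algebra.FiniteType.of_span_eq_top_target _ (span_mk_eq_top A m g hg) ?_
  rintro _ ⟨i, rfl⟩
  haveI := tr_isAway (I := I) A (g i) m
  obtain ⟨e⟩ := tr_equiv hI A (g i) m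
  exact Algebra.FiniteType.equiv (Algebra.FiniteType.equiv (h i) e.symm)
    ((IsLocalization.algEquiv (Submonoid.powers (Ideal.Quotient.mk ((I ^ m).map (algebraMap R A)) (g i)))
      (Localization.Away (Ideal.Quotient.mk ((I ^ m).map (algebraMap R A)) (g i))) (Tr (I := I) A (g i) m)).symm.restrictScalars R)

omit f in
include hI hg in
theorem finitePresentation_of_cloc
    (h : ∀ i, Algebra.FinitePresentation R (CLoc I (g i) ⧸ (I ^ m).map (algebraMap R (CLoc I (g i))))) :
    Algebra.FinitePresentation R (A ⧸ (I ^ m).map (algebraMap R A)) := by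
  refine Algebra.FinitePresentation.of_span_eq_top_target _ (span_mk_eq_top A m g hg) ?_
  rintro _ ⟨i, rfl⟩
  haveI := tr_isAway (I := I) A (g i) m
  obtain ⟨e⟩ := tr_equiv hI A (g i) m
  haveI := h i
  haveI : Algebra.FinitePresentation R (Tr (I := I) A (g i) m) := Algebra.FinitePresentation.equiv e.symm
  exact Algebra.FinitePresentation.equiv
    ((IsLocalization.algEquiv (Submonoid.powers (Ideal.Quotient.mk ((I ^ m).map (algebraMap R A)) (g i)))
      (Localization.Away (Ideal.Quotient.mk ((I ^ m).map (algebraMap R A)) (g i))) (Tr (I := I) A (g i) m)).symm.restrictScalars R)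

end Away

end Groth.Agent.AdicRingLib.CLocTrunc

namespace Groth.Agent.AdicRingLib.CLocTrunc

open scoped TensorProduct

universe u

theorem noPowTorsion_of_flat {R : Type u} [CommRing R] {I : Ideal R} (hI : I.FG)
    {A : Type u} [CommRing A] [Algebra R A] (hA : NoPowTorsion I A)
    (C : Type u) [CommRing C] [Algebra R C] [Algebra A C] [IsScalarTower R A C] [Module.Flat A C] :
    NoPowTorsion I C := by
  classical
  intro x n hx
  obtain ⟨S, hS⟩ : (I ^ n).FG := Ideal.FG.pow hI
  let Φ : A →ₗ[A] (S → A) := LinearMap.pi fun a : S => LinearMap.lsmul A A (algebraMap R A a.1)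
  have hΦ : Function.Injective Φ := by
    rw [← LinearMap.ker_eq_bot, eq_bot_iff]
    intro y hy
    refine hA y n fun a ha => ?_
    rw [← hS] at ha
    induction ha using Submodule.span_induction with
    | mem a ha =>
      have := congrFun (LinearMap.mem_ker.1 hy) ⟨a, ha⟩
      rw [Algebra.smul_def]
      exact this
    | zero => rw [zero_smul]
    | add a b _ _ ha hb => rw [add_smul, ha, hb, add_zero]
    | smul c a _ ha => rw [smul_assoc, ha, smul_zero]
  have h1 := Module.Flat.lTensor_preserves_injective_linearMap (M := C) Φ hΦ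
  have h2 : LinearMap.lTensor C Φ (x ⊗ₜ[A] (1 : A)) = 0 := by
    refine (TensorProduct.piScalarRight A A C S).injective ?_
    rw [map_zero, LinearMap.lTensor_tmul, TensorProduct.piScalarRight_apply,
      TensorProduct.piScalarRightHom_tmul]
    funext a
    show (algebraMap R A a.1 * 1) • x = 0
    rw [mul_one, algebraMap_smul]
    exact hx a.1 (hS ▸ Submodule.subset_span a.2)
  have h3 : x ⊗ₜ[A] (1 : A) = 0 := h1 (h2.trans (map_zero _).symm)
  have h4 := congrArg (TensorProduct.rid A C) h3
  simpa using h4

theorem torsionFree_completion {R : Type u} [CommRing R] {t : R} (B : Type u) [CommRing B] [Algebra R B]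
    (hB : ∀ y : B, t • y = 0 → y = 0)
    (x : AdicCompletion ((Ideal.span {t}).map (algebraMap R B)) B) (hx : t • x = 0) : x = 0 := by
  let J := (Ideal.span {t}).map (algebraMap R B)
  have hJ : ∀ k, ∀ p : B, p ∈ J ^ k • (⊤ : Ideal B) ↔ ∃ d, p = t ^ k • d := fun k p => by
    rw [smul_eq_mul, Ideal.mul_top, show J = Ideal.span {algebraMap R B t} by
      rw [← Set.image_singleton, ← Ideal.map_span]]
    rw [Ideal.span_singleton_pow, Ideal.mem_span_singleton']
    exact ⟨fun ⟨d, hd⟩ => ⟨d, by rw [Algebra.smul_def, map_pow, mul_comm, hd]⟩,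
      fun ⟨d, hd⟩ => ⟨d, by rw [hd, Algebra.smul_def, map_pow, mul_comm]⟩⟩
  obtain ⟨s, hs⟩ := AdicCompletion.mk_surjective J B x
  rw [← algebraMap_smul B t, ← hs] at hx
  rw [← hs]
  refine AdicCompletion.ext fun k => ?_
  have h1 := congrArg (fun z : AdicCompletion J B => z.val (k + 1)) hx
  change algebraMap R B t • (Submodule.Quotient.mk (s.1 (k + 1)) : B ⧸ (J ^ (k + 1) • ⊤ : Submodule B B)) = 0 at h1
  rw [algebraMap_smul] at h1
  change (Submodule.Quotient.mk (s.1 k) : B ⧸ (J ^ k • ⊤ : Submodule B B)) = 0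
  rw [← Submodule.Quotient.mk_smul, Submodule.Quotient.mk_eq_zero, hJ] at h1
  rw [Submodule.Quotient.mk_eq_zero, hJ]
  obtain ⟨d, hd⟩ := h1
  have h2 : s.1 (k + 1) = t ^ k • d := sub_eq_zero.1 (hB _ (by
    rw [smul_sub, hd, pow_succ', mul_smul, sub_self]))
  have h3 := SModEq.sub_mem.1 (s.property (Nat.le_succ k))
  obtain ⟨e, he⟩ := (hJ k _).1 h3
  exact ⟨e + d, by rw [smul_add, ← he, ← h2]; ring⟩

theorem noPowTorsion_cloc {R : Type u} [CommRing R] {I : Ideal R} (hR : IsBase R I)
    {A : Type u} [CommRing A] [Algebra R A] (hA : TopFiniteType R I A) (hT : NoPowTorsion I A)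
    (f : A) : NoPowTorsion I (CLoc I f) := by
  rcases isBase_cases hR with ⟨hN, -⟩ | ⟨t, hv⟩
  · haveI : IsNoetherianRing A := by
      obtain ⟨n, φ, hφ⟩ := hA
      haveI := rpow_isNoetherianRing I n
      exact isNoetherianRing_of_surjective (RPow R I n) A φ.toRingHom hφ
    haveI : IsNoetherianRing (Localization.Away f) :=
      IsLocalization.isNoetherianRing (Submonoid.powers f) _ inferInstance
    haveI : Module.Flat (Localization.Away f) (CLoc I f) := AdicCompletion.flat_of_isNoetherian _
    haveI : Module.Flat A (Localization.Away f) := IsLocalization.flat _ (Submonoid.powers f)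
    haveI : Module.Flat A (CLoc I f) := Module.Flat.trans A (Localization.Away f) (CLoc I f)
    exact noPowTorsion_of_flat (isBase_fg hR) hT _
  obtain ⟨-, -, -, -, rfl, -⟩ := hv
  have hLoc : ∀ y : Localization.Away f, t • y = 0 → y = 0 := by
    intro y hy
    obtain ⟨k, a, ha⟩ := IsLocalization.Away.surj f y
    have h1 : algebraMap A (Localization.Away f) (t • a) = 0 := by
      rw [← IsScalarTower.toAlgHom_apply R A (Localization.Away f), map_smul,
        IsScalarTower.toAlgHom_apply, ← ha, ← smul_mul_assoc, hy, zero_mul]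
    obtain ⟨⟨_, e, rfl⟩, he⟩ := (IsLocalization.map_eq_zero_iff (Submonoid.powers f) _ _).1 h1
    have h2 : f ^ e * a = 0 := hT _ 1 fun b hb => by
      rw [pow_one] at hb
      obtain ⟨c, rfl⟩ := Ideal.mem_span_singleton.1 hb
      rw [mul_comm t c, mul_smul, ← mul_smul_comm]
      exact smul_eq_zero_of_right c he
    have h3 : algebraMap A (Localization.Away f) a = 0 :=
      (IsLocalization.map_eq_zero_iff (Submonoid.powers f) _ _).2 ⟨⟨_, e, rfl⟩, h2⟩
    rw [← ha] at h3
    exact ((IsLocalization.Away.algebraMap_isUnit f).pow k).mul_left_eq_zero.1 h3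
  intro x n hx
  have h := hx (t ^ n) (Ideal.pow_mem_pow (Ideal.mem_span_singleton_self t) n)
  clear hx
  induction n with
  | zero => simpa using h
  | succ n ih => exact ih (torsionFree_completion (Localization.Away f) hLoc _
      (by rw [← mul_smul, ← pow_succ']; exact h))

end Groth.Agent.AdicRingLib.CLocTrunc
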