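import Mathlib

/-!
# Completions of rings with a weak Artin–Rees property

`HasAR J`: every submodule `K` of a finite free module contains a finitely generated `L` with
`J^(m+c) F ∩ K ⊆ J^m L`.  Then completion is flat and `B̂ ⊗ M ≅ M̂` for finite modules.
-/

set_option autoImplicit false

open TensorProduct AdicCompletion

namespace Groth.Agent.AdicRingLib

universe u v

variable {B : Type u} [CommRing B]

/-- The weak Artin–Rees property of `(B, J)`. -/
def HasAR (J : Ideal B) : Prop :=
  ∀ (s : ℕ) (K : Submodule B (Fin s → B)), ∃ (L : Submodule B (Fin s → B)) (c : ℕ),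
    L.FG ∧ L ≤ K ∧ ∀ m, (J ^ (m + c) • ⊤ : Submodule B (Fin s → B)) ⊓ K ≤ J ^ m • L

theorem hasAR_of_isNoetherianRing [IsNoetherianRing B] (J : Ideal B) : HasAR J := by
  intro s K
  obtain ⟨k, hk⟩ := Ideal.exists_pow_inf_eq_pow_smul J K
  refine ⟨K, k, IsNoetherian.noetherian K, le_rfl, fun m => ?_⟩
  rw [hk (m + k) (Nat.le_add_left k m), Nat.add_sub_cancel]
  exact Submodule.smul_mono le_rfl inf_le_right

theorem HasAR.of_surjective {S : Type v} [CommRing S] (ψ : S →+* B) (hψ : Function.Surjective ψ)
    {J : Ideal S} (h : HasAR J) : HasAR (J.map ψ) := by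
  letI := ψ.toAlgebra
  intro s K
  let Φ : (Fin s → S) →ₗ[S] (Fin s → B) :=
    LinearMap.pi fun i => (Algebra.linearMap S B) ∘ₗ LinearMap.proj i
  have hΦ : Function.Surjective Φ := fun y => by
    choose x hx using fun i => hψ (y i)
    exact ⟨x, funext hx⟩
  obtain ⟨L, c, hL, hLK, hc⟩ := h s ((K.restrictScalars S).comap Φ)
  obtain ⟨G, hG⟩ := hL
  refine ⟨Submodule.span B (Φ '' L), c, ?_, Submodule.span_le.2 ?_, fun m x hx => ?_⟩
  · refine ⟨(G.finite_toSet.image Φ).toFinset, ?_⟩
    rw [Set.Finite.coe_toFinset]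
    refine le_antisymm (Submodule.span_mono (Set.image_mono (hG ▸ Submodule.subset_span))) ?_
    refine Submodule.span_le.2 ?_
    rintro _ ⟨l, hl, rfl⟩
    rw [SetLike.mem_coe, ← hG] at hl
    exact Submodule.span_le_restrictScalars S B _ (Submodule.apply_mem_span_image_of_mem_span Φ hl)
  · rintro _ ⟨l, hl, rfl⟩
    exact hLK hl
  obtain ⟨hx1, hx2⟩ := hx
  have e : ∀ (j : ℕ) (N : Submodule B (Fin s → B)), ((J.map ψ) ^ j • N).restrictScalars S = J ^ j • N.restrictScalars S := by
    intro j N
    rw [← Ideal.map_pow]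
    exact Ideal.smul_restrictScalars (J ^ j) N
  have hx1' : x ∈ (J ^ (m + c) • ⊤ : Submodule S (Fin s → S)).map Φ := by
    rw [Submodule.map_smul'', Submodule.map_top, LinearMap.range_eq_top.2 hΦ,
      ← Submodule.restrictScalars_top S B, ← e]
    exact hx1
  obtain ⟨y, hy, rfl⟩ := hx1'
  have := Submodule.mem_map_of_mem (f := Φ) (hc m ⟨hy, hx2⟩)
  rw [Submodule.map_smul''] at this
  have h2 : Φ y ∈ J ^ m • (Submodule.span B (Φ '' L)).restrictScalars S :=
    Submodule.smul_mono le_rfl (fun z hz => by
      obtain ⟨l, hl, rfl⟩ := hz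
      exact Submodule.subset_span ⟨l, hl, rfl⟩) this
  rwa [← e] at h2

variable {J : Ideal B} (hJ : HasAR J)
include hJ

/-- Elements of `B̂ ⊗ F` killed in the completion of the target come from the kernel. -/
theorem HasAR.mem_range_of_map_eq_zero {s : ℕ} {M : Type u} [AddCommGroup M] [Module B M]
    (q : (Fin s → B) →ₗ[B] M) (hq : Function.Surjective q) (y : AdicCompletion J B ⊗[B] (Fin s → B))
    (hy : map J q (ofTensorProduct J (Fin s → B) y) = 0) :
    y ∈ LinearMap.range ((LinearMap.ker q).subtype.lTensor (AdicCompletion J B)) := by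
  obtain ⟨L, c, hLfg, hLK, hc⟩ := hJ s (LinearMap.ker q)
  haveI : Module.Finite B L := Module.Finite.iff_fg.2 hLfg
  obtain ⟨a, ha⟩ := AdicCompletion.mk_surjective J (Fin s → B) (ofTensorProduct J (Fin s → B) y)
  have hqa : ∀ n, q (a n) ∈ (J ^ n • ⊤ : Submodule B M) := by
    intro n
    have h1 := congrArg (fun z : AdicCompletion J M => z.val n) hy
    rw [← ha, map_mk] at h1
    exact (Submodule.Quotient.mk_eq_zero _).1 h1
  have hsplit : ∀ n, ∃ k ∈ LinearMap.ker q, a n - k ∈ (J ^ n • ⊤ : Submodule B (Fin s → B)) := by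
    intro n
    have := hqa n
    rw [← LinearMap.range_eq_top.2 hq, ← Submodule.map_top, ← Submodule.map_smul''] at this
    obtain ⟨j, hj, hje⟩ := this
    exact ⟨a n - j, by rw [LinearMap.mem_ker, map_sub, hje, sub_self], by rwa [sub_sub_cancel]⟩
  choose k hk hka using hsplit
  have hkk : ∀ {m n}, m ≤ n → k n - k m ∈ (J ^ m • ⊤ : Submodule B (Fin s → B)) := by
    intro m n h
    have h1 : a n - a m ∈ (J ^ m • ⊤ : Submodule B (Fin s → B)) := SModEq.sub_mem.1 (a.property h).symm
    have h2 : a n - k n ∈ (J ^ m • ⊤ : Submodule B (Fin s → B)) :=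
      Submodule.smul_mono (Ideal.pow_le_pow_right h) le_rfl (hka n)
    have := sub_mem (add_mem h1 (hka m)) h2
    convert this using 1
    abel
  have hl : ∀ {m n}, m ≤ n → k (n + c) - k (m + c) ∈ J ^ m • L := fun {m n} h =>
    hc m ⟨hkk (by omega), sub_mem (hk _) (hk _)⟩
  have hlL : ∀ n, k (n + c) - k c ∈ L := fun n => by
    have := hl (Nat.zero_le n)
    simp only [pow_zero, Ideal.one_eq_top, Submodule.top_smul, zero_add] at this
    exact this
  let l : AdicCauchySequence J L :=
    AdicCauchySequence.mk J L (fun n => ⟨k (n + c) - k c, hlL n⟩) fun n => by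
      rw [SModEq.sub_mem, ← Submodule.comap_map_eq_of_injective L.injective_subtype (J ^ n • ⊤),
        Submodule.mem_comap, Submodule.map_smul'', Submodule.map_top, Submodule.range_subtype]
      show (k (n + c) - k c) - (k (n + 1 + c) - k c) ∈ J ^ n • L
      rw [sub_sub_sub_cancel_right, ← neg_sub]
      exact neg_mem (hl (Nat.le_succ n))
  obtain ⟨w, hw⟩ := ofTensorProduct_surjective_of_finite J L (AdicCompletion.mk J L l)
  let incl : L →ₗ[B] LinearMap.ker q := Submodule.inclusion hLK
  refine ⟨(1 : AdicCompletion J B) ⊗ₜ[B] ⟨k c, hk c⟩ + incl.lTensor _ w,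
    (ofTensorProduct_bijective_of_pi_of_fintype J (Fin s)).injective ?_⟩
  rw [map_add, map_add, LinearMap.lTensor_tmul, ofTensorProduct_tmul, one_smul, ← LinearMap.lTensor_comp_apply]
  have hnat := LinearMap.congr_fun (ofTensorProduct_naturality J
    ((LinearMap.ker q).subtype ∘ₗ incl)) w
  rw [LinearMap.comp_apply, LinearMap.comp_apply, hw, map_mk] at hnat
  show of J (Fin s → B) (k c) + ofTensorProduct J (Fin s → B)
    (AlgebraTensorModule.map LinearMap.id ((LinearMap.ker q).subtype ∘ₗ incl) w) = _
  refine (congrArg (of J (Fin s → B) (k c) + ·) hnat.symm).trans ?_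
  rw [← ha]
  refine AdicCompletion.ext fun n => ?_
  show (Submodule.Quotient.mk (k c) : (Fin s → B) ⧸ (J ^ n • ⊤ : Submodule B (Fin s → B))) +
    Submodule.Quotient.mk (k (n + c) - k c) = Submodule.Quotient.mk (a n)
  rw [← Submodule.Quotient.mk_add, add_sub_cancel, Submodule.Quotient.eq]
  have := sub_mem (hkk (Nat.le_add_right n c)) (hka n)
  convert this using 1
  abel

theorem HasAR.ofTensorProduct_bijective (M : Type u) [AddCommGroup M] [Module B M] [Module.Finite B M] :
    Function.Bijective (ofTensorProduct J M) := by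
  refine ⟨?_, ofTensorProduct_surjective_of_finite J M⟩
  rw [← LinearMap.ker_eq_bot, LinearMap.ker_eq_bot']
  intro x hx
  obtain ⟨s, q, hq⟩ := Module.Finite.exists_fin' B M
  obtain ⟨y, rfl⟩ := LinearMap.lTensor_surjective (AdicCompletion J B) hq x
  have hnat := LinearMap.congr_fun (ofTensorProduct_naturality J q) y
  obtain ⟨z, rfl⟩ := hJ.mem_range_of_map_eq_zero q hq y (hnat.trans hx)
  rw [← LinearMap.comp_apply, ← LinearMap.lTensor_comp,
    show q ∘ₗ (LinearMap.ker q).subtype = 0 by ext x; exact x.2, LinearMap.lTensor_zero,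
    LinearMap.zero_apply]

theorem HasAR.flat : Module.Flat B (AdicCompletion J B) := by
  classical
  refine Module.Flat.of_forall_isTrivialRelation fun {l f x} hfx => ?_
  let φ : (Fin l → B) →ₗ[B] B := Fintype.linearCombination B f
  let q : (Fin l → B) →ₗ[B] LinearMap.range φ := φ.rangeRestrict
  let y : AdicCompletion J B ⊗[B] (Fin l → B) := ∑ i, x i ⊗ₜ Pi.single i 1
  let ι := (LinearMap.range φ).subtype
  have hι : ι ∘ₗ q = φ := by ext; rfl
  have hy0 : map J q (ofTensorProduct J (Fin l → B) y) = 0 := by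
    obtain ⟨L, c, hLfg, hLK, hc⟩ := hJ 1 ((LinearMap.range φ).comap (LinearMap.proj (0 : Fin 1)))
    have hinj : Function.Injective (map J ι) := by
      rw [← LinearMap.ker_eq_bot, LinearMap.ker_eq_bot']
      intro w hw
      obtain ⟨a, rfl⟩ := AdicCompletion.mk_surjective J _ w
      refine AdicCompletion.ext fun n => ?_
      show Submodule.Quotient.mk (a n) = 0
      have h1 := congrArg (fun z : AdicCompletion J B => z.val (n + c)) hw
      rw [map_mk] at h1
      have h2 : (a (n + c) : B) ∈ (J ^ (n + c) • ⊤ : Submodule B B) := (Submodule.Quotient.mk_eq_zero _).1 h1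
      have h3 : (fun _ : Fin 1 => (a (n + c) : B)) ∈ (J ^ (n + c) • ⊤ : Submodule B (Fin 1 → B)) := by
        have h4 := Submodule.mem_map_of_mem
          (f := (LinearMap.pi fun _ => LinearMap.id : B →ₗ[B] Fin 1 → B)) h2
        rw [Submodule.map_smul''] at h4
        exact Submodule.smul_mono le_rfl le_top h4
      have h5 := Submodule.smul_mono (le_refl (J ^ n)) hLK (hc n ⟨h3, (a (n + c)).2⟩)
      have h6 := Submodule.mem_map_of_mem (f := (LinearMap.proj (0 : Fin 1) : (Fin 1 → B) →ₗ[B] B)) h5
      rw [Submodule.map_smul''] at h6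
      have h7 : (a (n + c) : B) ∈ J ^ n • LinearMap.range φ :=
        Submodule.smul_mono le_rfl (Submodule.map_comap_le _ _) h6
      have h8 : a (n + c) ∈ (J ^ n • ⊤ : Submodule B (LinearMap.range φ)) := by
        rw [← Submodule.comap_map_eq_of_injective (LinearMap.range φ).injective_subtype (J ^ n • ⊤),
          Submodule.mem_comap, Submodule.map_smul'', Submodule.map_top, Submodule.range_subtype]
        exact h7
      have h9 := (a.property (Nat.le_add_right n c))
      rw [Submodule.Quotient.mk_eq_zero]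
      exact (SModEq.sub_mem.1 h9 |> fun h => by simpa using add_mem h h8)
    apply hinj
    rw [_root_.map_zero, map_comp_apply, hι]
    refine Eq.trans (LinearMap.congr_fun (ofTensorProduct_naturality J φ) y) ?_
    simp only [LinearMap.comp_apply, y, map_sum, AlgebraTensorModule.map_tmul, LinearMap.id_apply,
      ofTensorProduct_tmul, φ, Fintype.linearCombination_apply_single, one_smul]
    rw [← hfx]
    refine Finset.sum_congr rfl fun i _ => ?_
    rw [← algebraMap_smul (AdicCompletion J B) (f i), smul_eq_mul, mul_comm]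
    rfl
  obtain ⟨z, hz⟩ := hJ.mem_range_of_map_eq_zero q φ.surjective_rangeRestrict y hy0
  obtain ⟨S, hS⟩ := TensorProduct.exists_finset z
  subst hS
  refine ⟨S.card, fun i j => ((S.equivFin.symm j).1.2 : Fin l → B) i,
    fun j => (S.equivFin.symm j).1.1, fun i => ?_, fun j => ?_⟩
  · have h1 := congrArg (fun y => TensorProduct.piScalarRight B B (AdicCompletion J B) (Fin l) y i) hz
    simp only [y, map_sum, Finset.sum_apply, LinearMap.lTensor_tmul, Submodule.subtype_apply,
      piScalarRight_apply, piScalarRightHom_tmul, Pi.single_apply, ite_smul, one_smul, zero_smul,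
      Finset.sum_ite_eq', Finset.sum_ite_eq, Finset.mem_univ, if_true] at h1
    rw [← h1, ← S.sum_coe_sort, ← S.equivFin.symm.sum_comp]
  · have h1 := (S.equivFin.symm j).1.2.2
    rw [LinearMap.mem_ker] at h1
    have h2 := congrArg Subtype.val h1
    simp only [q, φ, LinearMap.codRestrict_apply, Submodule.coe_zero, Fintype.linearCombination_apply,
      smul_eq_mul] at h2
    rw [← h2]
    exact Finset.sum_congr rfl fun i _ => mul_comm _ _

end Groth.Agent.AdicRingLib
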