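import Mathlib
import Groth.Agent.S3869
import Groth.Agent.ResExt.Flat
import Groth.Agent.RegLocal.Complete
-- prelude via S3869

/-!
# Completions of flat maps
-/

set_option autoImplicit false
set_option linter.style.haveILetI false

universe u

namespace Groth.Agent.AdicRingLib

open TensorProduct

theorem evalₐ_eq_zero_iff {R : Type u} [CommRing R] {I : Ideal R} (hfg : I.FG) (n : ℕ) (x : AdicCompletion I R)
    (r : R) (hr : AdicCompletion.evalₐ I n x = Ideal.Quotient.mk _ r) :
    x - algebraMap R (AdicCompletion I R) r ∈ (I ^ n).map (algebraMap R (AdicCompletion I R)) := by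
  have h2 : AdicCompletion.eval I R n x = Submodule.Quotient.mk r := by
    have hIn : I ^ n ≤ (I ^ n • ⊤ : Submodule R R) := by rw [smul_eq_mul, Ideal.mul_top]
    rw [← AdicCompletion.factor_evalₐ_eq_eval I x hIn, hr]
    rfl
  have hmem : x - algebraMap R (AdicCompletion I R) r ∈ I ^ n • (⊤ : Submodule R (AdicCompletion I R)) := by
    rw [AdicCompletion.pow_smul_top_eq_ker_eval hfg, LinearMap.mem_ker, map_sub, sub_eq_zero, h2]
    rfl
  rwa [Ideal.smul_top_eq_map, Submodule.restrictScalars_mem] at hmem

/-- The completion of a flat map of Noetherian rings is flat. -/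
theorem flat_complMap {S T : Type u} [CommRing S] [CommRing T] [IsNoetherianRing S] [IsNoetherianRing T]
    (I : Ideal S) (K : Ideal T) (g : S →+* T) (hg : g.Flat) (hK : I.map g = K) :
    (FSch.complMap I K g hK.le).Flat := by
  classical
  letI : Algebra S T := g.toAlgebra
  haveI : Module.Flat S T := hg
  let Sc := AdicCompletion I S
  let Tc := AdicCompletion K T
  let G := FSch.complMap I K g hK.le
  letI : Algebra Sc Tc := G.toAlgebra
  have hIfg : I.FG := Ideal.fg_of_isNoetherianRing I
  have hKfg : K.FG := Ideal.fg_of_isNoetherianRing K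
  have hG : ∀ s, G (algebraMap S Sc s) = algebraMap T Tc (g s) := by
    intro s
    refine AdicCompletion.ext_evalₐ fun n => ?_
    rw [S3869.evalₐ_complMap, AlgHom.commutes, AlgHom.commutes, Ideal.Quotient.algebraMap_eq,
      Ideal.Quotient.algebraMap_eq, Ideal.quotientMap_mk]
  haveI : IsScalarTower S Sc Tc := IsScalarTower.of_algebraMap_eq fun s => by
    show algebraMap S Tc s = G (algebraMap S Sc s)
    rw [hG, IsScalarTower.algebraMap_apply S T Tc]
    rfl
  haveI : IsNoetherianRing Sc := RegLocal.isNoetherianRing_adicCompletion I hIfg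
  haveI : IsNoetherianRing Tc := RegLocal.isNoetherianRing_adicCompletion K hKfg
  haveI := AdicCompletion.isAdicComplete_self K hKfg
  have hm : (I.map (algebraMap S Sc)).map (algebraMap Sc Tc) = K.map (algebraMap T Tc) := by
    refine Eq.trans ?_ (congrArg (Ideal.map (algebraMap T Tc)) hK)
    rw [Ideal.map_map, Ideal.map_map]
    exact congrArg (Ideal.map · I) (RingHom.ext hG)
  show Module.Flat Sc Tc
  let R := Sc ⊗[S] T
  let φ : R →ₐ[Sc] Tc := Algebra.TensorProduct.lift (Algebra.ofId Sc Tc) (IsScalarTower.toAlgHom S T Tc)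
    fun _ _ => Commute.all _ _
  refine ResExt.flat_of_forall_quotient (R := R) (I.map (algebraMap S Sc))
    (hm.trans_le (IsAdicComplete.le_jacobson_bot _)) φ (fun n c => ?_) (fun n r hr => ?_)
  · obtain ⟨t, ht⟩ := Ideal.Quotient.mk_surjective (AdicCompletion.evalₐ K n c)
    refine ⟨1 ⊗ₜ t, ?_⟩
    rw [hm, ← Ideal.map_pow, Algebra.TensorProduct.lift_tmul, map_one, one_mul]
    exact evalₐ_eq_zero_iff hKfg n c t ht.symm
  · have hR : ∀ x : R, ∃ t : T, x - 1 ⊗ₜ t ∈ ((I.map (algebraMap S Sc)).map (algebraMap Sc R)) ^ n := by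
      intro x
      induction x using TensorProduct.induction_on with
      | zero => exact ⟨0, by simp⟩
      | tmul y t =>
        obtain ⟨s, hs⟩ := Ideal.Quotient.mk_surjective (AdicCompletion.evalₐ I n y)
        refine ⟨g s * t, ?_⟩
        have h1 : y ⊗ₜ[S] t - (1 : Sc) ⊗ₜ (g s * t) = algebraMap Sc R (y - algebraMap S Sc s) * (1 ⊗ₜ t) := by
          rw [Algebra.TensorProduct.algebraMap_apply, Algebra.algebraMap_self, RingHom.id_apply,
            Algebra.TensorProduct.tmul_mul_tmul, mul_one, one_mul, sub_tmul, Algebra.algebraMap_eq_smul_one,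
            smul_tmul]
          rfl
        rw [h1, ← Ideal.map_pow, ← Ideal.map_pow]
        exact Ideal.mul_mem_right _ _ (Ideal.mem_map_of_mem _ (evalₐ_eq_zero_iff hIfg n y s hs.symm))
      | add x y hx hy =>
        obtain ⟨t, ht⟩ := hx
        obtain ⟨t', ht'⟩ := hy
        refine ⟨t + t', ?_⟩
        rw [tmul_add, add_sub_add_comm]
        exact add_mem ht ht'
    obtain ⟨t, ht⟩ := hR r
    have h2 := Ideal.mem_map_of_mem φ.toRingHom ht
    rw [Ideal.map_pow, Ideal.map_map, AlgHom.toRingHom_eq_coe, AlgHom.comp_algebraMap] at h2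
    have h3 : φ r - φ (1 ⊗ₜ t) ∈ ((I.map (algebraMap S Sc)).map (algebraMap Sc Tc)) ^ n := by
      rw [← map_sub]
      exact h2
    have h4 := sub_mem hr h3
    rw [sub_sub_cancel, hm, ← Ideal.map_pow, Algebra.TensorProduct.lift_tmul, map_one, one_mul] at h4
    have h5 : t ∈ K ^ n := by
      have h6 : AdicCompletion.evalₐ K n (algebraMap T Tc t) = 0 := by
        refine RingHom.mem_ker.1 ?_
        refine Ideal.map_le_iff_le_comap.2 (fun k hk => ?_) h4
        rw [Ideal.mem_comap, RingHom.mem_ker, AlgHom.commutes]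
        exact Ideal.Quotient.eq_zero_iff_mem.2 hk
      rw [AlgHom.commutes] at h6
      exact Ideal.Quotient.eq_zero_iff_mem.1 h6
    rw [← hK, ← Ideal.map_pow] at h5
    have h7 : (1 : Sc) ⊗ₜ[S] t ∈ ((I.map (algebraMap S Sc)).map (algebraMap Sc R)) ^ n := by
      rw [Ideal.map_map, ← Ideal.map_pow]
      have := Ideal.mem_map_of_mem (Algebra.TensorProduct.includeRight (R := S) (A := Sc) (B := T)).toRingHom h5
      rw [Ideal.map_map] at this
      have he : (Algebra.TensorProduct.includeRight (R := S) (A := Sc) (B := T)).toRingHom.comp g =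
          (algebraMap Sc R).comp (algebraMap S Sc) := by
        ext s
        show (1 : Sc) ⊗ₜ[S] (g s) = algebraMap S Sc s ⊗ₜ[S] (1 : T)
        rw [show g s = s • (1 : T) from Algebra.algebraMap_eq_smul_one s, Algebra.algebraMap_eq_smul_one, smul_tmul]
      rw [he] at this
      exact this
    simpa using add_mem ht h7

end Groth.Agent.AdicRingLib
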