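import Mathlib
import Groth.Agent.FiniteCompleteLib.Basic
import Groth.Agent.WildQuotLib.PSReg

/-!
# Closed points of the complement of `V(I)` in an adically complete ring
-/

set_option autoImplicit false
set_option linter.style.haveILetI false

universe u

namespace Groth.Agent.AdicRingLib

/-- In a Noetherian domain where all nonzero primes contain a fixed nonzero element, they are maximal. -/
theorem isMaximal_of_forall_mem {B : Type u} [CommRing B] [IsDomain B] [IsNoetherianRing B] {a : B} (ha : a ≠ 0)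
    (h : ∀ P : Ideal B, P.IsPrime → P ≠ ⊥ → a ∈ P) (P : Ideal B) [P.IsPrime] (hP : P ≠ ⊥) : P.IsMaximal := by
  classical
  have key : ∀ P : Ideal B, P.IsPrime → P ≠ ⊥ → P ∈ (Ideal.span {a}).minimalPrimes := by
    intro P hPp hP0
    haveI := hPp
    by_contra hn
    have hle : Ideal.span {a} ≤ P := (Ideal.span_singleton_le_iff_mem _).2 (h P hPp hP0)
    have hfin := Ideal.finite_minimalPrimes_of_isNoetherianRing B (Ideal.span {a})
    obtain ⟨b, hbP, hb⟩ : ∃ b ∈ P, ∀ Q ∈ (Ideal.span {a}).minimalPrimes, b ∉ Q := by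
      by_contra hcon
      push Not at hcon
      have hsub : (P : Set B) ⊆ ⋃ i ∈ (hfin.toFinset : Set (Ideal B)), ((id i : Ideal B) : Set B) := fun x hx => by
        obtain ⟨Q, hQ, hxQ⟩ := hcon x hx
        exact Set.mem_biUnion (hfin.mem_toFinset.2 hQ) hxQ
      obtain ⟨Q, hQ, hPQ⟩ := (Ideal.subset_union_prime (s := hfin.toFinset) (f := id) ⊥ ⊥
        (fun Q hQ _ _ => (hfin.mem_toFinset.1 hQ).1.1)).1 hsub
      have hQ' := hfin.mem_toFinset.1 hQ
      exact hn (le_antisymm hPQ (hQ'.2 ⟨hPp, hle⟩ hPQ) ▸ hQ')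
    have hb0 : b ≠ 0 := by
      rintro rfl
      obtain ⟨Q, hQ, -⟩ := Ideal.exists_minimalPrimes_le hle
      exact hb Q hQ (zero_mem _)
    obtain ⟨Q, hQ, hQP⟩ := Ideal.exists_minimalPrimes_le ((Ideal.span_singleton_le_iff_mem _).2 hbP)
    haveI := hQ.1.1
    have hQ0 : Q ≠ ⊥ := fun h0 => hb0 (by
      have h1 : b ∈ Q := hQ.1.2 (Ideal.mem_span_singleton_self b)
      rwa [h0] at h1)
    obtain ⟨Q', hQ', hQ'Q⟩ := Ideal.exists_minimalPrimes_le ((Ideal.span_singleton_le_iff_mem _).2 (h Q hQ.1.1 hQ0))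
    haveI := hQ'.1.1
    have hQ'0 : Q' ≠ ⊥ := fun h0 => ha (by
      have h1 : a ∈ Q' := hQ'.1.2 (Ideal.mem_span_singleton_self a)
      rwa [h0] at h1)
    have hlt : Q' < Q := lt_of_le_of_ne hQ'Q fun he => hb Q' hQ' (he ▸ hQ.1.2 (Ideal.mem_span_singleton_self b))
    have h1 : Q.height ≤ 1 := Ideal.height_le_one_of_isPrincipal_of_mem_minimalPrimes _ _ hQ
    have h2 : Q'.height < Q.height := Ideal.height_strict_mono_of_isPrime hlt
    have h3 := h2.trans_le h1
    rw [ENat.lt_one_iff_eq_zero, Ideal.height_eq_zero_iff_eq_bot] at h3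
    exact hQ'0 h3
  obtain ⟨M, hM, hPM⟩ := Ideal.exists_le_maximal P (Ideal.IsPrime.ne_top ‹_›)
  have hMm := key M hM.isPrime fun h0 => hP (le_bot_iff.1 (h0 ▸ hPM))
  have hPm := key P ‹_› hP
  exact le_antisymm hPM (hMm.2 hPm.1 hPM) ▸ hM

/-- A domain complete for the radical of an ideal with finitely many maximal primes above it is local. -/
theorem eq_of_isMaximal {B : Type u} [CommRing B] [IsDomain B] {R : Ideal B} [IsAdicComplete R B]
    (hfin : {M : Ideal B | M.IsMaximal}.Finite)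
    (hR : ∀ x, (∀ M : Ideal B, M.IsMaximal → x ∈ M) → x ∈ R) (m₁ m₂ : Ideal B) [h₁ : m₁.IsMaximal]
    [h₂ : m₂.IsMaximal] : m₁ = m₂ := by
  classical
  haveI : HenselianRing B R := IsAdicComplete.henselianRing B R
  by_contra hne
  let S := hfin.toFinset.erase m₁
  let N : Ideal B := ⨅ M ∈ S, M
  have hcop : m₁ ⊔ N = ⊤ := by
    refine Ideal.sup_iInf_eq_top fun M hM => ?_
    obtain ⟨hMne, hM'⟩ := Finset.mem_erase.1 hM
    exact Ideal.IsMaximal.coprime_of_ne h₁ (hfin.mem_toFinset.1 hM') (Ne.symm hMne)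
  obtain ⟨x, hx, e, he, hxe⟩ := Submodule.mem_sup.1 ((Ideal.eq_top_iff_one _).1 hcop)
  have hprod : x * e ∈ R := hR _ fun M hM => by
    by_cases h : M = m₁
    · exact h ▸ Ideal.mul_mem_right _ _ hx
    · refine Ideal.mul_mem_left _ _ ?_
      have := (Ideal.mem_iInf.1 (Ideal.mem_iInf.1 he M) (Finset.mem_erase.2 ⟨h, hfin.mem_toFinset.2 hM⟩))
      exact this
  obtain ⟨r, hr, hre⟩ := HenselianRing.is_henselian (I := R) (Polynomial.X ^ 2 - Polynomial.X : Polynomial B)
    ((Polynomial.monic_X_pow 2).sub_of_left (by simp [Polynomial.degree_X_pow]))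
    e (by
      simp only [Polynomial.eval_sub, Polynomial.eval_pow, Polynomial.eval_X]
      rw [show e ^ 2 - e = -(x * e) by rw [← eq_sub_iff_add_eq] at hxe; rw [hxe]; ring]
      exact neg_mem hprod)
    (by
      simp only [Polynomial.derivative_sub, Polynomial.derivative_X_pow, Polynomial.derivative_X, Polynomial.eval_sub,
        Polynomial.eval_mul, Polynomial.eval_pow, Polynomial.eval_X, Polynomial.eval_C, Polynomial.eval_one,
        Nat.cast_ofNat]
      refine IsUnit.of_mul_eq_one ((Ideal.Quotient.mk R) (2 * e - 1)) ?_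
      rw [← map_mul, ← map_one (Ideal.Quotient.mk R), Ideal.Quotient.eq]
      have h1 : x = 1 - e := eq_sub_of_add_eq hxe
      have : (2 * e ^ (2 - 1) - 1) * (2 * e - 1) - 1 = -4 * (x * e) := by rw [h1]; ring
      rw [this]
      exact Ideal.mul_mem_left _ _ hprod)
  have hr' : r * (r - 1) = 0 := by
    have : r ^ 2 - r = 0 := by simpa [Polynomial.IsRoot] using hr
    linear_combination this
  have hem2 : e ∈ m₂ := by
    have := (Ideal.mem_iInf.1 (Ideal.mem_iInf.1 he m₂) (Finset.mem_erase.2 ⟨Ne.symm hne, hfin.mem_toFinset.2 h₂⟩))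
    exact this
  have hRM : ∀ M : Ideal B, M.IsMaximal → R ≤ M := fun M hM =>
    (IsAdicComplete.le_jacobson_bot R).trans (sInf_le ⟨bot_le, hM⟩)
  rcases mul_eq_zero.1 hr' with h0 | h0
  · -- the lift is zero
    rw [h0, zero_sub] at hre
    have he1 : e ∈ m₁ := by simpa using hRM m₁ h₁ hre
    exact h₁.ne_top ((Ideal.eq_top_iff_one _).2 (hxe ▸ add_mem hx he1))
  · rw [sub_eq_zero.1 h0] at hre
    have h1 : (1 : B) ∈ m₂ := by simpa using add_mem (hRM m₂ h₂ hre) hem2
    exact h₂.ne_top ((Ideal.eq_top_iff_one _).2 h1)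

theorem rigClosed_tfae (A : Type u) [CommRing A] [IsNoetherianRing A] (I : Ideal A) [IsAdicComplete I A]
    (q : PrimeSpectrum A) :
    List.TFAE [¬ I ≤ q.asIdeal ∧ ∀ q' : PrimeSpectrum A, q ≤ q' → ¬ I ≤ q'.asIdeal → q' = q,
      ringKrullDim (A ⧸ q.asIdeal) = 1 ∧ ¬ I ≤ q.asIdeal,
      ringKrullDim (A ⧸ q.asIdeal) = 1 ∧
        (∀ m : Ideal (A ⧸ q.asIdeal), m.IsMaximal → m = (I.map (Ideal.Quotient.mk q.asIdeal)).radical) ∧
        IsAdicComplete (I.map (Ideal.Quotient.mk q.asIdeal)).radical (A ⧸ q.asIdeal)] := by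
  classical
  let B := A ⧸ q.asIdeal
  let π := Ideal.Quotient.mk q.asIdeal
  let IB := I.map π
  haveI hcomp : IsAdicComplete IB B :=
    (IsAdicComplete.map_algebraMap_iff I B).2
      (FiniteCompleteLib.isAdicComplete_of_finite I B)
  have hIBjac : IB ≤ Ideal.jacobson ⊥ := IsAdicComplete.le_jacobson_bot IB
  have hIB0 : ¬ I ≤ q.asIdeal ↔ IB ≠ ⊥ := by
    rw [Ne, Ideal.map_eq_bot_iff_le_ker, Ideal.mk_ker]
  tfae_have 1 → 3 := by
    rintro ⟨hI, hmax⟩
    have hB0 := hIB0.1 hI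
    obtain ⟨a, haI, ha0⟩ := Submodule.exists_mem_ne_zero_of_ne_bot hB0
    have hIle : ∀ P : Ideal B, P.IsPrime → P ≠ ⊥ → IB ≤ P := by
      intro P hP hP0
      rw [Ideal.map_le_iff_le_comap]
      by_contra hn
      have h := hmax ⟨P.comap π, hP.comap π⟩ (fun x hx => by
        show π x ∈ P
        rw [Ideal.Quotient.eq_zero_iff_mem.2 hx]; exact zero_mem _) hn
      refine hP0 (le_bot_iff.1 fun y hy => ?_)
      obtain ⟨y, rfl⟩ := Ideal.Quotient.mk_surjective y
      have h2 : y ∈ q.asIdeal := (congrArg PrimeSpectrum.asIdeal h) ▸ hy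
      exact Ideal.Quotient.eq_zero_iff_mem.2 h2
    have hall : ∀ P : Ideal B, P.IsPrime → P ≠ ⊥ → P.IsMaximal := fun P hP hP0 => by
      haveI := hP
      exact isMaximal_of_forall_mem ha0 (fun P hP hP0 => hIle P hP hP0 haI) P hP0
    have hM0 : ∀ M : Ideal B, M.IsMaximal → M ≠ ⊥ := fun M hM h0 => by
      have h1 : a ∈ M := hIBjac.trans (sInf_le ⟨bot_le, hM⟩) haI
      rw [h0, Ideal.mem_bot] at h1
      exact ha0 h1
    have hdim : ringKrullDim B = 1 := by
      haveI : Ring.KrullDimLE 1 B := Ring.KrullDimLE.mk₁' fun P h0 hP => hall P hP h0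
      refine le_antisymm (Ring.krullDimLE_iff.1 inferInstance) ?_
      have hnot : ¬ Ring.KrullDimLE 0 B := fun h => ?_
      swap
      · haveI := h
        haveI hb : (⊥ : Ideal B).IsPrime := Ideal.isPrime_bot
        exact hM0 ⊥ (Ideal.IsPrime.isMaximal' hb) rfl
      rw [Ring.krullDimLE_iff] at hnot
      generalize ringKrullDim B = d at hnot ⊢
      induction d using WithBot.recBotCoe with
      | bot => exact absurd bot_le hnot
      | coe d =>
        have hd : d ≠ 0 := fun h0 => hnot (by rw [h0]; rfl)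
        exact WithBot.coe_le_coe.2 (Order.one_le_iff_ne_zero.2 hd)
    have hrad : ∀ M : Ideal B, M.IsMaximal → IB.radical ≤ M := fun M hM =>
      (hM.isPrime.radical_le_iff).2 (hIle M hM.isPrime (hM0 M hM))
    have hR : ∀ x, (∀ M : Ideal B, M.IsMaximal → x ∈ M) → x ∈ IB.radical := by
      intro x hx
      rw [Ideal.radical_eq_sInf]
      refine Submodule.mem_sInf.2 fun P ⟨hIP, hP⟩ => ?_
      exact hx P (hall P hP fun h0 => hB0 (le_bot_iff.1 (h0 ▸ hIP)))
    obtain ⟨N, hN⟩ := Ideal.exists_radical_pow_le_of_fg IB (IsNoetherian.noetherian _)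
    haveI hcompR : IsAdicComplete IB.radical B :=
      WildQuotLib.isAdicComplete_of_pow_le (I := IB) Ideal.le_radical (N := N + 1) (Nat.succ_pos N)
        ((Ideal.pow_le_pow_right (Nat.le_succ N)).trans hN)
    have hfin : {M : Ideal B | M.IsMaximal}.Finite := by
      refine (Ideal.finite_minimalPrimes_of_isNoetherianRing B IB).subset fun M hM => ⟨⟨hM.isPrime, hIle M hM.isPrime (hM0 M hM)⟩, ?_⟩
      rintro P ⟨hP, hIP⟩ hPM
      exact ((hall P hP fun h0 => hB0 (le_bot_iff.1 (h0 ▸ hIP))).eq_of_le hM.ne_top hPM).ge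
    refine ⟨hdim, fun m hm => le_antisymm (fun x hx => hR x fun M hM => ?_) (hrad m hm), hcompR⟩
    haveI := hm
    haveI := hM
    exact eq_of_isMaximal (R := IB.radical) hfin hR m M ▸ hx
  tfae_have 3 → 2 := by
    rintro ⟨hd, hm, -⟩
    refine ⟨hd, fun hI => ?_⟩
    have h0 : IB = ⊥ := by
      rw [Ideal.map_eq_bot_iff_le_ker, Ideal.mk_ker]; exact hI
    obtain ⟨M, hM⟩ := Ideal.exists_maximal B
    have hMbot : M = ⊥ := by
      rw [hm M hM, show I.map π = ⊥ from h0]
      exact nilradical_eq_zero B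
    haveI : Ring.KrullDimLE 0 B := Ring.KrullDimLE.mk₀ fun P hP =>
      ((hMbot ▸ hM).eq_of_le hP.ne_top bot_le) ▸ (hMbot ▸ hM)
    have h1 := Ring.krullDimLE_iff.1 (inferInstance : Ring.KrullDimLE 0 B)
    rw [hd] at h1
    exact absurd h1 (not_le.2 (by norm_num))
  tfae_have 2 → 1 := by
    rintro ⟨hd, hI⟩
    refine ⟨hI, fun q' hle hI' => ?_⟩
    by_contra hne
    haveI : Ring.KrullDimLE 1 B := Ring.krullDimLE_iff.2 hd.le
    let P := q'.asIdeal.map π
    haveI : P.IsPrime := Ideal.isPrime_map_quotientMk_of_isPrime hle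
    have hP0 : P ≠ ⊥ := fun h => hne (PrimeSpectrum.ext (le_antisymm (by
      rwa [Ideal.map_eq_bot_iff_le_ker, Ideal.mk_ker] at h) hle))
    haveI : P.IsMaximal := Ideal.IsPrime.isMaximal_of_ne_bot ‹_› hP0
    refine hI' fun x hx => ?_
    have h1 : π x ∈ P := hIBjac.trans (sInf_le ⟨bot_le, ‹P.IsMaximal›⟩) (Ideal.mem_map_of_mem π hx)
    rw [← Ideal.mem_comap, Ideal.comap_map_mk hle] at h1
    exact h1
  tfae_finish

end Groth.Agent.AdicRingLib
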