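import Mathlib
import Groth.Agent.AdicRingLib.RigClosed
import Groth.Agent.S0544
import Groth.Agent.GrSegreLib.Dim

/-!
# Rig-closed points and finiteness
-/

set_option autoImplicit false
set_option linter.style.haveILetI false

universe u

namespace Groth.Agent.AdicRingLib

theorem finite_quotient_pow {A C : Type u} [CommRing A] [CommRing C] [Algebra A C] [IsNoetherianRing C]
    (m : Ideal C) (h : Module.Finite A (C ⧸ m)) : ∀ j, Module.Finite A (C ⧸ m ^ j) := by
  classical
  intro j
  induction j with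
  | zero =>
    haveI : Subsingleton (C ⧸ m ^ 0) := Ideal.Quotient.subsingleton_iff.2 (by rw [pow_zero, Ideal.one_eq_top])
    exact Module.Finite.of_finite
  | succ j ih =>
    let π : (C ⧸ m ^ (j + 1)) →ₗ[A] C ⧸ m ^ j := (Ideal.Quotient.factorₐ A (Ideal.pow_le_pow_right (Nat.le_succ j))).toLinearMap
    obtain ⟨k, g, hg⟩ := Submodule.fg_iff_exists_fin_generating_family.1 (IsNoetherian.noetherian (m ^ j))
    have hgm : ∀ i, m ≤ Submodule.comap (LinearMap.mulLeft C (g i)) (m ^ (j + 1)) := fun i x hx => by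
      show g i * x ∈ m ^ (j + 1)
      rw [pow_succ]
      exact Ideal.mul_mem_mul (hg ▸ Submodule.subset_span ⟨i, rfl⟩) hx
    let ψ : (Fin k → C ⧸ m) →ₗ[A] C ⧸ m ^ (j + 1) :=
      ∑ i, ((Submodule.mapQ m (m ^ (j + 1)) (LinearMap.mulLeft C (g i)) (hgm i)).restrictScalars A).comp (LinearMap.proj i)
    haveI := h
    haveI := ih
    haveI hker : Module.Finite A (LinearMap.ker π) := by
      have hle : LinearMap.ker π ≤ LinearMap.range ψ := by
        intro x hx
        obtain ⟨y, rfl⟩ := Ideal.Quotient.mk_surjective x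
        have hy : y ∈ m ^ j := Ideal.Quotient.eq_zero_iff_mem.1 hx
        rw [← hg] at hy
        obtain ⟨c, rfl⟩ := Submodule.mem_span_range_iff_exists_fun C |>.1 hy
        refine ⟨fun i => Ideal.Quotient.mk m (c i), ?_⟩
        simp only [ψ, LinearMap.coe_sum, Finset.sum_apply, map_sum]
        refine Finset.sum_congr rfl fun i _ => ?_
        show Ideal.Quotient.mk (m ^ (j + 1)) (g i * c i) = _
        rw [smul_eq_mul, mul_comm]
      have hrange : LinearMap.range ψ ≤ LinearMap.ker π := by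
        rintro _ ⟨v, rfl⟩
        simp only [ψ, LinearMap.coe_sum, Finset.sum_apply, LinearMap.mem_ker, map_sum]
        refine Finset.sum_eq_zero fun i _ => ?_
        obtain ⟨z, hz⟩ := Ideal.Quotient.mk_surjective (v i)
        show π (Submodule.mapQ m (m ^ (j + 1)) (LinearMap.mulLeft C (g i)) (hgm i) (v i)) = 0
        rw [← hz]
        show Ideal.Quotient.mk (m ^ j) (g i * z) = 0
        exact Ideal.Quotient.eq_zero_iff_mem.2 (Ideal.mul_mem_right _ _ (hg ▸ Submodule.subset_span ⟨i, rfl⟩))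
      rw [le_antisymm hle hrange]
      infer_instance
    haveI : Module.Finite A ((C ⧸ m ^ (j + 1)) ⧸ LinearMap.ker π) :=
      Module.Finite.equiv (π.quotKerEquivOfSurjective (Ideal.Quotient.factor_surjective (Ideal.pow_le_pow_right (Nat.le_succ j)))).symm
    exact Module.Finite.of_submodule_quotient (LinearMap.ker π)

/-- A one-dimensional local quotient with finite residue field is finite over a complete base. -/
theorem finite_of_finite_residue {A : Type u} [CommRing A] (I : Ideal A) [IsAdicComplete I A] {B : Type u}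
    [CommRing B] [IsNoetherianRing B] [Algebra A B] [IsHausdorff I B] (m : Ideal B) (hfin : Module.Finite A (B ⧸ m))
    (hle : ∃ N, m ^ N ≤ I.map (algebraMap A B)) : Module.Finite A B := by
  obtain ⟨N, hN⟩ := hle
  refine S0544.result A I B ?_
  haveI := finite_quotient_pow m hfin N
  have hle' : (m ^ N).restrictScalars A ≤ (I • ⊤ : Submodule A B) := by
    rw [Ideal.smul_top_eq_map]; exact hN
  haveI : Module.Finite A (B ⧸ (m ^ N).restrictScalars A) :=
    Module.Finite.equiv (Submodule.Quotient.restrictScalarsEquiv A (m ^ N)).symm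
  exact Module.Finite.of_surjective (Submodule.factor hle') (Submodule.factor_surjective hle')

section

variable {A : Type u} [CommRing A] [IsNoetherianRing A] {I : Ideal A} [IsAdicComplete I A] {B : Type u}
  [CommRing B] [Algebra A B] [IsNoetherianRing B] [IsAdicComplete (I.map (algebraMap A B)) B]
  (q : PrimeSpectrum B)
  (hq : ¬ (I.map (algebraMap A B)) ≤ q.asIdeal ∧
    ∀ y : PrimeSpectrum B, q ≤ y → ¬ (I.map (algebraMap A B)) ≤ y.asIdeal → y = q)

include hq in
theorem finite_quotient_rigClosed (h : ∀ m : Ideal B, m.IsMaximal → q.asIdeal ≤ m → Module.Finite A (B ⧸ m)) :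
    Module.Finite A (B ⧸ q.asIdeal) := by
  obtain ⟨-, hmax, hcomp⟩ := ((rigClosed_tfae B (I.map (algebraMap A B)) q).out 0 2).1 hq
  let C := B ⧸ q.asIdeal
  let π := Ideal.Quotient.mk q.asIdeal
  haveI hc : IsAdicComplete ((I.map (algebraMap A B)).map π) C :=
    (IsAdicComplete.map_algebraMap_iff (I.map (algebraMap A B)) C).2
      (FiniteCompleteLib.isAdicComplete_of_finite (I.map (algebraMap A B)) C)
  have hmap : (I.map (algebraMap A B)).map π = I.map (algebraMap A C) := by
    rw [Ideal.map_map]; rfl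
  haveI : IsHausdorff I C := by
    haveI : IsAdicComplete (I.map (algebraMap A C)) C := hmap ▸ hc
    exact ((IsAdicComplete.map_algebraMap_iff (S := C) I C).1 ‹_›).toIsHausdorff
  obtain ⟨M, hM⟩ := Ideal.exists_maximal C
  obtain ⟨N, hN⟩ := Ideal.exists_radical_pow_le_of_fg (I.map (algebraMap A C)) (IsNoetherian.noetherian _)
  refine finite_of_finite_residue I M ?_ ⟨N, ?_⟩
  · haveI := hM
    haveI := h (M.comap π) (Ideal.comap_isMaximal_of_surjective π Ideal.Quotient.mk_surjective) (fun x hx => by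
      show π x ∈ M
      rw [Ideal.Quotient.eq_zero_iff_mem.2 hx]; exact zero_mem _)
    let f : (B ⧸ M.comap π) →ₐ[A] C ⧸ M := Ideal.quotientMapₐ M (Ideal.Quotient.mkₐ A q.asIdeal) le_rfl
    exact Module.Finite.of_surjective f.toLinearMap fun y => by
      obtain ⟨y, rfl⟩ := Ideal.Quotient.mk_surjective y
      obtain ⟨y, rfl⟩ := Ideal.Quotient.mk_surjective y
      exact ⟨Ideal.Quotient.mk _ y, rfl⟩
  · rw [hmax M hM, hmap]
    exact hN

include hq in
theorem rigClosed_comap_of_finite (h : Module.Finite A (B ⧸ q.asIdeal)) :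
    ¬ I ≤ (PrimeSpectrum.comap (algebraMap A B) q).asIdeal ∧
      ∀ y : PrimeSpectrum A, (PrimeSpectrum.comap (algebraMap A B) q) ≤ y → ¬ I ≤ y.asIdeal →
        y = (PrimeSpectrum.comap (algebraMap A B) q) := by
  obtain ⟨hd, hI⟩ := ((rigClosed_tfae B (I.map (algebraMap A B)) q).out 0 1).1 hq
  let p := q.asIdeal.comap (algebraMap A B)
  have key : ringKrullDim (A ⧸ p) = 1 ∧ ¬ I ≤ p := by
    refine ⟨?_, ?_⟩
    · show ringKrullDim (A ⧸ p) = 1
      letI : Algebra (A ⧸ p) (B ⧸ q.asIdeal) := (Ideal.quotientMap q.asIdeal (algebraMap A B) le_rfl).toAlgebra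
      haveI : IsScalarTower A (A ⧸ p) (B ⧸ q.asIdeal) := IsScalarTower.of_algebraMap_eq fun _ => rfl
      haveI : FaithfulSMul (A ⧸ p) (B ⧸ q.asIdeal) :=
        (faithfulSMul_iff_algebraMap_injective _ _).2 Ideal.quotientMap_injective
      haveI : Module.Finite (A ⧸ p) (B ⧸ q.asIdeal) := Module.Finite.of_restrictScalars_finite A _ _
      haveI : Algebra.IsIntegral (A ⧸ p) (B ⧸ q.asIdeal) := Algebra.IsIntegral.of_finite _ _
      rw [GrSegreLib.ringKrullDim_eq_of_integral_injective (algebraMap (A ⧸ p) (B ⧸ q.asIdeal))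
        (FaithfulSMul.algebraMap_injective _ _) (algebraMap_isIntegral_iff.2 inferInstance)]
      exact hd
    · intro hle
      exact hI (Ideal.map_le_iff_le_comap.2 hle)
  exact ((rigClosed_tfae A I (PrimeSpectrum.comap (algebraMap A B) q)).out 1 0).1 key

end

theorem finite_residue_of_rigClosed_comap {A : Type u} [CommRing A] [IsNoetherianRing A] {I : Ideal A}
    [IsAdicComplete I A] {B : Type u} [CommRing B] [Algebra A B] [IsAdicComplete (I.map (algebraMap A B)) B]
    (hft : Algebra.FiniteType A (B ⧸ I.map (algebraMap A B))) (p : PrimeSpectrum A)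
    (hp : ¬ I ≤ p.asIdeal ∧ ∀ y : PrimeSpectrum A, p ≤ y → ¬ I ≤ y.asIdeal → y = p) (m : Ideal B) [m.IsMaximal]
    (hpm : p.asIdeal ≤ m.comap (algebraMap A B)) : Module.Finite A (B ⧸ m) := by
  obtain ⟨-, hmax, -⟩ := ((rigClosed_tfae A I p).out 0 2).1 hp
  have hIm : I.map (algebraMap A B) ≤ m :=
    (IsAdicComplete.le_jacobson_bot _).trans (sInf_le ⟨bot_le, ‹_›⟩)
  let a := m.comap (algebraMap A B)
  haveI : a.IsPrime := Ideal.IsPrime.comap _
  have hamax : a.IsMaximal := by
    obtain ⟨M, hM, haM⟩ := Ideal.exists_le_maximal a (Ideal.IsPrime.ne_top ‹_›)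
    haveI : (M.map (Ideal.Quotient.mk p.asIdeal)).IsMaximal :=
      (Ideal.map_eq_top_or_isMaximal_of_surjective _ Ideal.Quotient.mk_surjective hM).resolve_left fun ht => hM.ne_top (by
        have h2 := congrArg (Ideal.comap (Ideal.Quotient.mk p.asIdeal)) ht
        rwa [Ideal.comap_map_mk (hpm.trans haM), Ideal.comap_top] at h2)
    have h1 := hmax _ ‹(M.map (Ideal.Quotient.mk p.asIdeal)).IsMaximal›
    have h2 : M ≤ a := fun x hx => by
      have h3 : Ideal.Quotient.mk p.asIdeal x ∈ (I.map (Ideal.Quotient.mk p.asIdeal)).radical :=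
        h1 ▸ Ideal.mem_map_of_mem _ hx
      have h4 : (I.map (Ideal.Quotient.mk p.asIdeal)).radical ≤ a.map (Ideal.Quotient.mk p.asIdeal) :=
        (Ideal.isPrime_map_quotientMk_of_isPrime hpm).radical_le_iff.2
          (Ideal.map_mono (Ideal.map_le_iff_le_comap.1 hIm))
      have h5 := h4 h3
      rwa [← Ideal.mem_comap, Ideal.comap_map_mk hpm] at h5
    exact le_antisymm haM h2 ▸ hM
  haveI := hamax
  letI : Field (B ⧸ m) := Ideal.Quotient.field m
  letI : Field (A ⧸ a) := Ideal.Quotient.field a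
  letI : Algebra (A ⧸ a) (B ⧸ m) := (Ideal.quotientMap m (algebraMap A B) le_rfl).toAlgebra
  haveI : IsScalarTower A (A ⧸ a) (B ⧸ m) := IsScalarTower.of_algebraMap_eq fun _ => rfl
  haveI : Algebra.FiniteType A (B ⧸ m) :=
    hft.of_surjective (Ideal.Quotient.factorₐ A hIm) (Ideal.Quotient.factor_surjective hIm)
  haveI : Algebra.FiniteType (A ⧸ a) (B ⧸ m) := Algebra.FiniteType.of_restrictScalars_finiteType A _ _
  haveI := finite_of_finite_type_of_isJacobsonRing (A ⧸ a) (B ⧸ m)
  exact Module.Finite.trans (A ⧸ a) (B ⧸ m)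

theorem finite_residue_of_jacobson {A : Type u} [CommRing A] {I : Ideal A} {B : Type u} [CommRing B]
    [Algebra A B] [IsAdicComplete (I.map (algebraMap A B)) B]
    (hft : Algebra.FiniteType A (B ⧸ I.map (algebraMap A B))) (hJ : IsJacobsonRing (A ⧸ I)) (m : Ideal B)
    [m.IsMaximal] : Module.Finite A (B ⧸ m) := by
  have hIm : I.map (algebraMap A B) ≤ m :=
    (IsAdicComplete.le_jacobson_bot _).trans (sInf_le ⟨bot_le, ‹_›⟩)
  letI : Field (B ⧸ m) := Ideal.Quotient.field m
  letI : Algebra (A ⧸ I) (B ⧸ m) := (Ideal.quotientMap m (algebraMap A B) (Ideal.map_le_iff_le_comap.1 hIm)).toAlgebra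
  haveI : IsScalarTower A (A ⧸ I) (B ⧸ m) := IsScalarTower.of_algebraMap_eq fun _ => rfl
  haveI : Algebra.FiniteType A (B ⧸ m) :=
    hft.of_surjective (Ideal.Quotient.factorₐ A hIm) (Ideal.Quotient.factor_surjective hIm)
  haveI : Algebra.FiniteType (A ⧸ I) (B ⧸ m) := Algebra.FiniteType.of_restrictScalars_finiteType A _ _
  haveI := finite_of_finite_type_of_isJacobsonRing (A ⧸ I) (B ⧸ m)
  exact Module.Finite.trans (A ⧸ I) (B ⧸ m)

end Groth.Agent.AdicRingLib
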