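import Mathlib
import Groth.Agent.AdicRingLib.RigFinite
import Groth.Agent.RegLocal.Complete

/-!
# Points of a completion finite over a complete base
-/

set_option autoImplicit false
set_option linter.style.haveILetI false

universe u

namespace Groth.Agent.AdicRingLib

variable {A : Type u} [CommRing A] (I : Ideal A) [IsAdicComplete I A] {P : Type u} [CommRing P] [Algebra A P]
  [IsNoetherianRing P]

theorem exists_sub_mem_pow (k : ℕ) (y : AdicCompletion (I.map (algebraMap A P)) P) :
    ∃ c : P, y - algebraMap P _ c ∈ ((I.map (algebraMap A P)) ^ k).map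
      (algebraMap P (AdicCompletion (I.map (algebraMap A P)) P)) := by
  obtain ⟨c, hc⟩ := Submodule.Quotient.mk_surjective _ (AdicCompletion.eval (I.map (algebraMap A P)) P k y)
  refine ⟨c, ?_⟩
  have hmem : y - algebraMap P _ c ∈
      (I.map (algebraMap A P)) ^ k • (⊤ : Submodule P (AdicCompletion (I.map (algebraMap A P)) P)) := by
    rw [AdicCompletion.pow_smul_top_eq_ker_eval (IsNoetherian.noetherian _), LinearMap.mem_ker, map_sub, sub_eq_zero]
    exact hc.symm
  rwa [Ideal.smul_top_eq_map, Submodule.restrictScalars_mem] at hmem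

/-- A point of a completion which is finite over the complete base comes from the ring itself. -/
theorem completion_point (q : Ideal (AdicCompletion (I.map (algebraMap A P)) P))
    [Module.Finite A (AdicCompletion (I.map (algebraMap A P)) P ⧸ q)] :
    (∀ y, ∃ c : P, y - algebraMap P _ c ∈ q) ∧
      (q.comap (algebraMap P (AdicCompletion (I.map (algebraMap A P)) P))).map
        (algebraMap P (AdicCompletion (I.map (algebraMap A P)) P)) = q := by
  let J := I.map (algebraMap A P)
  let R := AdicCompletion J P
  let T := R ⧸ q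
  let π : P →ₐ[A] T := (Ideal.Quotient.mkₐ A q).comp (IsScalarTower.toAlgHom A P R)
  have hπI : ∀ k, ∀ z ∈ (J ^ k).map (algebraMap P R), Ideal.Quotient.mk q z ∈ (I ^ k).map (algebraMap A T) := by
    intro k z hz
    have h := Ideal.mem_map_of_mem (Ideal.Quotient.mk q) hz
    rw [← Ideal.map_pow, Ideal.map_map, Ideal.map_map] at h
    have he : ((Ideal.Quotient.mk q).comp (algebraMap P R)).comp (algebraMap A P) = algebraMap A T :=
      RingHom.ext fun a => by
        show Ideal.Quotient.mk q (algebraMap P R (algebraMap A P a)) = _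
        rw [← IsScalarTower.algebraMap_apply A P R]
        rfl
    rwa [he] at h
  have htop : (⊤ : Submodule A T) ≤ LinearMap.range π.toLinearMap ⊔ I • ⊤ := by
    intro t _
    obtain ⟨y, rfl⟩ := Ideal.Quotient.mk_surjective t
    obtain ⟨c, hc⟩ := exists_sub_mem_pow I 1 y
    refine Submodule.mem_sup.2 ⟨π c, ⟨c, rfl⟩, Ideal.Quotient.mk q (y - algebraMap P R c), ?_, ?_⟩
    · rw [Ideal.smul_top_eq_map, Submodule.restrictScalars_mem]
      have := hπI 1 _ hc
      rwa [pow_one] at this
    · rw [map_sub]
      show Ideal.Quotient.mk q (algebraMap P R c) + _ = _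
      abel
  have hsurj : LinearMap.range π.toLinearMap = ⊤ :=
    eq_top_iff.2 (Submodule.le_of_le_smul_of_le_jacobson_bot Module.Finite.fg_top (IsAdicComplete.le_jacobson_bot I) htop)
  have h1 : ∀ y : R, ∃ c : P, y - algebraMap P R c ∈ q := fun y => by
    obtain ⟨c, hc⟩ : Ideal.Quotient.mk q y ∈ LinearMap.range π.toLinearMap := by rw [hsurj]; trivial
    exact ⟨c, Ideal.Quotient.eq.1 hc.symm⟩
  refine ⟨h1, le_antisymm Ideal.map_comap_le fun y hy => ?_⟩
  let q₀ := q.comap (algebraMap P R)
  let K := q₀.map (algebraMap P R)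
  haveI : IsNoetherianRing R := RegLocal.isNoetherianRing_adicCompletion J (IsNoetherian.noetherian J)
  haveI : IsAdicComplete (J.map (algebraMap P R)) R := AdicCompletion.isAdicComplete_self J (IsNoetherian.noetherian J)
  haveI : IsHausdorff (J.map (algebraMap P R)) (R ⧸ K) :=
    IsHausdorff.of_le_jacobson _ _ (IsAdicComplete.le_jacobson_bot _)
  refine Ideal.Quotient.eq_zero_iff_mem.1 (IsHausdorff.haus' (I := J.map (algebraMap P R)) _ fun k => ?_)
  rw [SModEq.zero, Ideal.smul_top_eq_map, Submodule.restrictScalars_mem, ← Ideal.map_pow]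
  obtain ⟨c, hc⟩ := exists_sub_mem_pow I k y
  have hc' : π c ∈ (I ^ k).map (algebraMap A T) := by
    have := hπI k _ hc
    rw [map_sub, Ideal.Quotient.eq_zero_iff_mem.2 hy, zero_sub, neg_mem_iff] at this
    exact this
  have hsurj' : Function.Surjective π := LinearMap.range_eq_top.1 hsurj
  have he : (I ^ k).map (algebraMap A T) = ((I ^ k).map (algebraMap A P)).map π.toRingHom := by
    rw [Ideal.map_map]
    exact congrArg (fun r => (I ^ k).map r) (RingHom.ext fun a => (π.commutes a).symm)
  rw [he] at hc'
  obtain ⟨d, hd, hdc⟩ := (Ideal.mem_map_iff_of_surjective _ hsurj').1 hc'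
  have hcd : c - d ∈ q₀ := by
    show algebraMap P R (c - d) ∈ q
    rw [← Ideal.Quotient.eq_zero_iff_mem]
    show π (c - d) = 0
    rw [map_sub, sub_eq_zero]
    exact hdc.symm
  have hd' : d ∈ J ^ k := by rwa [← Ideal.map_pow]
  have hyd : y - algebraMap P R (c - d) ∈ (J ^ k).map (algebraMap P R) := by
    rw [map_sub, ← sub_add]
    exact add_mem hc (Ideal.mem_map_of_mem _ hd')
  have h2 := Ideal.mem_map_of_mem (Ideal.Quotient.mk K) hyd
  rw [map_sub, Ideal.Quotient.eq_zero_iff_mem.2 (Ideal.mem_map_of_mem _ hcd : algebraMap P R (c - d) ∈ K), sub_zero] at h2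
  exact h2

/-- The localization at such a point is dense and has the same powers of the maximal ideal. -/
theorem localization_completion_point [IsNoetherianRing A] (q : Ideal (AdicCompletion (I.map (algebraMap A P)) P))
    [q.IsPrime] [Module.Finite A (AdicCompletion (I.map (algebraMap A P)) P ⧸ q)] (m : ℕ) :
    (∀ x, Localization.localRingHom (q.comap (algebraMap P (AdicCompletion (I.map (algebraMap A P)) P))) q
        (algebraMap P (AdicCompletion (I.map (algebraMap A P)) P)) rfl x ∈
          IsLocalRing.maximalIdeal (Localization.AtPrime q) ^ m →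
        x ∈ IsLocalRing.maximalIdeal (Localization.AtPrime
          (q.comap (algebraMap P (AdicCompletion (I.map (algebraMap A P)) P)))) ^ m) ∧
    (∀ y : Localization.AtPrime q, ∃ x, y - Localization.localRingHom
        (q.comap (algebraMap P (AdicCompletion (I.map (algebraMap A P)) P))) q
        (algebraMap P (AdicCompletion (I.map (algebraMap A P)) P)) rfl x ∈
          IsLocalRing.maximalIdeal (Localization.AtPrime q) ^ m) := by
  obtain ⟨hsurj, hq⟩ := completion_point I q
  let R := AdicCompletion (I.map (algebraMap A P)) P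
  let q₀ := q.comap (algebraMap P R)
  let R₀ := Localization.AtPrime q₀
  let Rq := Localization.AtPrime q
  let l := Localization.localRingHom q₀ q (algebraMap P R) rfl
  letI : Algebra R₀ Rq := l.toAlgebra
  haveI : IsScalarTower P R₀ Rq := IsScalarTower.of_algebraMap_eq fun x => by
    show _ = l (algebraMap P R₀ x)
    rw [Localization.localRingHom_to_map]
    exact IsScalarTower.algebraMap_apply P R Rq x
  haveI : Module.Flat P Rq := Module.Flat.trans P R Rq
  haveI : Module.Flat R₀ Rq := (Module.flat_iff_of_isLocalization R₀ q₀.primeCompl Rq).2 inferInstance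
  haveI : IsLocalHom (algebraMap R₀ Rq) := by rw [RingHom.algebraMap_toAlgebra]; infer_instance
  haveI : Module.FaithfullyFlat R₀ Rq := Module.FaithfullyFlat.of_flat_of_isLocalHom
  have hmax : (IsLocalRing.maximalIdeal R₀).map l = IsLocalRing.maximalIdeal Rq := by
    rw [← Localization.AtPrime.map_eq_maximalIdeal, Ideal.map_map,
      show l.comp (algebraMap P R₀) = (algebraMap R Rq).comp (algebraMap P R) from
        RingHom.ext fun x => Localization.localRingHom_to_map q₀ q (algebraMap P R) rfl x, ← Ideal.map_map, hq,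
      Localization.AtPrime.map_eq_maximalIdeal]
  have hres : ∀ y : Rq, ∃ x, y - l x ∈ IsLocalRing.maximalIdeal Rq := by
    intro y
    obtain ⟨r, s, rfl⟩ := IsLocalization.exists_mk'_eq q.primeCompl y
    obtain ⟨r₀, hr⟩ := hsurj r
    obtain ⟨s₀, hs⟩ := hsurj s
    have hs₀ : s₀ ∈ q₀.primeCompl := fun h => s.2 (by
      have h0 : (s : R) = ((s : R) - algebraMap P R s₀) + algebraMap P R s₀ := (sub_add_cancel _ _).symm
      rw [h0]; exact add_mem hs h)
    refine ⟨IsLocalization.mk' R₀ r₀ (⟨s₀, hs₀⟩ : q₀.primeCompl), ?_⟩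
    rw [Localization.localRingHom_mk', ← IsLocalization.mk'_sub]
    refine (IsLocalization.AtPrime.mk'_mem_maximal_iff Rq q _ _).2 ?_
    show r * algebraMap P R s₀ - algebraMap P R r₀ * (s : R) ∈ q
    have : r * algebraMap P R s₀ - algebraMap P R r₀ * (s : R) =
        (r - algebraMap P R r₀) * algebraMap P R s₀ - algebraMap P R r₀ * ((s : R) - algebraMap P R s₀) := by ring
    rw [this]
    exact sub_mem (Ideal.mul_mem_right _ _ hr) (Ideal.mul_mem_left _ _ hs)
  refine ⟨fun x hx => ?_, ?_⟩
  · rw [← hmax, ← Ideal.map_pow] at hx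
    have h := Ideal.comap_map_eq_self_of_faithfullyFlat (B := Rq) (IsLocalRing.maximalIdeal R₀ ^ m)
    rw [← h]
    exact hx
  · induction m with
    | zero => exact fun y => ⟨0, by simp⟩
    | succ m ih =>
      intro y
      obtain ⟨x, hx⟩ := ih y
      suffices H : ∀ z ∈ IsLocalRing.maximalIdeal Rq ^ m, ∃ x', z - l x' ∈ IsLocalRing.maximalIdeal Rq ^ (m + 1) by
        obtain ⟨x', hx'⟩ := H _ hx
        exact ⟨x + x', by rw [map_add, ← sub_sub]; exact hx'⟩
      intro z hz
      rw [← hmax, ← Ideal.map_pow] at hz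
      have hz' : z ∈ Submodule.span Rq (l '' ((IsLocalRing.maximalIdeal R₀ ^ m : Ideal R₀) : Set R₀)) := hz
      clear hz hx
      induction hz' using Submodule.span_induction with
      | mem z hz =>
        obtain ⟨w, -, rfl⟩ := hz
        exact ⟨w, by rw [sub_self]; exact zero_mem _⟩
      | zero => exact ⟨0, by simp⟩
      | add _ _ _ _ h1 h2 =>
        obtain ⟨a, ha⟩ := h1
        obtain ⟨b, hb⟩ := h2
        exact ⟨a + b, by rw [map_add, add_sub_add_comm]; exact add_mem ha hb⟩
      | smul r z hz h1 =>
        obtain ⟨a, ha⟩ := h1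
        obtain ⟨b, hb⟩ := hres r
        refine ⟨b * a, ?_⟩
        have hz2 : z ∈ IsLocalRing.maximalIdeal Rq ^ m := by
          rw [← hmax, ← Ideal.map_pow]; exact hz
        have : r • z - l (b * a) = (r - l b) * z + l b * (z - l a) := by rw [smul_eq_mul, map_mul]; ring
        rw [this]
        refine add_mem ?_ (Ideal.mul_mem_left _ _ ha)
        rw [pow_succ']
        exact Ideal.mul_mem_mul hb hz2

end Groth.Agent.AdicRingLib
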