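import Groth.Agent.AdicRingLib.Base

/-!
# Finite modules over algebras topologically of finite type over a base ring of class (N) or (V)
-/

set_option autoImplicit false

namespace Groth.Agent.AdicRingLib

open AdicRing

universe u

variable {R : Type u} [CommRing R] {I : Ideal R}

/-- `x` lies in `N` after multiplication by `I ^ k` iff by `t ^ k`. -/
theorem IsValBase.forall_pow_iff {t : R} (h : IsValBase R I t) {M : Type u} [AddCommGroup M]
    [Module R M] (N : Submodule R M) (x : M) (k : ℕ) :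
    (∀ a ∈ I ^ k, a • x ∈ N) ↔ t ^ k • x ∈ N := by
  rw [h.eq, Ideal.span_singleton_pow]
  refine ⟨fun hx => hx _ (Ideal.mem_span_singleton_self _), fun hx a ha => ?_⟩
  obtain ⟨b, rfl⟩ := Ideal.mem_span_singleton.1 ha
  rw [mul_comm, mul_smul]
  exact N.smul_mem _ hx

theorem IsValBase.mem_pow_smul_top {t : R} (h : IsValBase R I t) {M : Type u} [AddCommGroup M]
    [Module R M] (N : Submodule R M) (x : M) (k : ℕ) :
    x ∈ I ^ k • N ↔ ∃ y ∈ N, x = t ^ k • y := by
  rw [h.eq, Ideal.span_singleton_pow, Submodule.ideal_span_singleton_smul]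
  exact (Submodule.mem_smul_pointwise_iff_exists _ _ _).trans
    ⟨fun ⟨y, hy, e⟩ => ⟨y, hy, e.symm⟩, fun ⟨y, hy, e⟩ => ⟨y, hy, e.symm⟩⟩

section Poly

variable (hR : IsBase R I) {n : ℕ} {M : Type u} [AddCommGroup M] [Module (RPow R I n) M] [Module R M]
  [IsScalarTower R (RPow R I n) M] [Module.Finite (RPow R I n) M]

omit [Module.Finite (RPow R I n) M] in
theorem sat_of_isSat {t : R} {N : Submodule (RPow R I n) M} (hN : ∀ x, t • x ∈ N → x ∈ N) :
    ∀ (k : ℕ) (x : M), t ^ k • x ∈ N → x ∈ N := by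
  intro k
  induction k with
  | zero => intro x hx; simpa using hx
  | succ k ih => intro x hx; rw [pow_succ, mul_smul] at hx; exact hN _ (ih _ hx)

include hR

theorem fg_of_saturated (N : Submodule (RPow R I n) M)
    (hsat : ∀ (x : M) (k : ℕ), (∀ a ∈ I ^ k, a • x ∈ N) → x ∈ N) : N.FG := by
  rcases isBase_cases hR with ⟨hN, -⟩ | ⟨t, h⟩
  · have := rpow_isNoetherianRing I n
    exact IsNoetherian.noetherian N
  obtain ⟨s, q, hq⟩ := Module.Finite.exists_fin' (RPow R I n) M
  have hfg : (N.comap q).FG := h.fg_of_isSat n _ fun x hx => hsat (q x) 1 fun a ha => by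
    rw [pow_one, h.eq] at ha
    obtain ⟨b, rfl⟩ := Ideal.mem_span_singleton.1 ha
    rw [mul_comm, mul_smul]
    refine N.smul_of_tower_mem b ?_
    rwa [← LinearMap.map_smul_of_tower]
  simpa [Submodule.map_comap_eq_of_surjective hq] using hfg.map q

/-- The saturation of a submodule is carried into it by a power of `t`. -/
theorem exists_sat_bound {t : R} (h : IsValBase R I t) (N : Submodule (RPow R I n) M) :
    ∃ (S : Submodule (RPow R I n) M) (n₀ : ℕ), N ≤ S ∧ (∀ x, t • x ∈ S → x ∈ S) ∧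
      ∀ x ∈ S, t ^ n₀ • x ∈ N := by
  classical
  have hup : ∀ {x : M} {a b : ℕ}, a ≤ b → t ^ a • x ∈ N → t ^ b • x ∈ N := by
    intro x a b hab hx
    obtain ⟨c, rfl⟩ := Nat.exists_eq_add_of_le hab
    rw [add_comm, pow_add, mul_smul]
    exact N.smul_of_tower_mem _ hx
  let S : Submodule (RPow R I n) M :=
    { carrier := {x | ∃ k : ℕ, t ^ k • x ∈ N}
      zero_mem' := ⟨0, by simp⟩
      add_mem' := fun {a b} ⟨i, hi⟩ ⟨j, hj⟩ => ⟨max i j, by
        rw [smul_add]; exact N.add_mem (hup (le_max_left _ _) hi) (hup (le_max_right _ _) hj)⟩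
      smul_mem' := fun c a ⟨i, hi⟩ => ⟨i, by rw [smul_comm]; exact N.smul_mem c hi⟩ }
  have hS : ∀ x, t • x ∈ S → x ∈ S := fun x ⟨k, hk⟩ => ⟨k + 1, by rw [pow_succ, mul_smul]; exact hk⟩
  have hfg : S.FG := fg_of_saturated hR S fun x k hx => by
    refine sat_of_isSat hS k x ?_
    exact (h.forall_pow_iff (S.restrictScalars R) x k).1 hx
  obtain ⟨G, hG⟩ := hfg
  choose k hk using fun g : G => (show (g : M) ∈ S from hG ▸ Submodule.subset_span g.2)
  refine ⟨S, Finset.univ.sup k, fun x hx => ⟨0, by simpa using hx⟩, hS, fun x hx => ?_⟩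
  rw [← hG] at hx
  induction hx using Submodule.span_induction with
  | mem x hx => exact hup (Finset.le_sup (Finset.mem_univ (⟨x, hx⟩ : G))) (hk ⟨x, hx⟩)
  | zero => simp
  | add x y _ _ hx hy => rw [smul_add]; exact N.add_mem hx hy
  | smul c x _ hx => rw [smul_comm]; exact N.smul_mem c hx

theorem artinRees (N : Submodule (RPow R I n) M) :
    ∃ n₀ : ℕ, ∀ m : ℕ,
      (I ^ (m + n₀) • (⊤ : Submodule R M)) ⊓ N.restrictScalars R ≤ I ^ m • N.restrictScalars R := by
  rcases isBase_cases hR with ⟨hN, -⟩ | ⟨t, h⟩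
  · have := rpow_isNoetherianRing I n
    obtain ⟨k, hk⟩ := Ideal.exists_pow_inf_eq_pow_smul (I.map (algebraMap R (RPow R I n))) N
    refine ⟨k, fun m x hx => ?_⟩
    obtain ⟨hx1, hx2⟩ := hx
    have e : ∀ (j : ℕ) (L : Submodule (RPow R I n) M),
        ((I.map (algebraMap R (RPow R I n))) ^ j • L).restrictScalars R = I ^ j • L.restrictScalars R := by
      intro j L
      rw [← Ideal.map_pow, Ideal.smul_restrictScalars]
    have h1 : x ∈ (I.map (algebraMap R (RPow R I n))) ^ (m + k) • (⊤ : Submodule (RPow R I n) M) ⊓ N := by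
      refine ⟨?_, hx2⟩
      change x ∈ ((I.map (algebraMap R (RPow R I n))) ^ (m + k) • (⊤ : Submodule (RPow R I n) M)).restrictScalars R
      rw [e, Submodule.restrictScalars_top]
      exact hx1
    rw [hk (m + k) (Nat.le_add_left k m), Nat.add_sub_cancel] at h1
    have h2 : x ∈ (I.map (algebraMap R (RPow R I n))) ^ m • N :=
      Submodule.smul_mono le_rfl inf_le_right h1
    rwa [← Submodule.restrictScalars_mem R, e] at h2
  obtain ⟨S, n₀, hNS, hS, hb⟩ := exists_sat_bound hR h N
  refine ⟨n₀, fun m x hx => ?_⟩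
  obtain ⟨hx1, hx2⟩ := hx
  obtain ⟨y, -, rfl⟩ := (h.mem_pow_smul_top _ _ _).1 hx1
  refine (h.mem_pow_smul_top _ _ _).2 ⟨t ^ n₀ • y, hb y (sat_of_isSat hS _ _ (hNS hx2)), ?_⟩
  rw [pow_add, mul_smul]

end Poly

variable (hR : IsBase R I) (n : ℕ) (M : Type u) [AddCommGroup M] [Module (RPow R I n) M] [Module R M]
  [IsScalarTower R (RPow R I n) M] [Module.Finite (RPow R I n) M]
include hR n

theorem isHausdorff : IsHausdorff I M := by
  rcases isBase_cases hR with ⟨hN, -⟩ | ⟨t, h⟩
  · have := rpow_isNoetherianRing I n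
    have := rpow_isAdicComplete (isBase_fg hR) n
    rw [← IsHausdorff.map_algebraMap_iff (S := RPow R I n)]
    exact IsHausdorff.of_le_jacobson _ _ (IsAdicComplete.le_jacobson_bot _)
  constructor
  intro x hx
  obtain ⟨s, q, hq⟩ := Module.Finite.exists_fin' (RPow R I n) M
  obtain ⟨a, rfl⟩ := hq x
  obtain ⟨S, n₀, hNS, hS, hb⟩ := exists_sat_bound hR h (LinearMap.ker q)
  have happ : ∀ k : ℕ, ∃ y ∈ LinearMap.ker q, ∃ z, a - y = t ^ k • z := by
    intro k
    have hk := hx k
    rw [SModEq.zero, h.mem_pow_smul_top] at hk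
    obtain ⟨m, -, hm⟩ := hk
    obtain ⟨z, rfl⟩ := hq m
    exact ⟨a - t ^ k • z, by rw [LinearMap.mem_ker, map_sub, LinearMap.map_smul_of_tower, hm, sub_self],
      z, sub_sub_cancel _ _⟩
  have haS : a ∈ S := h.mem_of_forall_approx n S hS a fun k => by
    obtain ⟨y, hy, z, hz⟩ := happ k
    exact ⟨y, hNS hy, z, hz⟩
  obtain ⟨y, hy, z, hz⟩ := happ n₀
  have hzS : z ∈ S := sat_of_isSat hS n₀ z (hz ▸ S.sub_mem haS (hNS hy))
  have := (LinearMap.ker q).add_mem hy (hb z hzS)
  rw [← hz, add_sub_cancel] at this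
  exact this

theorem isAdicComplete : IsAdicComplete I M := by
  have hH := isHausdorff hR n M
  rw [← IsAdicComplete.map_algebraMap_iff (S := RPow R I n)]
  have := rpow_isAdicComplete (isBase_fg hR) n
  set J := I.map (algebraMap R (RPow R I n))
  obtain ⟨s, q, hq⟩ := Module.Finite.exists_fin' (RPow R I n) M
  have hP : IsPrecomplete J M := by
    rw [← AdicCompletion.of_surjective_iff]
    intro y
    obtain ⟨u, rfl⟩ := AdicCompletion.map_surjective (I := J) hq y
    choose c hc using fun j => AdicCompletion.of_surjective J (RPow R I n)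
      (AdicCompletion.pi J (fun _ : Fin s => RPow R I n) u j)
    refine ⟨q c, ?_⟩
    rw [← AdicCompletion.map_of]
    congr 1
    refine (AdicCompletion.piEquivFin J s).injective ?_
    rw [AdicCompletion.piEquivFin_apply, AdicCompletion.piEquivFin_apply]
    funext j
    rw [← hc j]
    exact AdicCompletion.map_of J (LinearMap.proj (R := RPow R I n) (φ := fun _ : Fin s => RPow R I n) j) c
  exact { toIsPrecomplete := hP, toIsHausdorff := IsHausdorff.map_algebraMap_iff.2 hH }


end Groth.Agent.AdicRingLib
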