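import Mathlib

/-!
# Flatness through a non-zero-divisor `π`: torsion free, flat modulo `π` and flat after inverting `π`
-/

set_option autoImplicit false

open TensorProduct

namespace Groth.Agent.AdicRingLib

universe u v

theorem flat_of_flat_quotient_away {A : Type u} [CommRing A] {π : A} (hπ : π ∈ nonZeroDivisors A)
    (M : Type v) [AddCommGroup M] [Module A M]
    (htf : ∀ (x : M) (n : ℕ), π ^ n • x = 0 → x = 0)
    (hq : Module.Flat (A ⧸ Ideal.span {π}) ((A ⧸ Ideal.span {π}) ⊗[A] M))
    (hl : Module.Flat (Localization.Away π) ((Localization.Away π) ⊗[A] M)) :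
    Module.Flat A M := by
  classical
  refine Module.Flat.of_forall_isTrivialRelation fun {l f x} hfx => ?_
  -- clear denominators in a factorisation after inverting `π`
  let S := Submonoid.powers π
  let Aπ := Localization.Away π
  let ι : M →ₗ[A] Aπ ⊗[A] M := TensorProduct.mk A Aπ M 1
  haveI : IsLocalizedModule S ι := IsLocalization.tensorProduct_isLocalizedModule S Aπ
  have h0 : ∑ i, algebraMap A Aπ (f i) • ι (x i) = 0 := by
    simp only [algebraMap_smul, ← map_smul, ← map_sum, hfx, map_zero]
  obtain ⟨n, a', y', hxy, hfa⟩ := Module.Flat.isTrivialRelation_of_sum_smul_eq_zero h0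
  simp only at hxy hfa
  obtain ⟨⟨b, hb⟩, hbi⟩ := IsLocalization.exist_integer_multiples_of_finite S (fun p : Fin l × Fin n => a' p.1 p.2)
  obtain ⟨⟨c, hc⟩, hci⟩ := IsLocalizedModule.exist_integer_multiples_of_finite (f := ι) S y'
  choose a ha using fun i j => hbi (i, j)
  choose y hy using hci
  have hbc : ∀ i, ι ((b * c) • x i) = ι (∑ j, a i j • y j) := by
    intro i
    rw [map_smul, map_sum, hxy i, Finset.smul_sum]
    refine Finset.sum_congr rfl fun j _ => ?_
    rw [map_smul]
    have e1 : algebraMap A Aπ (a i j) = b • a' i j := ha i j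
    have e2 : ι (y j) = c • y' j := hy j
    rw [e2, ← algebraMap_smul Aπ (a i j), e1, smul_assoc, smul_comm (a' i j) c, smul_smul]
  choose d hd using fun i => (IsLocalizedModule.eq_iff_exists S ι).1 (hbc i)
  have hbot : ∀ j, ∑ i, f i * a i j = 0 := by
    intro j
    refine IsLocalization.injective Aπ (Submonoid.powers_le.2 hπ) ?_
    rw [map_zero, map_sum, ← smul_zero b, ← hfa j, Finset.smul_sum]
    refine Finset.sum_congr rfl fun i _ => ?_
    rw [map_mul, show algebraMap A Aπ (a i j) = b • a' i j from ha i j, mul_smul_comm]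
  -- a common power of `π`
  let D : A := ∏ i, (d i : A)
  have hD : D ∈ S := prod_mem fun i _ => (d i).2
  obtain ⟨K, hK⟩ : D * (b * c) ∈ S := S.mul_mem hD (S.mul_mem hb hc)
  let T : ℕ → Prop := fun k => ∃ (n : ℕ) (a : Fin l → Fin n → A) (y : Fin n → M),
    (∀ i, π ^ k • x i = ∑ j, a i j • y j) ∧ ∀ j, ∑ i, f i * a i j = 0
  have hT : T K := by
    refine ⟨n, a, fun j => D • y j, fun i => ?_, hbot⟩
    have hi : (d i : A) • ((b * c) • x i) = (d i : A) • ∑ j, a i j • y j := hd i
    have hDd : D = (∏ j ∈ Finset.univ.erase i, (d j : A)) * (d i : A) :=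
      (Finset.prod_erase_mul _ _ (Finset.mem_univ i)).symm
    rw [show π ^ K = D * (b * c) from hK, mul_smul, hDd, mul_smul, hi, Finset.smul_sum, Finset.smul_sum]
    refine Finset.sum_congr rfl fun j _ => ?_
    simp only [smul_smul]
    congr 1; ring
  -- descent on the exponent
  have hstep : ∀ k, T (k + 1) → T k := by
    rintro k ⟨n, a, y, hxy, hfa⟩
    let Ā := A ⧸ Ideal.span {π}
    let q : M →ₗ[A] Ā ⊗[A] M := TensorProduct.mk A Ā M 1
    have hqs : Function.Surjective q := TensorProduct.mk_surjective (R := A) (S := Ā) (M := M) Ideal.Quotient.mk_surjective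
    have hqπ : ∀ m, q (π • m) = 0 := fun m => by
      rw [map_smul, ← algebraMap_smul Ā π, Ideal.Quotient.algebraMap_eq,
        Ideal.Quotient.eq_zero_iff_mem.2 (Ideal.mem_span_singleton_self π), zero_smul]
    have hqker : ∀ m, q m = 0 → ∃ w, m = π • w := fun m hm => by
      have h1 := congrArg (TensorProduct.quotTensorEquivQuotSMul M (Ideal.span {π})) hm
      rw [map_zero, TensorProduct.mk_apply] at h1
      have h2 : (Submodule.Quotient.mk m : M ⧸ (Ideal.span {π} • ⊤ : Submodule A M)) = 0 := by
        rw [← h1]; exact (TensorProduct.quotTensorEquivQuotSMul_mk_tmul _ _ _).trans (by simp) |>.symm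
      rw [Submodule.Quotient.mk_eq_zero, Submodule.ideal_span_singleton_smul] at h2
      obtain ⟨w, -, hw⟩ := Submodule.mem_smul_pointwise_iff_exists _ _ _ |>.1 h2
      exact ⟨w, hw.symm⟩
    have hcomp : (Fintype.linearCombination Ā fun j => q (y j)) ∘ₗ
        (Fintype.linearCombination Ā fun i => fun j => Ideal.Quotient.mk _ (a i j)) = 0 := by
      refine (Pi.basisFun Ā (Fin l)).ext fun i => ?_
      have : ∑ j, (Ideal.Quotient.mk (Ideal.span {π}) (a i j)) • q (y j) = 0 := by
        simp only [← Ideal.Quotient.algebraMap_eq, algebraMap_smul, ← map_smul, ← map_sum, ← hxy i,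
          pow_succ', mul_smul, hqπ]
      simpa [Fintype.linearCombination_apply, Pi.single_apply] using this
    obtain ⟨p, Cl, Z, hZ, hC⟩ := Module.Flat.exists_factorization_of_comp_eq_zero_of_free hcomp
    choose C hCl using fun j q' => Ideal.Quotient.mk_surjective (Cl (Pi.single j 1) q')
    choose z hz using fun q' => hqs (Z (Finsupp.single q' 1))
    have hyz : ∀ j, q (y j - ∑ q', C j q' • z q') = 0 := by
      intro j
      have h1 := LinearMap.congr_fun hZ (Pi.single j 1)
      rw [LinearMap.comp_apply, Fintype.linearCombination_apply_single, one_smul] at h1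
      rw [map_sub, h1, map_sum, sub_eq_zero]
      conv_lhs => rw [← Finsupp.univ_sum_single (Cl (Pi.single j 1)), map_sum]
      refine Finset.sum_congr rfl fun q' _ => ?_
      rw [map_smul, hz, ← algebraMap_smul Ā (C j q'), Ideal.Quotient.algebraMap_eq, hCl,
        ← map_smul Z, Finsupp.smul_single, smul_eq_mul, mul_one]
    choose w hw using fun j => hqker _ (hyz j)
    have haC : ∀ i q', ∃ D, ∑ j, a i j * C j q' = π * D := by
      intro i q'
      refine Ideal.mem_span_singleton.1 (Ideal.Quotient.eq_zero_iff_mem.1 ?_)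
      have h1 := DFunLike.congr_fun (LinearMap.congr_fun hC (Pi.single i 1)) q'
      rw [LinearMap.comp_apply, Fintype.linearCombination_apply_single, one_smul,
        pi_eq_sum_univ' (fun j => Ideal.Quotient.mk _ (a i j)), map_sum] at h1
      simpa [hCl, Finsupp.finsetSum_apply] using h1
    choose D hD using haC
    refine ⟨p + n, fun i => Fin.append (D i) (a i), Fin.append z w, fun i => ?_, fun j => ?_⟩
    · have h1 : π • (π ^ k • x i - (∑ q', D i q' • z q' + ∑ j, a i j • w j)) = 0 := by
        rw [smul_sub, smul_smul, ← pow_succ', hxy, smul_add, sub_eq_zero, Finset.smul_sum, Finset.smul_sum]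
        simp only [smul_smul, ← hD, Finset.sum_smul]
        rw [Finset.sum_comm, ← Finset.sum_add_distrib]
        refine Finset.sum_congr rfl fun j _ => ?_
        rw [mul_comm π, mul_smul, ← hw j, smul_sub, Finset.smul_sum]
        simp only [smul_smul]
        abel
      have := sub_eq_zero.1 (htf _ 1 (by rwa [pow_one]))
      rw [this, Fin.sum_univ_add]
      simp
    · induction j using Fin.addCases with
      | left q' =>
        simp only [Fin.append_left]
        refine (mul_right_mem_nonZeroDivisors_eq_zero_iff hπ).1 ?_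
        rw [Finset.sum_mul]
        calc ∑ i, f i * D i q' * π = ∑ j, ∑ i, f i * a i j * C j q' := by
              rw [Finset.sum_comm]
              refine Finset.sum_congr rfl fun i _ => ?_
              rw [mul_assoc, mul_comm (D i q'), ← hD, Finset.mul_sum]
              exact Finset.sum_congr rfl fun j _ => (mul_assoc _ _ _).symm
          _ = 0 := Finset.sum_eq_zero fun j _ => by rw [← Finset.sum_mul, hfa, zero_mul]
      | right j => simpa using hfa j
  have h00 : T 0 := by
    clear hK
    induction K with
    | zero => exact hT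
    | succ K ih => exact ih (hstep K hT)
  obtain ⟨n₀, a₀, y₀, h1, h2⟩ := h00
  exact ⟨n₀, a₀, y₀, fun i => by simpa using h1 i, h2⟩

end Groth.Agent.AdicRingLib
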