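import Groth.Agent.AdicRingLib.TFT
import Groth.Agent.AdicLemmas.Basic
import Groth.Agent.Hensel.FactorNonMonic

/-!
# Complete valuation rings of height one

Henselianity, extensions of the valuation to algebraic extensions (integral closure), the norm
criterion, and finiteness of one-dimensional local admissible algebras.
-/

set_option autoImplicit false

open Polynomial IsLocalRing

namespace Groth.Agent.AdicRingLib.HeightOne

universe u v

variable {R : Type u} [CommRing R] [IsDomain R] [ValuationRing R] [Ring.KrullDimLE 1 R]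
  {t : R} (ht : t ≠ 0) [IsAdicComplete (Ideal.span {t}) R]
include ht

omit ht in
theorem notUnit : ¬ IsUnit t := by
  intro hu
  have h10 : (1 : R) = 0 := IsHausdorff.haus' (I := Ideal.span {t}) 1 fun n => by
    rw [SModEq.zero, Ideal.span_singleton_eq_top.2 hu, Ideal.top_pow, smul_eq_mul, Ideal.mul_top]
    exact Submodule.mem_top
  exact one_ne_zero h10

theorem isValBase : IsValBase R (Ideal.span {t}) t :=
  ⟨inferInstance, inferInstance, inferInstance, ht, rfl, notUnit⟩

theorem isBase : AdicRing.IsBase R (Ideal.span {t}) :=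
  ⟨inferInstance, Or.inr ⟨inferInstance, inferInstance, inferInstance, t, ht, rfl⟩⟩

theorem exists_pow_dvd_of_mem {a : R} (ha : a ∈ maximalIdeal R) : ∃ L : ℕ, t ∣ a ^ L := by
  rcases eq_or_ne a 0 with rfl | ha0
  · exact ⟨1, by simp⟩
  · exact Sat.exists_pow_dvd ht ha ha0

theorem henselianLocalRing : HenselianLocalRing R := by
  haveI : HenselianRing R (maximalIdeal R) := by
    refine Groth.Agent.Hensel.of_le_radical (I := Ideal.span {t}) fun a ha => ?_
    obtain ⟨L, hL⟩ := exists_pow_dvd_of_mem ht ha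
    exact ⟨L, Ideal.mem_span_singleton.2 hL⟩
  exact Groth.Agent.Hensel.henselianRing_maximalIdeal_iff.1 inferInstance

/-- A primitive polynomial that is irreducible over the fraction field reduces to degree `0` or to
full degree. -/
theorem unit_leading_or_constant (f : R[X]) {K : Type u} [Field K] [Algebra R K] [IsFractionRing R K]
    (hirr : Irreducible (f.map (algebraMap R K))) (hcont : ∃ i, IsUnit (f.coeff i)) :
    IsUnit f.leadingCoeff ∨ IsUnit (f.coeff 0) := by
  classical
  haveI := henselianLocalRing ht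
  obtain ⟨i, hi⟩ := hcont
  set fb := f.map (residue R) with hfb
  have hfb0 : fb ≠ 0 := fun h => (residue_ne_zero_iff_isUnit (f.coeff i)).2 hi (by
    have := congrArg (fun p : (ResidueField R)[X] => p.coeff i) h
    simpa [hfb, coeff_map] using this)
  by_cases htop : fb.natDegree = f.natDegree
  · left
    rw [← residue_ne_zero_iff_isUnit, leadingCoeff, ← coeff_map, ← hfb, ← htop]
    exact leadingCoeff_ne_zero.2 hfb0
  by_cases hbot : fb.natDegree = 0
  · right
    rw [← residue_ne_zero_iff_isUnit, ← coeff_map, ← hfb]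
    rw [← leadingCoeff_ne_zero, leadingCoeff, hbot] at hfb0
    exact hfb0
  exfalso
  have hlt : fb.natDegree < f.natDegree := lt_of_le_of_ne natDegree_map_le htop
  have hlc : fb.leadingCoeff ≠ 0 := leadingCoeff_ne_zero.2 hfb0
  obtain ⟨g, h, hgh, hg, hgg, hhh⟩ := Groth.Agent.Hensel.exists_factor_monic f
    (fb * C fb.leadingCoeff⁻¹) (C fb.leadingCoeff) (monic_mul_leadingCoeff_inv hfb0)
    ⟨0, C fb.leadingCoeff⁻¹, by rw [zero_mul, zero_add, ← C_mul, inv_mul_cancel₀ hlc, C_1]⟩ (by
      rw [mul_assoc, ← C_mul, inv_mul_cancel₀ hlc, C_1, mul_one])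
  have hgd : g.natDegree = fb.natDegree := by
    rw [← hg.natDegree_map (residue R), hgg, natDegree_mul_C (inv_ne_zero hlc)]
  have hinj : Function.Injective (algebraMap R K) := IsFractionRing.injective R K
  have hh0 : h ≠ 0 := fun h0 => by
    rw [hgh, h0, mul_zero, natDegree_zero] at hlt
    omega
  have hdeg : f.natDegree = g.natDegree + h.natDegree := by rw [hgh, natDegree_mul hg.ne_zero hh0]
  rcases hirr.isUnit_or_isUnit (by rw [hgh, Polynomial.map_mul]) with h1 | h1
  · have := natDegree_eq_zero_of_isUnit h1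
    rw [natDegree_map_eq_of_injective hinj] at this
    omega
  · have := natDegree_eq_zero_of_isUnit h1
    rw [natDegree_map_eq_of_injective hinj] at this
    omega

/-- A multiple of an irreducible polynomial over the fraction field with a unit coefficient. -/
theorem exists_primitive (K : Type u) [Field K] [Algebra R K] [IsFractionRing R K] (p : K[X])
    (hp : p ≠ 0) : ∃ (f : R[X]) (c : K), c ≠ 0 ∧ f.map (algebraMap R K) = C c * p ∧
      ∃ i, IsUnit (f.coeff i) := by
  classical
  obtain ⟨b, hb⟩ := IsLocalization.integerNormalization_map_to_map (nonZeroDivisors R) p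
  set F := IsLocalization.integerNormalization (nonZeroDivisors R) p
  have hF0 : F.map (algebraMap R K) ≠ 0 := by
    rw [hb, Algebra.smul_def, Polynomial.algebraMap_apply]
    exact mul_ne_zero (C_ne_zero.2 ((map_ne_zero_iff _ (IsFractionRing.injective R K)).2
      (nonZeroDivisors.ne_zero b.2))) hp
  have hF : F ≠ 0 := fun h => hF0 (by rw [h, Polynomial.map_zero])
  obtain ⟨a, ha, hmin⟩ := Sat.exists_dvd_all F.support (Polynomial.support_nonempty.2 hF) F.coeff
  have hdiv : ∀ n, F.coeff a ∣ F.coeff n := fun n => by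
    by_cases hn : n ∈ F.support
    · exact hmin n hn
    · rw [notMem_support_iff.1 hn]; exact dvd_zero _
  have ha0 : F.coeff a ≠ 0 := mem_support_iff.1 ha
  obtain ⟨f, hf⟩ := (C_dvd_iff_dvd_coeff (F.coeff a) F).2 hdiv
  have hinj : Function.Injective (algebraMap R K) := IsFractionRing.injective R K
  have hFc : algebraMap R K (F.coeff a) ≠ 0 := (map_ne_zero_iff _ hinj).2 ha0
  refine ⟨f, (algebraMap R K (F.coeff a))⁻¹ * algebraMap R K b, mul_ne_zero (inv_ne_zero hFc)
    ((map_ne_zero_iff _ hinj).2 (nonZeroDivisors.ne_zero b.2)), ?_, a, ?_⟩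
  · have h1 := congrArg (Polynomial.map (algebraMap R K)) hf
    rw [Polynomial.map_mul, Polynomial.map_C, hb, Algebra.smul_def, Polynomial.algebraMap_apply] at h1
    rw [C_mul, mul_assoc, h1, ← mul_assoc, ← C_mul, inv_mul_cancel₀ hFc, C_1, one_mul]
  · have h1 := congrArg (fun q : R[X] => q.coeff a) hf
    simp only [coeff_C_mul] at h1
    rw [mul_left_cancel₀ ha0 (by rw [← h1, mul_one] : F.coeff a * f.coeff a = F.coeff a * 1)]
    exact isUnit_one

/-- The minimal polynomial gives integrality of the element or of its inverse. -/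
theorem integral_or_inv (K : Type u) [Field K] [Algebra R K] [IsFractionRing R K]
    {L : Type v} [Field L] [Algebra R L] [Algebra K L] [IsScalarTower R K L] {x : L}
    (hx : IsIntegral K x) (hx0 : x ≠ 0) : IsIntegral R x ∨ IsIntegral R x⁻¹ := by
  classical
  obtain ⟨f, c, hc, hf, hcont⟩ := exists_primitive ht K _ (minpoly.ne_zero hx)
  have hirr : Irreducible (f.map (algebraMap R K)) := by
    rw [hf]
    exact (irreducible_isUnit_mul (isUnit_C.2 (Ne.isUnit hc))).2 (minpoly.irreducible hx)
  have hfx : aeval x f = 0 := by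
    rw [← aeval_map_algebraMap K, hf, map_mul, minpoly.aeval, mul_zero]
  rcases unit_leading_or_constant ht f hirr hcont with h | h
  · left
    have := isIntegral_leadingCoeff_smul f x hfx
    simpa [smul_smul] using this.smul ((h.unit⁻¹ : Rˣ) : R)
  · right
    haveI := invertibleOfNonzero hx0
    have h2 : aeval x⁻¹ f.reverse = 0 := by
      rw [aeval_def, ← invOf_eq_inv, eval₂_reverse_eq_zero_iff]
      exact hfx
    have h3 : f.reverse.leadingCoeff = f.coeff 0 := by
      rw [reverse_leadingCoeff, trailingCoeff, natTrailingDegree_eq_zero_of_constantCoeff_ne_zero h.ne_zero]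
    have := isIntegral_leadingCoeff_smul f.reverse x⁻¹ h2
    rw [h3] at this
    simpa [smul_smul] using this.smul ((h.unit⁻¹ : Rˣ) : R)

/-- Integrality through the norm. -/
theorem isIntegral_iff_coeff_zero (K : Type u) [Field K] [Algebra R K] [IsFractionRing R K]
    {L : Type v} [Field L] [Algebra R L] [Algebra K L] [IsScalarTower R K L] {x : L}
    (hx : IsIntegral K x) : IsIntegral R x ↔ (minpoly K x).coeff 0 ∈ (algebraMap R K).range := by
  classical
  constructor
  · intro h
    rw [minpoly.isIntegrallyClosed_eq_field_fractions' K h, coeff_map]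
    exact ⟨_, rfl⟩
  rintro ⟨r, hr⟩
  rcases eq_or_ne x 0 with rfl | hx0
  · exact isIntegral_zero
  obtain ⟨f, c, hc, hf, hcont⟩ := exists_primitive ht K _ (minpoly.ne_zero hx)
  have hirr : Irreducible (f.map (algebraMap R K)) := by
    rw [hf]
    exact (irreducible_isUnit_mul (isUnit_C.2 (Ne.isUnit hc))).2 (minpoly.irreducible hx)
  have hfx : aeval x f = 0 := by
    rw [← aeval_map_algebraMap K, hf, map_mul, minpoly.aeval, mul_zero]
  have hinj : Function.Injective (algebraMap R K) := IsFractionRing.injective R K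
  have hlead : algebraMap R K f.leadingCoeff = c := by
    rw [← leadingCoeff_map_of_injective hinj, hf, leadingCoeff_mul, leadingCoeff_C,
      (minpoly.monic hx).leadingCoeff, mul_one]
  have h : IsUnit f.leadingCoeff := by
    rcases unit_leading_or_constant ht f hirr hcont with h | h
    · exact h
    · have h1 : f.coeff 0 = f.leadingCoeff * r := hinj (by
        rw [map_mul, hlead, hr, ← coeff_map, hf, coeff_C_mul])
      exact isUnit_of_mul_isUnit_left (h1 ▸ h)
  have := isIntegral_leadingCoeff_smul f x hfx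
  simpa [smul_smul] using this.smul ((h.unit⁻¹ : Rˣ) : R)

section Admissible

variable {B : Type u} [CommRing B] [Algebra R B] [IsDomain B] [IsLocalRing B]
  (hB : AdicRing.Admissible R (Ideal.span {t}) B) (hdim : ringKrullDim B = 1)
include hB hdim

omit [IsDomain B] [IsLocalRing B] hdim in
theorem algebraMap_t_ne_zero [Nontrivial B] : algebraMap R B t ≠ 0 := fun h =>
  one_ne_zero (hB.2 1 1 fun a ha => by
    rw [pow_one] at ha
    obtain ⟨b, rfl⟩ := Ideal.mem_span_singleton.1 ha
    rw [Algebra.smul_def, map_mul, h, zero_mul, zero_mul])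

theorem module_finite : Module.Finite R B := by
  classical
  obtain ⟨⟨n, φ, hφ, hφker⟩, hT⟩ := hB
  have hB' : AdicRing.Admissible R (Ideal.span {t}) B := ⟨⟨n, φ, hφ, hφker⟩, hT⟩
  haveI hdim1 : Ring.KrullDimLE 1 B := Ring.krullDimLE_iff.2 (le_of_eq hdim)
  set tB := algebraMap R B t
  let Q := B ⧸ Ideal.span {tB}
  have hcomplete : IsAdicComplete (Ideal.span {t}) B :=
    isAdicComplete_tft (isBase ht) ⟨n, φ, hφ⟩ B
  -- `Q` is of finite type
  haveI : Algebra.FiniteType R Q := by
    let g : MvPolynomial (Fin n) R →ₐ[R] Q :=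
      (Ideal.Quotient.mkₐ R _).comp (φ.comp ((Algebra.ofId (MvPolynomial (Fin n) R) _).restrictScalars R))
    refine Algebra.FiniteType.of_surjective g fun q => ?_
    obtain ⟨b, rfl⟩ := Ideal.Quotient.mk_surjective q
    obtain ⟨p, rfl⟩ := hφ b
    let J := (Ideal.span {t}).map (MvPolynomial.C : R →+* MvPolynomial (Fin n) R)
    obtain ⟨c, hc⟩ := Ideal.Quotient.mk_surjective (AdicCompletion.evalOneₐ J p)
    have hmem : p - algebraMap (MvPolynomial (Fin n) R) _ c ∈ RingHom.ker (AdicCompletion.evalOneₐ J).toRingHom := by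
      rw [RingHom.mem_ker, map_sub, sub_eq_zero]
      exact hc.symm.trans ((AdicCompletion.evalOneₐ J).commutes c).symm
    rw [AdicCompletion.ker_evalOneₐ_eq_map J ((isValBase ht).fg.map _), Ideal.map_map] at hmem
    refine ⟨c, ?_⟩
    show Ideal.Quotient.mk _ (φ (algebraMap _ _ c)) = Ideal.Quotient.mk _ (φ p)
    rw [eq_comm, Ideal.Quotient.eq, ← map_sub]
    have h2 := Ideal.mem_map_of_mem φ.toRingHom hmem
    rw [Ideal.map_map, Ideal.map_span, Set.image_singleton] at h2
    rw [show tB = φ (algebraMap R _ t) from (φ.commutes t).symm]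
    exact h2
  -- the only prime of `Q`
  have htB : tB ≠ 0 := algebraMap_t_ne_zero ht hB'
  have hprime : ∀ P : Ideal Q, P.IsPrime → P.comap (Ideal.Quotient.mk _) = maximalIdeal B := by
    intro P hP
    have hP' := hP.comap (Ideal.Quotient.mk (Ideal.span {tB}))
    refine IsLocalRing.eq_maximalIdeal (hP'.isMaximal_of_ne_bot fun h0 => htB ?_)
    rw [← Ideal.mem_bot, ← h0, Ideal.mem_comap,
      Ideal.Quotient.eq_zero_iff_mem.2 (Ideal.mem_span_singleton_self tB)]
    exact P.zero_mem
  let 𝔪 : Ideal Q := (maximalIdeal B).map (Ideal.Quotient.mk _)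
  have hnil : ∀ q ∈ 𝔪, IsNilpotent q := by
    intro q hq
    rw [← mem_nilradical, nilradical_eq_sInf]
    refine Submodule.mem_sInf.2 fun P hP => ?_
    exact (Ideal.map_le_iff_le_comap.2 (hprime P hP).ge) hq
  haveI hmax : 𝔪.IsMaximal := by
    refine Ideal.IsMaximal.map_of_surjective_of_ker_le Ideal.Quotient.mk_surjective ?_
    rw [Ideal.mk_ker, Ideal.span_le, Set.singleton_subset_iff]
    intro hu
    obtain ⟨z, hz⟩ := hu.exists_left_inv
    refine htB (hcomplete.toIsHausdorff.haus' tB fun k => ?_)
    rw [SModEq.zero]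
    have : tB = t ^ k • (z ^ k * tB) := by
      rw [Algebra.smul_def, map_pow, ← mul_assoc, ← mul_pow, mul_comm (algebraMap R B t) z, hz, one_pow, one_mul]
    rw [this]
    exact Submodule.smul_mem_smul (Ideal.pow_mem_pow (Ideal.mem_span_singleton_self t) k) Submodule.mem_top
  -- the residue field is finite over `R`
  letI := Ideal.Quotient.field 𝔪
  haveI : Algebra.FiniteType R (Q ⧸ 𝔪) := Algebra.FiniteType.of_surjective
    (Ideal.Quotient.mkₐ R 𝔪) Ideal.Quotient.mk_surjective
  have hmnil : ∀ a ∈ maximalIdeal R, IsNilpotent (algebraMap R Q a) := by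
    intro a ha
    obtain ⟨L, d, hd⟩ := exists_pow_dvd_of_mem ht ha
    refine ⟨L, ?_⟩
    rw [← map_pow, hd, map_mul, IsScalarTower.algebraMap_apply R B Q t, Ideal.Quotient.algebraMap_eq,
      Ideal.Quotient.eq_zero_iff_mem.2 (Ideal.mem_span_singleton_self _), zero_mul]
  letI : Algebra (ResidueField R) (Q ⧸ 𝔪) :=
    (Ideal.Quotient.lift (maximalIdeal R) (algebraMap R (Q ⧸ 𝔪)) fun a ha => by
      rw [IsScalarTower.algebraMap_apply R Q (Q ⧸ 𝔪)]
      exact ((hmnil a ha).map (algebraMap Q (Q ⧸ 𝔪))).eq_zero).toAlgebra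
  haveI : IsScalarTower R (ResidueField R) (Q ⧸ 𝔪) := IsScalarTower.of_algebraMap_eq fun r => rfl
  haveI : Algebra.FiniteType (ResidueField R) (Q ⧸ 𝔪) :=
    Algebra.FiniteType.of_restrictScalars_finiteType R (ResidueField R) (Q ⧸ 𝔪)
  haveI : Module.Finite (ResidueField R) (Q ⧸ 𝔪) :=
    finite_of_finite_type_of_isJacobsonRing (ResidueField R) (Q ⧸ 𝔪)
  haveI : Algebra.IsIntegral R Q := ⟨fun q => by
    obtain ⟨p, hpm, hp⟩ := (Algebra.IsIntegral.isIntegral (R := ResidueField R) (Ideal.Quotient.mk 𝔪 q))
    obtain ⟨g, hg, -, hgm⟩ := lifts_and_degree_eq_and_monic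
      ((lifts_iff_coeff_lifts p).2 fun i => residue_surjective _) hpm
    have h0 : Ideal.Quotient.mk 𝔪 (aeval q g) = 0 := by
      rw [← Ideal.Quotient.mkₐ_eq_mk R, ← aeval_algHom_apply, ← aeval_map_algebraMap (ResidueField R)]
      show (g.map (residue R)).eval₂ _ _ = 0
      rw [hg]
      exact hp
    obtain ⟨N, hN⟩ := hnil _ (Ideal.Quotient.eq_zero_iff_mem.1 h0)
    exact ⟨g ^ N, hgm.pow N, by rw [← aeval_def, map_pow, hN]⟩⟩
  haveI : Module.Finite R Q := Algebra.IsIntegral.finite
  haveI : Module.Finite R (B ⧸ (Ideal.span {t} • ⊤ : Submodule R B)) := by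
    have he : (Ideal.span {t} • ⊤ : Submodule R B) = (Ideal.span {tB}).restrictScalars R := by
      rw [Ideal.smul_top_eq_map, Ideal.map_span, Set.image_singleton]
    exact Module.Finite.equiv ((Submodule.Quotient.restrictScalarsEquiv R (Ideal.span {tB})).symm.trans
      (Submodule.quotEquivOfEq _ _ he.symm))
  haveI := hcomplete.toIsHausdorff
  exact Groth.Agent.AdicLemmas.module_finite_of_quotient_finite (Ideal.span {t}) B inferInstance

end Admissible

end Groth.Agent.AdicRingLib.HeightOne
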