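import Groth.Agent.AdicRingLib.Finite

/-!
# Finite modules over an algebra topologically of finite type
-/

set_option autoImplicit false

namespace Groth.Agent.AdicRingLib

open AdicRing

universe u

variable {R : Type u} [CommRing R] {I : Ideal R} (hR : IsBase R I)
  {A : Type u} [CommRing A] [Algebra R A] (hA : TopFiniteType R I A)
  (M : Type u) [AddCommGroup M] [Module A M] [Module R M] [IsScalarTower R A M] [Module.Finite A M]

include hA in
/-- A finite `A`-module is a finite module over some ring of restricted power series mapping onto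
`A`. -/
theorem exists_rpow_module :
    ∃ (n : ℕ) (φ : RPow R I n →ₐ[R] A) (_ : Function.Surjective φ) (_ : Module (RPow R I n) M)
      (_ : IsScalarTower R (RPow R I n) M) (_ : Module.Finite (RPow R I n) M),
      ∀ (p : RPow R I n) (x : M), p • x = φ p • x := by
  obtain ⟨n, φ, hφ⟩ := hA
  letI : Algebra (RPow R I n) A := φ.toRingHom.toAlgebra
  letI : Module (RPow R I n) M := Module.compHom M φ.toRingHom
  haveI : IsScalarTower (RPow R I n) A M := ⟨fun p a m => mul_smul (φ p) a m⟩
  haveI hT : IsScalarTower R (RPow R I n) M := ⟨fun r p m => by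
    show φ (r • p) • m = r • (φ p • m)
    rw [map_smul, smul_assoc]⟩
  haveI : Module.Finite (RPow R I n) A := Module.Finite.of_surjective (Algebra.linearMap _ A) hφ
  exact ⟨n, φ, hφ, inferInstance, hT, Module.Finite.trans A M, fun p x => rfl⟩

include hR hA

theorem fg_of_saturated_tft (N : Submodule A M)
    (hsat : ∀ (x : M) (k : ℕ), (∀ a ∈ I ^ k, a • x ∈ N) → x ∈ N) : N.FG := by
  obtain ⟨n, φ, hφ, iP, iT, iF, hp⟩ := exists_rpow_module hA M
  let N' : Submodule (RPow R I n) M :=
    { N.toAddSubmonoid with smul_mem' := fun p x hx => by rw [hp]; exact N.smul_mem _ hx }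
  obtain ⟨G, hG⟩ := fg_of_saturated hR N' hsat
  refine ⟨G, le_antisymm (Submodule.span_le.2 fun g hg => ?_) fun x hx => ?_⟩
  · show g ∈ N'
    exact hG ▸ Submodule.subset_span hg
  · have hx' : x ∈ N' := hx
    rw [← hG] at hx'
    clear hx
    induction hx' using Submodule.span_induction with
    | mem y hy => exact Submodule.subset_span hy
    | zero => exact Submodule.zero_mem _
    | add a b _ _ ha hb => exact Submodule.add_mem _ ha hb
    | smul c a _ ha => rw [hp]; exact Submodule.smul_mem _ _ ha

theorem artinRees_tft (N : Submodule A M) :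
    ∃ n₀ : ℕ, ∀ m : ℕ,
      (I ^ (m + n₀) • (⊤ : Submodule R M)) ⊓ N.restrictScalars R ≤ I ^ m • N.restrictScalars R := by
  obtain ⟨n, φ, hφ, iP, iT, iF, hp⟩ := exists_rpow_module hA M
  let N' : Submodule (RPow R I n) M :=
    { N.toAddSubmonoid with smul_mem' := fun p x hx => by rw [hp]; exact N.smul_mem _ hx }
  exact artinRees hR N'

theorem isAdicComplete_tft : IsAdicComplete I M := by
  obtain ⟨n, φ, hφ, iP, iT, iF, hp⟩ := exists_rpow_module hA M
  exact isAdicComplete hR n M

omit hA hR [Module.Finite A M] [IsScalarTower R A M] in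
theorem IsValBase.flat_of_torsionFree {t : R} (h : IsValBase R I t)
    (htf : ∀ x : M, t • x = 0 → x = 0) : Module.Flat R M := by
  have := h.domain
  have := h.pre
  have : ValuationRing R := ⟨⟩
  rw [Module.Flat.flat_iff_torsion_eq_bot_of_isBezout, eq_bot_iff]
  rintro x ⟨⟨r, hr⟩, hx⟩
  obtain ⟨L, c, hc⟩ := h.exists_dvd_pow (nonZeroDivisors.ne_zero hr)
  have hrx : r • x = 0 := hx
  have h0 : t ^ L • x = 0 := by rw [hc, mul_comm, mul_smul, hrx, smul_zero]
  clear hc
  induction L with
  | zero => simpa using h0
  | succ L ih => exact ih (htf _ (by rw [← mul_smul, ← pow_succ']; exact h0))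

omit hA hR [Module.Finite A M] [IsScalarTower R A M] in
theorem IsValBase.eq_zero_of_flat {t : R} (h : IsValBase R I t) [Module.Flat R M] (k : ℕ) {x : M}
    (hx : t ^ k • x = 0) : x = 0 := by
  have := h.domain
  refine Module.Flat.isSMulRegular_of_nonZeroDivisors
    (mem_nonZeroDivisors_of_ne_zero (pow_ne_zero k h.ne)) ?_
  simpa using hx

theorem finitePresentation_of_flat [Module.Flat R M] : Module.FinitePresentation A M := by
  obtain ⟨s, q, hq⟩ := Module.Finite.exists_fin' A M
  refine Module.finitePresentation_of_surjective q hq ?_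
  rcases isBase_cases hR with ⟨hN, -⟩ | ⟨t, h⟩
  · obtain ⟨n, φ, hφ⟩ := hA
    have := rpow_isNoetherianRing I n
    have := isNoetherianRing_of_surjective (RPow R I n) A φ.toRingHom hφ
    exact IsNoetherian.noetherian _
  refine fg_of_saturated_tft hR hA _ _ fun x k hx => ?_
  rw [LinearMap.mem_ker]
  refine h.eq_zero_of_flat M k ?_
  rw [← LinearMap.map_smul_of_tower]
  exact hx _ (by rw [h.eq, Ideal.span_singleton_pow]; exact Ideal.mem_span_singleton_self _)

end Groth.Agent.AdicRingLib
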