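import Groth.Agent.AdicRingLib.PolySat
import Groth.Agent.AdicRingLib.CompFlat
import Groth.Agent.AdicRingLib.TFT

/-!
# The weak Artin–Rees property for finitely generated algebras over TFT algebras
-/

set_option autoImplicit false

namespace Groth.Agent.AdicRingLib

open AdicRing

universe u

variable {R : Type u} [CommRing R] {I : Ideal R}

theorem map_pow_smul_restrictScalars {S : Type u} [CommRing S] [Algebra R S] {M : Type u} [AddCommGroup M]
    [Module S M] [Module R M] [IsScalarTower R S M] (j : ℕ) (L : Submodule S M) :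
    ((I.map (algebraMap R S)) ^ j • L).restrictScalars R = I ^ j • L.restrictScalars R := by
  rw [← Ideal.map_pow, Ideal.smul_restrictScalars]

theorem hasAR_mvPolynomial (hR : IsBase R I) (n m : ℕ) :
    HasAR (I.map (algebraMap R (MvPolynomial (Fin m) (RPow R I n)))) := by
  classical
  rcases isBase_cases hR with ⟨hN, -⟩ | ⟨t, h⟩
  · have := rpow_isNoetherianRing I n
    exact hasAR_of_isNoetherianRing _
  have := h.domain
  have := h.pre
  have := h.dim
  have : ValuationRing R := ⟨⟩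
  obtain ⟨π, hπ, hker⟩ := h.exists_red_span n
  have := h.complete_span n
  intro s K
  have hup : ∀ {x : Fin s → MvPolynomial (Fin m) (RPow R I n)} {a b : ℕ}, a ≤ b → t ^ a • x ∈ K → t ^ b • x ∈ K := by
    intro x a b hab hx
    obtain ⟨c, rfl⟩ := Nat.exists_eq_add_of_le hab
    rw [add_comm, pow_add, mul_smul]
    exact K.smul_of_tower_mem _ hx
  let S' : Submodule (MvPolynomial (Fin m) (RPow R I n)) (Fin s → MvPolynomial (Fin m) (RPow R I n)) :=
    { carrier := {x | ∃ k : ℕ, t ^ k • x ∈ K}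
      zero_mem' := ⟨0, by simp⟩
      add_mem' := fun {a b} ⟨i, hi⟩ ⟨j, hj⟩ => ⟨max i j, by
        rw [smul_add]; exact K.add_mem (hup (le_max_left _ _) hi) (hup (le_max_right _ _) hj)⟩
      smul_mem' := fun c a ⟨i, hi⟩ => ⟨i, by rw [smul_comm]; exact K.smul_mem c hi⟩ }
  have hS : ∀ x, t • x ∈ S' → x ∈ S' := fun x ⟨k, hk⟩ => ⟨k + 1, by rw [pow_succ, mul_smul]; exact hk⟩
  have hSfg : S'.FG := PolySat.fg_of_isSat h.ne h.notUnit π hπ hker (h.rpow_torsionFree n) S' hS
  obtain ⟨G, hG⟩ := id hSfg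
  choose k hk using fun g : G =>
    (show (g : Fin s → MvPolynomial (Fin m) (RPow R I n)) ∈ S' from hG ▸ Submodule.subset_span g.2)
  let n₀ := Finset.univ.sup k
  have hb : ∀ x ∈ S', t ^ n₀ • x ∈ K := by
    intro x hx
    rw [← hG] at hx
    induction hx using Submodule.span_induction with
    | mem x hx => exact hup (Finset.le_sup (Finset.mem_univ (⟨x, hx⟩ : G))) (hk ⟨x, hx⟩)
    | zero => simp
    | add x y _ _ hx hy => rw [smul_add]; exact K.add_mem hx hy
    | smul c x _ hx => rw [smul_comm]; exact K.smul_mem c hx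
  let μ : (Fin s → MvPolynomial (Fin m) (RPow R I n)) →ₗ[MvPolynomial (Fin m) (RPow R I n)]
      (Fin s → MvPolynomial (Fin m) (RPow R I n)) := t ^ n₀ • LinearMap.id
  refine ⟨S'.map μ, n₀, hSfg.map μ, ?_, fun j x hx => ?_⟩
  · rintro _ ⟨x, hx, rfl⟩
    exact hb x hx
  obtain ⟨hx1, hx2⟩ := hx
  have hx1' : x ∈ I ^ (j + n₀) • (⊤ : Submodule R (Fin s → MvPolynomial (Fin m) (RPow R I n))) := by
    rw [← Submodule.restrictScalars_top R (MvPolynomial (Fin m) (RPow R I n)), ← map_pow_smul_restrictScalars]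
    exact hx1
  obtain ⟨y, -, rfl⟩ := (h.mem_pow_smul_top _ _ _).1 hx1'
  have : t ^ (j + n₀) • y ∈ I ^ j • (S'.map μ).restrictScalars R := by
    refine (h.mem_pow_smul_top _ _ _).2 ⟨t ^ n₀ • y, ?_, by rw [pow_add, mul_smul]⟩
    exact ⟨y, ⟨_, hx2⟩, rfl⟩
  rwa [← map_pow_smul_restrictScalars] at this

theorem hasAR_finiteType (hR : IsBase R I) (A : Type u) [CommRing A] [Algebra R A]
    (hA : TopFiniteType R I A) (C : Type u) [CommRing C] [Algebra R C] [Algebra A C]
    [IsScalarTower R A C] [Algebra.FiniteType A C] :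
    HasAR (I.map (algebraMap R C)) := by
  obtain ⟨n, φ, hφ⟩ := hA
  obtain ⟨m, g, hg⟩ := Algebra.FiniteType.iff_quotient_mvPolynomial''.1 ‹Algebra.FiniteType A C›
  let ψ : MvPolynomial (Fin m) (RPow R I n) →ₐ[R] C :=
    (g.restrictScalars R).comp (MvPolynomial.mapAlgHom φ)
  have hψ : Function.Surjective ψ := hg.comp (MvPolynomial.map_surjective φ.toRingHom hφ)
  have := (hasAR_mvPolynomial hR n m).of_surjective ψ.toRingHom hψ
  rw [Ideal.map_map] at this
  rwa [show ψ.toRingHom.comp (algebraMap R (MvPolynomial (Fin m) (RPow R I n))) = algebraMap R C from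
    ψ.comp_algebraMap] at this

end Groth.Agent.AdicRingLib
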