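import Mathlib

/-!
# `t`-adic completion of an algebra: approximation and torsion
-/

set_option autoImplicit false

namespace Groth.Agent.AdicRingLib.TCompl

universe u v

variable {R : Type u} [CommRing R] (t : R) (S : Type v) [CommRing S] [Algebra R S]

/-- The ideal generated by the image of `t`. -/
abbrev ideal : Ideal S := Ideal.span {algebraMap R S t}

theorem fg : (ideal t S).FG := ⟨{algebraMap R S t}, by simp⟩

theorem mem_pow (k : ℕ) (x : S) : x ∈ ideal t S ^ k ↔ ∃ y, x = t ^ k • y := by
  rw [Ideal.span_singleton_pow, Ideal.mem_span_singleton]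
  exact ⟨fun ⟨c, hc⟩ => ⟨c, by rw [hc, Algebra.smul_def, map_pow]⟩,
    fun ⟨c, hc⟩ => ⟨c, by rw [hc, Algebra.smul_def, map_pow]⟩⟩

theorem complete : IsAdicComplete (Ideal.span {algebraMap R (AdicCompletion (ideal t S) S) t})
    (AdicCompletion (ideal t S) S) := by
  have h := (IsAdicComplete.map_algebraMap_iff (ideal t S) (AdicCompletion (ideal t S) S)
    (S := AdicCompletion (ideal t S) S)).2 (AdicCompletion.isAdicComplete (fg t S))
  rwa [Ideal.map_span, Set.image_singleton, ← IsScalarTower.algebraMap_apply] at h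

/-- Approximation modulo powers of `t`. -/
theorem exists_approx (c : AdicCompletion (ideal t S) S) (k : ℕ) :
    ∃ (a : S) (d : AdicCompletion (ideal t S) S), c - algebraMap S _ a = t ^ k • d := by
  obtain ⟨a, ha⟩ := Submodule.Quotient.mk_surjective _ (c.val k)
  have hmem : c - algebraMap S _ a ∈
      ideal t S ^ k • (⊤ : Submodule S (AdicCompletion (ideal t S) S)) := by
    rw [AdicCompletion.pow_smul_top_eq_ker_eval (fg t S), LinearMap.mem_ker, map_sub, sub_eq_zero]
    exact ha.symm
  rw [Ideal.smul_top_eq_map, Submodule.restrictScalars_mem, Ideal.map_pow, Ideal.map_span,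
    Set.image_singleton, ← IsScalarTower.algebraMap_apply] at hmem
  obtain ⟨d, hd⟩ := (mem_pow t (AdicCompletion (ideal t S) S) k _).1 hmem
  exact ⟨a, d, hd⟩

theorem exists_of_algebraMap_eq (a : S) (k : ℕ) (d : AdicCompletion (ideal t S) S)
    (h : algebraMap S _ a = t ^ k • d) : ∃ w, a = t ^ k • w := by
  rw [← mem_pow]
  have h1 : algebraMap S _ a ∈ ideal t (AdicCompletion (ideal t S) S) ^ k := (mem_pow t _ k _).2 ⟨d, h⟩
  have h2 : algebraMap S (AdicCompletion (ideal t S) S) a ∈
      ideal t S ^ k • (⊤ : Submodule S (AdicCompletion (ideal t S) S)) := by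
    rw [Ideal.smul_top_eq_map, Submodule.restrictScalars_mem, Ideal.map_pow, Ideal.map_span,
      Set.image_singleton, ← IsScalarTower.algebraMap_apply]
    exact h1
  rw [AdicCompletion.pow_smul_top_eq_ker_eval (fg t S), LinearMap.mem_ker] at h2
  have h3 : (Submodule.Quotient.mk a : S ⧸ (ideal t S ^ k • ⊤ : Submodule S S)) = 0 := h2
  rwa [Submodule.Quotient.mk_eq_zero, smul_eq_mul, Ideal.mul_top] at h3

theorem torsionFree (htf : ∀ x : S, t • x = 0 → x = 0) (c : AdicCompletion (ideal t S) S)
    (hc : t • c = 0) : c = 0 := by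
  refine AdicCompletion.ext fun k => ?_
  obtain ⟨a, d, hd⟩ := exists_approx t S c (k + 1)
  have h1 : algebraMap S _ (t • a) = t ^ (k + 1) • (-(t • d)) := by
    rw [smul_neg, smul_comm, ← hd, smul_sub, hc, zero_sub, neg_neg, Algebra.smul_def, Algebra.smul_def,
      map_mul, ← IsScalarTower.algebraMap_apply]
  obtain ⟨w, hw⟩ := exists_of_algebraMap_eq t S (t • a) (k + 1) _ h1
  have ha : a = t ^ k • w := sub_eq_zero.1 (htf _ (by rw [smul_sub, hw, smul_smul, ← pow_succ', sub_self]))
  have hc' : c = t ^ k • (algebraMap S _ w + t • d) := by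
    rw [smul_add, smul_smul, ← pow_succ, ← hd, ha, Algebra.smul_def, Algebra.smul_def, map_mul,
      ← IsScalarTower.algebraMap_apply]
    abel
  have h2 : c ∈ ideal t S ^ k • (⊤ : Submodule S (AdicCompletion (ideal t S) S)) := by
    rw [Ideal.smul_top_eq_map, Submodule.restrictScalars_mem, Ideal.map_pow, Ideal.map_span,
      Set.image_singleton, ← IsScalarTower.algebraMap_apply]
    exact (mem_pow t _ k _).2 ⟨_, hc'⟩
  rw [AdicCompletion.pow_smul_top_eq_ker_eval (fg t S), LinearMap.mem_ker] at h2
  exact h2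

end Groth.Agent.AdicRingLib.TCompl
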