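import Groth.Agent.AdicRingLib.Saturated
import Groth.Agent.AdicRingLib.PolyFlatAux

/-!
# Saturated submodules of free modules over polynomial rings over restricted power series

If `P` is as in `Saturated` (complete, reduction a polynomial ring), `t`-saturated submodules of
`P[X] ^ s` are finitely generated: homogenise, complete, and take homogeneous components.
-/

set_option autoImplicit false

open MvPolynomial

namespace Groth.Agent.AdicRingLib.PolySat

universe u v

variable {R : Type u} [CommRing R] {t : R} {P : Type v} [CommRing P] [Algebra R P]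

/-- The homogeneous component of a product with a homogeneous factor. -/
theorem homogeneousComponent_mul_homogeneous {σ : Type*} (a h : MvPolynomial σ P) (d D : ℕ)
    (hh : h.IsHomogeneous d) :
    homogeneousComponent D (a * h) = if d ≤ D then homogeneousComponent (D - d) a * h else 0 := by
  conv_lhs => rw [← sum_homogeneousComponent (φ := a), Finset.sum_mul, map_sum]
  have : ∀ i, homogeneousComponent D (homogeneousComponent i a * h) =
      if D = i + d then homogeneousComponent i a * h else 0 := fun i =>
    homogeneousComponent_of_mem ((mem_homogeneousSubmodule _ _).2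
      ((homogeneousComponent_isHomogeneous i a).mul hh))
  simp only [this]
  split_ifs with hd
  · rw [Finset.sum_eq_single (D - d) (fun i _ hi => if_neg fun h' => hi (by omega)) fun hni => ?_]
    · rw [if_pos (by omega)]
    · rw [if_pos (by omega), homogeneousComponent_eq_zero _ _ (by simp at hni; omega), zero_mul]
  · exact Finset.sum_eq_zero fun i _ => if_neg fun h' => hd (by omega)

theorem smul_top_iff {σ : Type*} (k : ℕ) (p : MvPolynomial σ P) :
    (∃ w, p = t ^ k • w) ↔ ∀ a, ∃ w, coeff a p = t ^ k • w := by
  classical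
  refine ⟨fun ⟨w, hw⟩ a => ⟨coeff a w, by rw [hw, coeff_smul]⟩, fun h => ?_⟩
  choose w hw using h
  refine ⟨∑ a ∈ p.support, monomial a (w a), MvPolynomial.ext _ _ fun a => ?_⟩
  rw [coeff_smul, coeff_sum]
  simp only [coeff_monomial, Finset.sum_ite_eq']
  split_ifs with ha
  · exact hw a
  · rw [smul_zero, notMem_support_iff.1 ha]

variable {n m s : ℕ}

/-- Saturated graded submodules of free modules over `P[X₀, …, X_m]` are finitely generated; the
statement for `P[X₁, …, X_m]`. -/
theorem fg_of_isSat [IsDomain R] [ValuationRing R] [Ring.KrullDimLE 1 R]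
    (ht0 : t ≠ 0) (ht : ¬ IsUnit t)
    (π : P →ₐ[R] MvPolynomial (Fin n) (R ⧸ Ideal.span {t}))
    (hπ : Function.Surjective π) (hker : ∀ x, π x = 0 → ∃ y, x = t • y)
    (htf : ∀ x : P, t • x = 0 → x = 0) [IsAdicComplete (Ideal.span {algebraMap R P t}) P]
    (N : Submodule (MvPolynomial (Fin m) P) (Fin s → MvPolynomial (Fin m) P))
    (hN : ∀ x, t • x ∈ N → x ∈ N) : N.FG := by
  classical
  let A := MvPolynomial (Option (Fin m)) P
  let P' := AdicCompletion (TCompl.ideal t A) A
  let of' : A →+* P' := algebraMap A P'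
  have hAtf : ∀ x : A, t • x = 0 → x = 0 := fun x hx => MvPolynomial.ext _ _ fun a => by
    rw [coeff_zero]
    exact htf _ (by rw [← coeff_smul, hx, coeff_zero])
  have hP'tf := TCompl.torsionFree t A hAtf
  haveI : IsAdicComplete (Ideal.span {algebraMap R P' t}) P' := TCompl.complete t A
  have hof_smul : ∀ (r : R) (a : A), of' (r • a) = r • of' a := fun r a => by
    rw [Algebra.smul_def, Algebra.smul_def, map_mul]
    exact congrArg (· * of' a) (IsScalarTower.algebraMap_apply R A P' r).symm
  -- reduction of the completion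
  let e₁ : MvPolynomial (Option (Fin m)) (MvPolynomial (Fin n) (R ⧸ Ideal.span {t})) ≃ₐ[R ⧸ Ideal.span {t}]
      MvPolynomial (Fin (Fintype.card (Option (Fin m) ⊕ Fin n))) (R ⧸ Ideal.span {t}) :=
    (sumAlgEquiv _ _ _).symm.trans (renameEquiv _ (Fintype.equivFin _))
  let red₀ : A →ₐ[R] MvPolynomial (Fin (Fintype.card (Option (Fin m) ⊕ Fin n))) (R ⧸ Ideal.span {t}) :=
    (e₁.toAlgHom.restrictScalars R).comp (mapAlgHom π)
  have hred₀ : Function.Surjective red₀ := fun y => by
    obtain ⟨x, hx⟩ := MvPolynomial.map_surjective π.toRingHom hπ (e₁.symm y)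
    exact ⟨x, by show e₁ (MvPolynomial.map π.toRingHom x) = y; rw [hx, AlgEquiv.apply_symm_apply]⟩
  have hred₀t : ∀ a, red₀ (t • a) = 0 := fun a => by
    rw [map_smul, Algebra.smul_def, IsScalarTower.algebraMap_apply R (R ⧸ Ideal.span {t}),
      Ideal.Quotient.algebraMap_eq, Ideal.Quotient.eq_zero_iff_mem.2 (Ideal.mem_span_singleton_self t),
      map_zero, zero_mul]
  have hred₀ker : ∀ a, red₀ a = 0 → ∃ w, a = t • w := fun a ha => by
    have h1 : MvPolynomial.map π.toRingHom a = 0 := e₁.injective (ha.trans (map_zero e₁).symm)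
    obtain ⟨w, hw⟩ := (smul_top_iff (t := t) 1 a).2 fun b => by
      obtain ⟨y, hy⟩ := hker (coeff b a) (by
        have := congrArg (coeff b) h1
        rwa [coeff_map, coeff_zero] at this)
      exact ⟨y, by rw [pow_one]; exact hy⟩
    exact ⟨w, by rwa [pow_one] at hw⟩
  have happ : ∀ c : P', ∃ (a : A) (d : P'), c - of' a = t • d := fun c => by
    obtain ⟨a, d, hd⟩ := TCompl.exists_approx t A c 1
    exact ⟨a, d, by rwa [pow_one] at hd⟩
  choose app dd hdd using happ
  have hwd : ∀ c a, (∃ d, c - of' a = t • d) → red₀ a = red₀ (app c) := by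
    rintro c a ⟨d, hd⟩
    have h1 : of' (a - app c) = t ^ 1 • (dd c - d) := by
      rw [pow_one, smul_sub, ← hdd, ← hd, map_sub]; abel
    obtain ⟨w, hw⟩ := TCompl.exists_of_algebraMap_eq t A _ 1 _ h1
    rw [← sub_eq_zero, ← map_sub, hw, pow_one, hred₀t]
  let π' : P' →ₐ[R] MvPolynomial (Fin (Fintype.card (Option (Fin m) ⊕ Fin n))) (R ⧸ Ideal.span {t}) :=
    { toFun := fun c => red₀ (app c)
      map_one' := by rw [← hwd 1 1 ⟨0, by simp⟩, map_one]
      map_mul' := fun c c' => by
        rw [← map_mul]
        exact (hwd _ _ ⟨dd c * c' + of' (app c) * dd c', by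
          rw [smul_add, ← smul_mul_assoc, ← mul_smul_comm, ← hdd, ← hdd, map_mul]; ring⟩).symm
      map_zero' := by rw [← hwd 0 0 ⟨0, by simp⟩, map_zero]
      map_add' := fun c c' => by
        rw [← map_add]
        exact (hwd _ _ ⟨dd c + dd c', by rw [smul_add, ← hdd, ← hdd, map_add]; abel⟩).symm
      commutes' := fun r => by
        rw [← hwd _ (algebraMap R A r) ⟨0, by
          rw [smul_zero, sub_eq_zero]; exact IsScalarTower.algebraMap_apply R A P' r⟩]
        exact red₀.commutes r }
  have hπ' : Function.Surjective π' := fun y => by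
    obtain ⟨a, rfl⟩ := hred₀ y
    exact ⟨of' a, (hwd _ a ⟨0, by simp⟩).symm⟩
  have hker' : ∀ c, π' c = 0 → ∃ y, c = t • y := fun c hc => by
    obtain ⟨w, hw⟩ := hred₀ker _ hc
    exact ⟨of' w + dd c, by rw [smul_add, ← hdd, ← hof_smul, ← hw]; abel⟩
  -- homogenisation
  let deh : A →ₐ[P] MvPolynomial (Fin m) P := aeval fun o => o.elim 1 X
  let dehs : (Fin s → A) → Fin s → MvPolynomial (Fin m) P := fun F i => deh (F i)
  let hc : ℕ → (Fin s → A) → Fin s → A := fun D F i => homogeneousComponent D (F i)
  have hdeh_smul : ∀ (r : R) F, dehs (r • F) = r • dehs F := fun r F => funext fun i => by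
    show deh (r • F i) = r • deh (F i)
    exact LinearMap.map_smul_of_tower deh.toLinearMap r (F i)
  let Nh : Submodule A (Fin s → A) :=
    { carrier := {F | ∀ D, dehs (hc D F) ∈ N}
      zero_mem' := fun D => by
        convert N.zero_mem using 1
        funext i; simp [dehs, hc]
      add_mem' := fun {F G} hF hG D => by
        convert N.add_mem (hF D) (hG D) using 1
        funext i; simp [dehs, hc]
      smul_mem' := fun a F hF D => by
        have key : ∀ i, homogeneousComponent D (a * F i) =
            ∑ e ∈ Finset.range (D + 1), homogeneousComponent (D - e) a * homogeneousComponent e (F i) := by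
          intro i
          conv_lhs => rw [← sum_homogeneousComponent (φ := F i), Finset.mul_sum, map_sum]
          have hterm : ∀ e, homogeneousComponent D (a * homogeneousComponent e (F i)) =
              if e ≤ D then homogeneousComponent (D - e) a * homogeneousComponent e (F i) else 0 :=
            fun e => homogeneousComponent_mul_homogeneous a _ e D (homogeneousComponent_isHomogeneous e _)
          simp only [hterm]
          rw [← Finset.sum_filter]
          refine Finset.sum_subset_zero_on_sdiff (fun e he => ?_) (fun e he => ?_) (fun _ _ => rfl)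
          · simp only [Finset.mem_filter, Finset.mem_range] at he ⊢; omega
          · simp only [Finset.mem_sdiff, Finset.mem_range, Finset.mem_filter, not_and] at he
            rw [homogeneousComponent_eq_zero e _ (by omega), mul_zero]
        have : dehs (hc D (a • F)) =
            ∑ e ∈ Finset.range (D + 1), deh (homogeneousComponent (D - e) a) • dehs (hc e F) := by
          funext i
          simp only [dehs, hc, Pi.smul_apply, smul_eq_mul, key, map_sum, map_mul, Finset.sum_apply]
        rw [this]
        exact N.sum_mem fun e _ => N.smul_mem _ (hF e) }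
  have hNhsat : ∀ (k : ℕ) F, t ^ k • F ∈ Nh → F ∈ Nh := by
    intro k F hF D
    have h1 : dehs (hc D (t ^ k • F)) = t ^ k • dehs (hc D F) := by
      rw [← hdeh_smul]
      congr 1
      funext i
      exact LinearMap.map_smul_of_tower (homogeneousComponent (R := P) (σ := Option (Fin m)) D) (t ^ k) (F i)
    have h2 : t ^ k • dehs (hc D F) ∈ N := h1 ▸ hF D
    clear h1 hF
    induction k with
    | zero => simpa using h2
    | succ k ih => exact ih (hN _ (by rw [smul_smul, ← pow_succ']; exact h2))
  -- completed module and its saturation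
  let φ : (Fin s → A) → Fin s → P' := fun F i => of' (F i)
  have hφsub : ∀ F G, φ (F - G) = φ F - φ G := fun F G => funext fun i => map_sub of' _ _
  have hφsmul : ∀ (r : R) F, φ (r • F) = r • φ F := fun r F => funext fun i => hof_smul r _
  have hφA : ∀ (a : A) F, φ (a • F) = of' a • φ F := fun a F => funext fun i => map_mul of' _ _
  let N0 : Submodule P' (Fin s → P') := Submodule.span P' (φ '' Nh)
  have hup : ∀ {x : Fin s → P'} {a b : ℕ}, a ≤ b → t ^ a • x ∈ N0 → t ^ b • x ∈ N0 := by
    intro x a b hab hx
    obtain ⟨c, rfl⟩ := Nat.exists_eq_add_of_le hab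
    rw [add_comm, pow_add, mul_smul]
    exact N0.smul_of_tower_mem _ hx
  let N1 : Submodule P' (Fin s → P') :=
    { carrier := {x | ∃ k : ℕ, t ^ k • x ∈ N0}
      zero_mem' := ⟨0, by simp⟩
      add_mem' := fun {a b} ⟨i, hi⟩ ⟨j, hj⟩ => ⟨max i j, by
        rw [smul_add]; exact N0.add_mem (hup (le_max_left _ _) hi) (hup (le_max_right _ _) hj)⟩
      smul_mem' := fun c a ⟨i, hi⟩ => ⟨i, by rw [smul_comm]; exact N0.smul_mem c hi⟩ }
  have hN1 : Sat.IsSat t N1 := fun x ⟨k, hk⟩ => ⟨k + 1, by rw [pow_succ, mul_smul]; exact hk⟩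
  have hN01 : N0 ≤ N1 := fun x hx => ⟨0, by simpa using hx⟩
  have happrox : ∀ (j : ℕ) x, x ∈ N0 → ∃ F ∈ Nh, ∃ d, x - φ F = t ^ j • d := by
    intro j x hx
    induction hx using Submodule.span_induction with
    | mem x hx =>
      obtain ⟨F, hF, rfl⟩ := hx
      exact ⟨F, hF, 0, by simp⟩
    | zero => exact ⟨0, Nh.zero_mem, 0, by funext i; simp [φ]⟩
    | add x y _ _ hx hy =>
      obtain ⟨F, hF, d, hd⟩ := hx
      obtain ⟨G, hG, e, he⟩ := hy
      refine ⟨F + G, Nh.add_mem hF hG, d + e, ?_⟩
      rw [smul_add, ← hd, ← he, show φ (F + G) = φ F + φ G from funext fun i => map_add of' _ _]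
      abel
    | smul c x _ hx =>
      obtain ⟨F, hF, d, hd⟩ := hx
      obtain ⟨a, e, he⟩ := TCompl.exists_approx t A c j
      refine ⟨a • F, Nh.smul_mem _ hF, c • d + e • φ F, ?_⟩
      rw [smul_add, smul_comm, ← hd, ← smul_assoc, ← he, hφA, smul_sub, sub_smul]
      abel
  have hred : ∀ x ∈ N1, ∃ y ∈ N0, ∃ z, x - y = t • z := by
    rintro x ⟨k, hk⟩
    obtain ⟨F, hF, d, hd⟩ := happrox (k + 1) _ hk
    have hFeq : φ F = t ^ k • (x - t • d) := by
      rw [smul_sub, smul_smul, ← pow_succ, ← hd, sub_sub_cancel]
    choose W hW using fun i => TCompl.exists_of_algebraMap_eq t A (F i) k ((x - t • d) i)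
      (congrFun hFeq i)
    have hWNh : W ∈ Nh := hNhsat k W (by
      rw [show t ^ k • W = F from funext fun i => (hW i).symm]; exact hF)
    refine ⟨φ W, Submodule.subset_span ⟨W, hWNh, rfl⟩, d, ?_⟩
    have hcanc : ∀ (j : ℕ) (u : Fin s → P'), t ^ j • u = 0 → u = 0 := by
      intro j
      induction j with
      | zero => intro u hu; simpa using hu
      | succ j ih =>
        intro u hu
        refine ih u (funext fun i => hP'tf _ ?_)
        have := congrFun hu i
        rwa [pow_succ', mul_smul, Pi.smul_apply] at this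
    have h3 := hcanc k (φ W - (x - t • d)) (by
      rw [smul_sub, ← hFeq, ← hφsmul, show t ^ k • W = F from funext fun i => (hW i).symm, sub_self])
    rw [sub_eq_zero.1 h3, sub_sub_cancel]
  obtain ⟨G, hG0, hGspan⟩ := Sat.exists_finset_span π' ht0 ht hπ' hker' N1 hN1 N0 hN01 hred
  -- replace the generators by homogeneous elements of `Nh`
  have hsub : ∀ g : G, ∃ T : Finset (Fin s → P'), (T : Set _) ⊆ φ '' (Nh : Set (Fin s → A)) ∧
      (g : Fin s → P') ∈ Submodule.span P' (T : Set (Fin s → P')) := fun g =>
    Submodule.mem_span_finite_of_mem_span (hG0 g.2)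
  choose T hT hgT using hsub
  choose pre hpre hpre' using fun (g : G) (x : T g) => hT g x.2
  let H0 : Finset (Fin s → A) := Finset.univ.biUnion fun g => Finset.univ.image (pre g)
  have hH0 : ∀ F ∈ H0, F ∈ Nh := by
    intro F hF
    obtain ⟨g, -, hF⟩ := Finset.mem_biUnion.1 hF
    obtain ⟨x, -, rfl⟩ := Finset.mem_image.1 hF
    exact hpre g x
  let bound : ℕ := (H0.sup fun F => Finset.univ.sup fun i => (F i).totalDegree) + 1
  let Λ := H0 × Fin bound
  let h : Λ → Fin s → A := fun l => hc l.2 l.1
  have hhom : ∀ (l : Λ) i, (h l i).IsHomogeneous l.2 := fun l i => homogeneousComponent_isHomogeneous _ _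
  have hhN : ∀ l : Λ, dehs (h l) ∈ N := fun l => hH0 _ l.1.2 l.2
  have hgen : ∀ F ∈ Nh, φ F ∈ Submodule.span P' (Set.range fun l => φ (h l)) := by
    intro F hF
    have h1 : φ F ∈ Submodule.span P' (G : Set (Fin s → P')) :=
      hGspan (hN01 (Submodule.subset_span ⟨F, hF, rfl⟩))
    refine Submodule.span_le.2 (fun g hg => ?_) h1
    refine Submodule.span_le.2 (fun x hx => ?_) (hgT ⟨g, hg⟩)
    rw [show x = φ (pre ⟨g, hg⟩ ⟨x, hx⟩) from (hpre' ⟨g, hg⟩ ⟨x, hx⟩).symm]
    set E := pre ⟨g, hg⟩ ⟨x, hx⟩
    have hE : E ∈ H0 := Finset.mem_biUnion.2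
      ⟨⟨g, hg⟩, Finset.mem_univ _, Finset.mem_image_of_mem _ (Finset.mem_univ _)⟩
    have : φ E = ∑ d : Fin bound, φ (h (⟨E, hE⟩, d)) := by
      funext i
      simp only [φ, h, hc, Finset.sum_apply, ← map_sum]
      rw [Fin.sum_univ_eq_sum_range (fun d => homogeneousComponent d (E i))]
      congr 1
      conv_lhs => rw [← sum_homogeneousComponent (φ := E i)]
      refine Finset.sum_subset (Finset.range_mono ?_) fun e _ he => ?_
      · have h1 : (E i).totalDegree ≤ Finset.univ.sup fun i => (E i).totalDegree :=
          Finset.le_sup (f := fun i => (E i).totalDegree) (Finset.mem_univ i)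
        have h2 : (Finset.univ.sup fun i => (E i).totalDegree) ≤
            H0.sup fun F => Finset.univ.sup fun i => (F i).totalDegree :=
          Finset.le_sup (f := fun F => Finset.univ.sup fun i => (F i).totalDegree) hE
        simp only [bound]; omega
      · exact homogeneousComponent_eq_zero _ _ (by simp at he; omega)
    rw [SetLike.mem_coe, this]
    exact Submodule.sum_mem _ fun d _ => Submodule.subset_span ⟨_, rfl⟩
  -- descent to the polynomial ring in each degree
  have hdesc : ∀ (D : ℕ) F, F ∈ Nh → (∀ i, (F i).IsHomogeneous D) →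
      F ∈ Submodule.span A (Set.range h) := by
    intro D F hF hFhom
    obtain ⟨c, hcF⟩ := (Submodule.mem_span_range_iff_exists_fun P').1 (hgen F hF)
    choose a e he using fun l k => TCompl.exists_approx t A (c l) k
    let b : Λ → ℕ → A := fun l k =>
      if (l.2 : ℕ) ≤ D then homogeneousComponent (D - l.2) (a l k) else 0
    have hb : ∀ k, ∃ w, F - ∑ l, b l k • h l = t ^ k • w := by
      intro k
      have h1 : φ (F - ∑ l, a l k • h l) = t ^ k • ∑ l, e l k • φ (h l) := by
        rw [hφsub, ← hcF, show φ (∑ l, a l k • h l) = ∑ l, of' (a l k) • φ (h l) by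
          funext i
          simp [φ, map_sum, Finset.sum_apply], ← Finset.sum_sub_distrib, Finset.smul_sum]
        refine Finset.sum_congr rfl fun l _ => ?_
        rw [← sub_smul, he, smul_assoc]
      choose w hw using fun i => TCompl.exists_of_algebraMap_eq t A _ k _ (congrFun h1 i)
      refine ⟨fun i => homogeneousComponent D (w i), funext fun i => ?_⟩
      have h2 := congrArg (homogeneousComponent D) (hw i)
      simp only [Pi.sub_apply, Finset.sum_apply, Pi.smul_apply, map_sub, map_sum,
        LinearMap.map_smul_of_tower, smul_eq_mul] at h2 ⊢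
      rw [homogeneousComponent_eq_self (hFhom i)] at h2
      rw [← h2]
      congr 1
      refine Finset.sum_congr rfl fun l _ => ?_
      simp only [b, homogeneousComponent_mul_homogeneous (a l k) _ _ D (hhom l i)]
      split_ifs <;> simp
    have hcauchy : ∀ l k d, ∃ w, coeff d (b l k) - coeff d (b l (k + 1)) = t ^ k • w := by
      intro l k d
      have h1 : of' (a l k - a l (k + 1)) = t ^ k • (t • e l (k + 1) - e l k) := by
        rw [smul_sub, smul_smul, ← pow_succ, ← he, ← he, map_sub]; abel
      obtain ⟨w, hw⟩ := TCompl.exists_of_algebraMap_eq t A _ k _ h1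
      simp only [b]
      split_ifs
      · refine ⟨coeff d (homogeneousComponent (D - l.2) w), ?_⟩
        rw [← coeff_sub, ← map_sub, hw, LinearMap.map_smul_of_tower, coeff_smul]
      · exact ⟨0, by simp⟩
    set J := Ideal.span {algebraMap R P t}
    have hJ : ∀ (k : ℕ) (x : P), (∃ w, x = t ^ k • w) ↔ x ∈ (J ^ k • ⊤ : Submodule P P) := fun k x => by
      rw [smul_eq_mul, Ideal.mul_top]; exact (TCompl.mem_pow t P k x).symm
    have hcau : ∀ l d, ∀ {p q : ℕ}, p ≤ q →
        coeff d (b l p) ≡ coeff d (b l q) [SMOD (J ^ p • ⊤ : Submodule P P)] := by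
      intro l d p q hpq
      induction hpq with
      | refl => rfl
      | @step q hpq ih =>
        refine ih.trans (SModEq.sub_mem.2 (Submodule.smul_mono (Ideal.pow_le_pow_right hpq) le_rfl ?_))
        exact (hJ q _).1 (hcauchy l q d)
    choose lim hlim using fun l d => IsPrecomplete.prec' (I := J) (fun k => coeff d (b l k)) (hcau l d)
    let degs : Finset (Option (Fin m) →₀ ℕ) := (Finsupp.finite_of_degree_le (σ := Option (Fin m)) D).toFinset
    let L : Λ → A := fun l => ∑ d ∈ degs, monomial d (lim l d)
    have hdeg : ∀ l k d, d ∉ degs → coeff d (b l k) = 0 := by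
      intro l k d hd
      simp only [degs, Set.Finite.mem_toFinset, Set.mem_setOf_eq, not_le] at hd
      simp only [b]
      split_ifs
      · rw [coeff_homogeneousComponent, if_neg (by omega)]
      · exact coeff_zero d
    have hL : ∀ l k, ∃ w, b l k - L l = t ^ k • w := by
      intro l k
      refine (smul_top_iff k _).2 fun d => ?_
      rw [coeff_sub, coeff_sum]
      simp only [coeff_monomial, Finset.sum_ite_eq']
      split_ifs with hd
      · exact (hJ k _).2 (SModEq.sub_mem.1 (hlim l d k))
      · exact ⟨0, by rw [hdeg l k d hd]; simp⟩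
    have hFL : F = ∑ l, L l • h l := by
      refine sub_eq_zero.1 (funext fun i => MvPolynomial.ext _ _ fun d => ?_)
      rw [Pi.zero_apply, coeff_zero]
      refine IsHausdorff.haus' (I := J) _ fun k => ?_
      rw [SModEq.zero, ← hJ]
      obtain ⟨w, hw⟩ := hb k
      choose w' hw' using fun l => hL l k
      refine ⟨coeff d ((w + ∑ l, w' l • h l) i), ?_⟩
      rw [← coeff_smul, ← Pi.smul_apply, smul_add, ← hw, Finset.smul_sum]
      congr 1
      simp only [Pi.sub_apply, Pi.add_apply, Finset.sum_apply, Pi.smul_apply]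
      rw [sub_add, ← Finset.sum_sub_distrib]
      congr 1
      refine Finset.sum_congr rfl fun l _ => ?_
      rw [← smul_assoc, ← hw' l, sub_smul]
      abel
    rw [hFL]
    exact Submodule.sum_mem _ fun l _ => Submodule.smul_mem _ _ (Submodule.subset_span ⟨l, rfl⟩)
  -- dehomogenise
  refine ⟨Finset.univ.image fun l => dehs (h l), le_antisymm (Submodule.span_le.2 ?_) fun f hf => ?_⟩
  · rw [Finset.coe_image]
    rintro _ ⟨l, -, rfl⟩
    exact hhN l
  let D := Finset.univ.sup fun i => (f i).totalDegree
  let F : Fin s → A := fun i => ∑ e ∈ Finset.range (D + 1),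
    (X none : A) ^ (D - e) * rename some (homogeneousComponent e (f i))
  have hFhom : ∀ i, (F i).IsHomogeneous D := fun i => IsHomogeneous.sum _ _ _ fun e he => by
    have h1 := (isHomogeneous_X_pow (R := P) (none : Option (Fin m)) (D - e)).mul
      ((homogeneousComponent_isHomogeneous e (f i)).rename_isHomogeneous (f := some))
    rwa [Nat.sub_add_cancel (Nat.lt_succ_iff.1 (Finset.mem_range.1 he))] at h1
  have hdehF : dehs F = f := by
    funext i
    have hX : ∀ p : MvPolynomial (Fin m) P, deh (rename some p) = p := fun p => by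
      rw [aeval_rename]
      exact aeval_X_left_apply p
    simp only [dehs, F, map_sum, map_mul, map_pow, hX]
    rw [show deh (X none) = 1 from aeval_X _ _]
    simp only [one_pow, one_mul]
    conv_rhs => rw [← sum_homogeneousComponent (φ := f i)]
    refine (Finset.sum_subset (Finset.range_mono ?_) fun e _ he => ?_).symm
    · exact Nat.succ_le_succ (Finset.le_sup (f := fun i => (f i).totalDegree) (Finset.mem_univ i))
    · exact homogeneousComponent_eq_zero _ _ (by simp at he; omega)
  have hFNh : F ∈ Nh := fun D' => by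
    by_cases hD : D' = D
    · subst hD
      convert hf using 1
      rw [← hdehF]
      funext i
      simp only [dehs, hc, homogeneousComponent_eq_self (hFhom i)]
    · convert N.zero_mem using 1
      funext i
      simp [dehs, hc, homogeneousComponent_of_mem ((mem_homogeneousSubmodule _ _).2 (hFhom i)), if_neg hD]
  obtain ⟨c, hcF⟩ := (Submodule.mem_span_range_iff_exists_fun A).1 (hdesc D F hFNh hFhom)
  rw [← hdehF, ← hcF, show dehs (∑ l, c l • h l) = ∑ l, deh (c l) • dehs (h l) by
    funext i; simp [dehs, map_sum, Finset.sum_apply]]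
  exact Submodule.sum_mem _ fun l _ => Submodule.smul_mem _ _
    (Submodule.subset_span (Finset.mem_coe.2 (Finset.mem_image_of_mem _ (Finset.mem_univ l))))

end Groth.Agent.AdicRingLib.PolySat
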