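import Mathlib
import Groth.Agent.AdicRingLib.RigFinite

/-!
# Unramifiedness at rig-closed points
-/

set_option autoImplicit false
set_option linter.style.haveILetI false

universe u

namespace Groth.Agent.AdicRingLib

/-- Formal unramifiedness of a finite algebra is detected modulo an ideal in the Jacobson radical coming
from the base. -/
theorem formallyUnramified_of_quotient {A C : Type u} [CommRing A] [CommRing C] [Algebra A C] [Module.Finite A C]
    (I : Ideal A) (hI : I.map (algebraMap A C) ≤ Ideal.jacobson ⊥)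
    [Algebra.FormallyUnramified A (C ⧸ I.map (algebraMap A C))] : Algebra.FormallyUnramified A C := by
  let J := I.map (algebraMap A C)
  haveI : Algebra.EssFiniteType A C := inferInstance
  haveI : Module.Finite C (Ω[C⁄A]) := inferInstance
  let Q := Ω[C⁄A] ⧸ (J • ⊤ : Submodule C (Ω[C⁄A]))
  let d : C →ₗ[A] Q := ((J • ⊤ : Submodule C (Ω[C⁄A])).mkQ.restrictScalars A).comp
    (KaehlerDifferential.D A C).toLinearMap
  have hdJ : J.restrictScalars A ≤ LinearMap.ker d := by
    intro x hx
    show d x = 0
    have hx' : x ∈ Submodule.span C (algebraMap A C '' (I : Set A)) := hx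
    clear hx
    induction hx' using Submodule.span_induction with
    | mem x hx =>
      obtain ⟨a, -, rfl⟩ := hx
      show Submodule.Quotient.mk (KaehlerDifferential.D A C (algebraMap A C a)) = 0
      rw [Derivation.map_algebraMap]; rfl
    | zero => exact map_zero d
    | add x y hx hy h1 h2 => rw [map_add, h1, h2, add_zero]
    | smul c x hx h1 =>
      show Submodule.Quotient.mk (KaehlerDifferential.D A C (c * x)) = 0
      rw [Derivation.leibniz, Submodule.Quotient.mk_add, Submodule.Quotient.mk_smul, Submodule.Quotient.mk_smul,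
        show Submodule.Quotient.mk (KaehlerDifferential.D A C x) = (0 : Q) from h1, smul_zero, zero_add,
        ← Submodule.Quotient.mk_smul, Submodule.Quotient.mk_eq_zero]
      exact Submodule.smul_mem_smul hx Submodule.mem_top
  letI : Module (C ⧸ J) Q := inferInstance
  let lin : (C ⧸ J) →ₗ[A] Q :=
    ((J.restrictScalars A).liftQ d hdJ).comp (Submodule.Quotient.restrictScalarsEquiv A J).symm.toLinearMap
  have hlin : ∀ c, lin (Ideal.Quotient.mk J c) = d c := fun c => rfl
  let D' : Derivation A (C ⧸ J) Q :=
    { lin with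
      map_one_eq_zero' := by
        show lin (Ideal.Quotient.mk J 1) = 0
        rw [hlin]
        show Submodule.Quotient.mk (KaehlerDifferential.D A C 1) = 0
        rw [Derivation.map_one_eq_zero]; rfl
      leibniz' := fun x y => by
        obtain ⟨x, rfl⟩ := Ideal.Quotient.mk_surjective x
        obtain ⟨y, rfl⟩ := Ideal.Quotient.mk_surjective y
        show lin (Ideal.Quotient.mk J (x * y)) = Ideal.Quotient.mk J x • d y + Ideal.Quotient.mk J y • d x
        rw [hlin]
        show Submodule.Quotient.mk (KaehlerDifferential.D A C (x * y)) = _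
        rw [Derivation.leibniz, Submodule.Quotient.mk_add, Submodule.Quotient.mk_smul, Submodule.Quotient.mk_smul]
        rfl }
  have hd : ∀ c, d c = 0 := fun c => by
    have h : D' (Ideal.Quotient.mk J c) = 0 := by
      rw [← D'.liftKaehlerDifferential_comp_D, Subsingleton.elim (KaehlerDifferential.D A (C ⧸ J) _) 0, map_zero]
    rwa [show D' (Ideal.Quotient.mk J c) = d c from rfl] at h
  have htop : (⊤ : Submodule C (Ω[C⁄A])) ≤ J • ⊤ := by
    rw [← KaehlerDifferential.span_range_derivation, Submodule.span_le]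
    rintro _ ⟨c, rfl⟩
    rw [KaehlerDifferential.span_range_derivation]
    exact (Submodule.Quotient.mk_eq_zero _).1 (hd c)
  have := Submodule.eq_bot_of_le_smul_of_le_jacobson_bot J _ Module.Finite.fg_top htop hI
  exact ⟨(Submodule.subsingleton_iff C).1 (subsingleton_of_bot_eq_top this.symm)⟩

theorem map_comap_eq_maximalIdeal (A : Type u) [CommRing A] [IsNoetherianRing A] (I : Ideal A) [IsAdicComplete I A]
    (B : Type u) [CommRing B] [Algebra A B] [IsNoetherianRing B] [IsAdicComplete (I.map (algebraMap A B)) B]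
    (hft : Algebra.FiniteType A (B ⧸ (I.map (algebraMap A B))))
    [Algebra.FormallyUnramified (A ⧸ I) (B ⧸ (I.map (algebraMap A B)))] (q : PrimeSpectrum B)
    (hp : ¬ I ≤ (PrimeSpectrum.comap (algebraMap A B) q).asIdeal ∧ ∀ y : PrimeSpectrum A,
      (PrimeSpectrum.comap (algebraMap A B) q) ≤ y → ¬ I ≤ y.asIdeal → y = (PrimeSpectrum.comap (algebraMap A B) q)) :
    ((PrimeSpectrum.comap (algebraMap A B) q).asIdeal.map (algebraMap A B)).map
      (algebraMap B (Localization.AtPrime q.asIdeal)) = IsLocalRing.maximalIdeal (Localization.AtPrime q.asIdeal) := by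
  classical
  let p := (PrimeSpectrum.comap (algebraMap A B) q).asIdeal
  obtain ⟨-, hmax, -⟩ := ((rigClosed_tfae A I (PrimeSpectrum.comap (algebraMap A B) q)).out 0 2).1 hp
  let IB := I.map (algebraMap A B)
  let P := p.map (algebraMap A B)
  let C := B ⧸ P
  haveI hcC : IsAdicComplete (IB.map (Ideal.Quotient.mk P)) C :=
    (IsAdicComplete.map_algebraMap_iff IB C).2 (FiniteCompleteLib.isAdicComplete_of_finite IB C)
  have hmap : IB.map (Ideal.Quotient.mk P) = I.map (algebraMap A C) := by
    rw [Ideal.map_map]; rfl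
  haveI hcC' : IsAdicComplete (I.map (algebraMap A C)) C := hmap ▸ hcC
  haveI : IsHausdorff I C := ((IsAdicComplete.map_algebraMap_iff (S := C) I C).1 hcC').toIsHausdorff
  haveI : Algebra.FormallyUnramified A (B ⧸ IB) := by
    haveI : Algebra.FormallyUnramified A (A ⧸ I) :=
      Algebra.FormallyUnramified.of_surjective (Algebra.ofId A (A ⧸ I)) Ideal.Quotient.mk_surjective
    exact Algebra.FormallyUnramified.comp A (A ⧸ I) (B ⧸ IB)
  have hquot : ∀ J : Ideal C, I.map (algebraMap A C) ≤ J →
      Algebra.FormallyUnramified A (C ⧸ J) ∧ Algebra.FiniteType A (C ⧸ J) := by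
    intro J hJ
    let f : (B ⧸ IB) →ₐ[A] C ⧸ J := Ideal.Quotient.liftₐ IB
      ((Ideal.Quotient.mkₐ A J).comp (Ideal.Quotient.mkₐ A P)) fun x hx =>
        Ideal.Quotient.eq_zero_iff_mem.2 (hJ (hmap ▸ Ideal.mem_map_of_mem _ hx))
    have hf : Function.Surjective f := fun y => by
      obtain ⟨y, rfl⟩ := Ideal.Quotient.mk_surjective y
      obtain ⟨y, rfl⟩ := Ideal.Quotient.mk_surjective y
      exact ⟨Ideal.Quotient.mk _ y, rfl⟩
    exact ⟨Algebra.FormallyUnramified.of_surjective f hf, hft.of_surjective f hf⟩
  obtain ⟨n, hn, hpn⟩ := Ideal.exists_le_maximal p ((PrimeSpectrum.comap (algebraMap A B) q).isPrime.ne_top)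
  haveI := hn
  haveI hnT : (n.map (Ideal.Quotient.mk p)).IsMaximal :=
    (Ideal.map_eq_top_or_isMaximal_of_surjective _ Ideal.Quotient.mk_surjective hn).resolve_left fun ht => hn.ne_top (by
      have h2 := congrArg (Ideal.comap (Ideal.Quotient.mk p)) ht
      rwa [Ideal.comap_map_mk hpn, Ideal.comap_top] at h2)
  have hIn : I ≤ n := fun a ha => by
    have h : Ideal.Quotient.mk p a ∈ n.map (Ideal.Quotient.mk p) := by
      rw [hmax _ hnT]
      exact Ideal.le_radical (Ideal.mem_map_of_mem _ ha)
    rwa [← Ideal.mem_comap, Ideal.comap_map_mk hpn] at h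
  have hnpow : ∃ N, (n.map (algebraMap A C)) ^ N ≤ I.map (algebraMap A C) := by
    obtain ⟨N, hN⟩ := Ideal.exists_pow_le_of_le_radical_of_fg
      (I := n.map (Ideal.Quotient.mk p)) (J := I.map (Ideal.Quotient.mk p)) (hmax _ hnT).le (IsNoetherian.noetherian _)
    refine ⟨N, ?_⟩
    let g : A ⧸ p →+* C := Ideal.quotientMap P (algebraMap A B) Ideal.le_comap_map
    have := Ideal.map_mono (f := g) hN
    rw [Ideal.map_pow, Ideal.map_map, Ideal.map_map] at this
    exact this
  haveI : Module.Finite A C := by
    obtain ⟨N, hN⟩ := hnpow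
    refine finite_of_finite_residue I (n.map (algebraMap A C)) ?_ ⟨N, hN⟩
    let J := n.map (algebraMap A C)
    obtain ⟨h1, h2⟩ := hquot J (Ideal.map_mono hIn)
    haveI := h1
    haveI := h2
    letI : Field (A ⧸ n) := Ideal.Quotient.field n
    letI : Algebra (A ⧸ n) (C ⧸ J) := (Ideal.quotientMap J (algebraMap A C) Ideal.le_comap_map).toAlgebra
    haveI : IsScalarTower A (A ⧸ n) (C ⧸ J) := IsScalarTower.of_algebraMap_eq fun _ => rfl
    haveI : Algebra.FormallyUnramified (A ⧸ n) (C ⧸ J) := Algebra.FormallyUnramified.of_restrictScalars A _ _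
    haveI : Algebra.FiniteType (A ⧸ n) (C ⧸ J) := Algebra.FiniteType.of_restrictScalars_finiteType A _ _
    haveI : Module.Finite (A ⧸ n) (C ⧸ J) := Algebra.FormallyUnramified.finite_of_free (A ⧸ n) (C ⧸ J)
    exact Module.Finite.trans (A ⧸ n) (C ⧸ J)
  haveI : Algebra.FormallyUnramified A C := by
    haveI := (hquot _ le_rfl).1
    exact formallyUnramified_of_quotient I (IsAdicComplete.le_jacobson_bot _)
  have hPq : P ≤ q.asIdeal := Ideal.map_le_iff_le_comap.2 le_rfl
  let qC := q.asIdeal.map (Ideal.Quotient.mk P)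
  haveI : qC.IsPrime := Ideal.isPrime_map_quotientMk_of_isPrime hPq
  haveI : p.IsPrime := (PrimeSpectrum.comap (algebraMap A B) q).isPrime
  let S := Localization.AtPrime qC
  let R := Localization.AtPrime p
  have hcomap : p = qC.comap (algebraMap A C) := by
    rw [IsScalarTower.algebraMap_eq A B C, ← Ideal.comap_comap]
    show p = Ideal.comap (algebraMap A B) (Ideal.comap (Ideal.Quotient.mk P) qC)
    rw [Ideal.comap_map_mk hPq]
    rfl
  letI : Algebra R S := (Localization.localRingHom p qC (algebraMap A C) hcomap).toAlgebra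
  haveI : IsScalarTower A R S := IsScalarTower.of_algebraMap_eq fun a => by
    rw [RingHom.algebraMap_toAlgebra, Localization.localRingHom_to_map, ← IsScalarTower.algebraMap_apply]
  haveI : IsLocalHom (algebraMap R S) := by rw [RingHom.algebraMap_toAlgebra]; infer_instance
  haveI : Algebra.FormallyUnramified A S := by
    haveI : Algebra.FormallyUnramified C S := Algebra.FormallyUnramified.of_isLocalization qC.primeCompl
    exact Algebra.FormallyUnramified.comp A C S
  haveI : Algebra.FormallyUnramified R S := Algebra.FormallyUnramified.of_restrictScalars A R S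
  haveI : Algebra.EssFiniteType A S := by
    haveI : Algebra.EssFiniteType C S := Algebra.EssFiniteType.of_isLocalization S qC.primeCompl
    exact Algebra.EssFiniteType.comp A C S
  haveI : Algebra.EssFiniteType R S := Algebra.EssFiniteType.of_comp A R S
  have hm := Algebra.FormallyUnramified.map_maximalIdeal (R := R) (S := S)
  rw [← Localization.AtPrime.map_eq_maximalIdeal, Ideal.map_map, ← IsScalarTower.algebraMap_eq] at hm
  have hbot : IsLocalRing.maximalIdeal S = ⊥ := by
    rw [← hm, IsScalarTower.algebraMap_eq A C S, ← Ideal.map_map]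
    have : p.map (algebraMap A C) = ⊥ := by
      rw [IsScalarTower.algebraMap_eq A B C, ← Ideal.map_map]
      exact Ideal.map_quotient_self P
    rw [this, Ideal.map_bot]
  let L := Localization.AtPrime q.asIdeal
  refine le_antisymm ?_ ?_
  · rw [← Localization.AtPrime.map_eq_maximalIdeal]
    exact Ideal.map_mono hPq
  · rw [← Localization.AtPrime.map_eq_maximalIdeal, Ideal.map_le_iff_le_comap]
    intro x hx
    have h0 : algebraMap C S (Ideal.Quotient.mk P x) = 0 := by
      rw [← Ideal.mem_bot, ← hbot, ← Localization.AtPrime.map_eq_maximalIdeal]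
      exact Ideal.mem_map_of_mem _ (Ideal.mem_map_of_mem _ hx)
    obtain ⟨⟨c, hc⟩, hcx⟩ := (IsLocalization.map_eq_zero_iff qC.primeCompl S _).1 h0
    obtain ⟨s, rfl⟩ := Ideal.Quotient.mk_surjective c
    have hs : s ∉ q.asIdeal := fun h => hc (Ideal.mem_map_of_mem _ h)
    have hsx : s * x ∈ P := by
      rw [← Ideal.Quotient.eq_zero_iff_mem, map_mul]; exact hcx
    have h3 := Ideal.mem_map_of_mem (algebraMap B L) hsx
    rw [map_mul] at h3
    exact (Ideal.unit_mul_mem_iff_mem _ (IsLocalization.map_units L (⟨s, hs⟩ : q.asIdeal.primeCompl))).1 h3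

end Groth.Agent.AdicRingLib
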