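import Mathlib
import Groth.Agent.AdicRingLib.RigFinite
import Groth.Agent.AdicRingLib.Maps
import Groth.Agent.RegLocal.Complete
import Groth.Agent.S8837

/-!
# Rig-closed points below a rig-closed point after a completed localization
-/

set_option autoImplicit false
set_option linter.style.haveILetI false

universe u

namespace Groth.Agent.AdicRingLib

/-- A finite type field extension becomes finite after inverting one element. -/
theorem exists_finite_over_away {R k : Type u} [CommRing R] [Field k] [Algebra R k] [Algebra.FiniteType R k] :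
    ∃ f : R, algebraMap R k f ≠ 0 ∧ Module.Finite (Algebra.adjoin R {(algebraMap R k f)⁻¹}) k := by
  classical
  let a := RingHom.ker (algebraMap R k)
  haveI : a.IsPrime := RingHom.ker_isPrime _
  let K := FractionRing (R ⧸ a)
  letI : Algebra (R ⧸ a) k := (RingHom.kerLift (algebraMap R k)).toAlgebra
  haveI : IsScalarTower R (R ⧸ a) k := IsScalarTower.of_algebraMap_eq fun _ => rfl
  haveI : FaithfulSMul (R ⧸ a) k := (faithfulSMul_iff_algebraMap_injective _ _).2 (RingHom.kerLift_injective _)
  letI : Algebra K k := FractionRing.liftAlgebra (R ⧸ a) k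
  haveI : Algebra.FiniteType (R ⧸ a) k := Algebra.FiniteType.of_restrictScalars_finiteType R _ _
  haveI : Algebra.FiniteType K k := Algebra.FiniteType.of_restrictScalars_finiteType (R ⧸ a) _ _
  haveI : Module.Finite K k := finite_of_finite_type_of_isJacobsonRing K k
  haveI : Algebra.IsAlgebraic (R ⧸ a) K := IsLocalization.isAlgebraic K (nonZeroDivisors (R ⧸ a))
  haveI : Algebra.IsAlgebraic (R ⧸ a) k := Algebra.IsAlgebraic.trans (R ⧸ a) K k
  obtain ⟨s, hs⟩ := (inferInstance : Algebra.FiniteType R k).out
  have h : ∀ x : k, ∃ c : R, algebraMap R k c ≠ 0 ∧ IsIntegral R (algebraMap R k c * x) := by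
    intro x
    obtain ⟨y, hy0, hy⟩ := (Algebra.IsAlgebraic.isAlgebraic (R := R ⧸ a) x).exists_integral_multiple
    obtain ⟨c, rfl⟩ := Ideal.Quotient.mk_surjective y
    refine ⟨c, fun h => hy0 (Ideal.Quotient.eq_zero_iff_mem.2 h), ?_⟩
    haveI : Algebra.IsIntegral R (R ⧸ a) := ⟨fun z => by
      obtain ⟨z, rfl⟩ := Ideal.Quotient.mk_surjective z
      exact isIntegral_algebraMap⟩
    have := isIntegral_trans (R := R) _ hy
    rwa [Algebra.smul_def] at this
  choose c hc0 hc using h
  refine ⟨∏ x ∈ s, c x, ?_, ?_⟩
  · rw [map_prod]; exact Finset.prod_ne_zero_iff.2 fun x _ => hc0 x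
  set u := (algebraMap R k (∏ x ∈ s, c x))⁻¹ with hu
  let S := Algebra.adjoin R {u}
  haveI : Algebra.FiniteType S k := Algebra.FiniteType.of_restrictScalars_finiteType R S k
  have hint : ∀ x ∈ s, IsIntegral S x := by
    intro x hx
    have hinv : (algebraMap R k (c x))⁻¹ ∈ S := by
      have : (algebraMap R k (c x))⁻¹ = algebraMap R k (∏ y ∈ s.erase x, c y) * u := by
        rw [hu, ← Finset.prod_erase_mul s c hx, map_mul]
        have hne : algebraMap R k (∏ y ∈ s.erase x, c y) ≠ 0 := by
          rw [map_prod]; exact Finset.prod_ne_zero_iff.2 fun x _ => hc0 x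
        field_simp
      rw [this]
      exact mul_mem (S.algebraMap_mem _) (Algebra.self_mem_adjoin_singleton R u)
    have h1 : IsIntegral S (algebraMap R k (c x) * x) := (hc x).tower_top
    have h2 := (isIntegral_algebraMap (R := S) (A := k) (x := ⟨_, hinv⟩)).mul h1
    have h3 : algebraMap S k ⟨_, hinv⟩ * (algebraMap R k (c x) * x) = x := by
      show (algebraMap R k (c x))⁻¹ * (algebraMap R k (c x) * x) = x
      rw [← mul_assoc, inv_mul_cancel₀ (hc0 x), one_mul]
    rwa [h3] at h2
  haveI : Algebra.IsIntegral S k := ⟨fun x => by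
    have hx : x ∈ Algebra.adjoin R (s : Set k) := hs ▸ Algebra.mem_top
    induction hx using Algebra.adjoin_induction with
    | mem x hx => exact hint x hx
    | algebraMap r => exact isIntegral_algebraMap (R := S) (x := algebraMap R S r)
    | add _ _ _ _ h1 h2 => exact h1.add h2
    | mul _ _ _ _ h1 h2 => exact h1.mul h2⟩
  exact Algebra.IsIntegral.finite

theorem exists_rigClosed_below (A : Type u) [CommRing A] [IsNoetherianRing A] (I : Ideal A) [IsAdicComplete I A]
    (B : Type u) [CommRing B] [Algebra A B] [IsNoetherianRing B] [IsAdicComplete (I.map (algebraMap A B)) B]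
    (hft : Algebra.FiniteType A (B ⧸ (I.map (algebraMap A B)))) (q : PrimeSpectrum B)
    (hq : (¬ (I.map (algebraMap A B)) ≤ q.asIdeal ∧ ∀ y : PrimeSpectrum B, q ≤ y → ¬ (I.map (algebraMap A B)) ≤ y.asIdeal → y = q)) :
    ∃ f : A, IsUnit (Ideal.Quotient.mk q.asIdeal (algebraMap A B f)) ∧
      ∀ ψ : (AdicCompletion (I.map (algebraMap A (Localization.Away f))) (Localization.Away f)) →+*
          (AdicCompletion ((I.map (algebraMap A B)).map (algebraMap B (Localization.Away (algebraMap A B f))))
            (Localization.Away (algebraMap A B f))),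
        ψ.comp (algebraMap (Localization.Away f) (AdicCompletion (I.map (algebraMap A (Localization.Away f))) (Localization.Away f))) =
          (algebraMap (Localization.Away (algebraMap A B f))
            (AdicCompletion ((I.map (algebraMap A B)).map (algebraMap B (Localization.Away (algebraMap A B f))))
              (Localization.Away (algebraMap A B f)))).comp (Localization.awayMap (algebraMap A B) f) →
        let p' := (q.asIdeal.map (algebraMap B (AdicCompletion ((I.map (algebraMap A B)).map
            (algebraMap B (Localization.Away (algebraMap A B f)))) (Localization.Away (algebraMap A B f))))).comap ψ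
        p'.IsPrime ∧
          ¬ (I.map (algebraMap A (AdicCompletion (I.map (algebraMap A (Localization.Away f))) (Localization.Away f)))) ≤ p' ∧
          ∀ y : PrimeSpectrum (AdicCompletion (I.map (algebraMap A (Localization.Away f))) (Localization.Away f)),
            p' ≤ y.asIdeal →
            ¬ (I.map (algebraMap A (AdicCompletion (I.map (algebraMap A (Localization.Away f))) (Localization.Away f)))) ≤ y.asIdeal →
            y.asIdeal = p' := by
  classical
  obtain ⟨hdim, hmax, -⟩ := ((rigClosed_tfae B (I.map (algebraMap A B)) q).out 0 2).1 hq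
  let T := B ⧸ q.asIdeal
  let π := Ideal.Quotient.mk q.asIdeal
  haveI hc : IsAdicComplete ((I.map (algebraMap A B)).map π) T :=
    (IsAdicComplete.map_algebraMap_iff (I.map (algebraMap A B)) T).2
      (FiniteCompleteLib.isAdicComplete_of_finite (I.map (algebraMap A B)) T)
  have hmap : (I.map (algebraMap A B)).map π = I.map (algebraMap A T) := by
    rw [Ideal.map_map]; rfl
  haveI hcT : IsAdicComplete (I.map (algebraMap A T)) T := hmap ▸ hc
  obtain ⟨M, hM⟩ := Ideal.exists_maximal T
  haveI := hM
  letI : Field (T ⧸ M) := Ideal.Quotient.field M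
  let m := M.comap π
  haveI : Algebra.FiniteType A (T ⧸ M) := by
    have hIm : I.map (algebraMap A B) ≤ m := by
      rw [← Ideal.map_le_iff_le_comap]
      exact (IsAdicComplete.le_jacobson_bot _).trans (sInf_le ⟨bot_le, hM⟩)
    exact hft.of_surjective (Ideal.Quotient.liftₐ _ ((Ideal.Quotient.mkₐ A M).comp (Ideal.Quotient.mkₐ A q.asIdeal))
      fun x hx => Ideal.Quotient.eq_zero_iff_mem.2 (hIm hx)) fun y => by
      obtain ⟨y, rfl⟩ := Ideal.Quotient.mk_surjective y
      obtain ⟨y, rfl⟩ := Ideal.Quotient.mk_surjective y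
      exact ⟨Ideal.Quotient.mk _ y, rfl⟩
  obtain ⟨f, hf0, hffin⟩ := exists_finite_over_away (R := A) (k := T ⧸ M)
  have hfu : IsUnit (algebraMap A T f) := by
    by_contra hn
    obtain ⟨M', hM', hfM'⟩ := exists_max_ideal_of_mem_nonunits (a := algebraMap A T f) hn
    exact hf0 (Ideal.Quotient.eq_zero_iff_mem.2 ((hmax M hM).trans (hmax M' hM').symm ▸ hfM'))
  refine ⟨f, hfu, fun ψ hψ => ?_⟩
  let Lf := Localization.Away f
  let Bf := Localization.Away (algebraMap A B f)
  let JA := I.map (algebraMap A Lf)
  let JB := (I.map (algebraMap A B)).map (algebraMap B Bf)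
  let C := AdicCompletion JA Lf
  let D := AdicCompletion JB Bf
  haveI : IsNoetherianRing Lf := IsLocalization.isNoetherianRing (Submonoid.powers f) Lf inferInstance
  haveI : IsNoetherianRing C := RegLocal.isNoetherianRing_adicCompletion JA (IsNoetherian.noetherian JA)
  haveI hcC : IsAdicComplete (I.map (algebraMap A C)) C := by
    have h := AdicCompletion.isAdicComplete (M := Lf) (IsNoetherian.noetherian JA)
    rw [IsAdicComplete.map_algebraMap_iff]
    exact (IsAdicComplete.map_algebraMap_iff I C (S := Lf)).1 h
  obtain ⟨hqD, hbij⟩ := S8837.result B (I.map (algebraMap A B)) q.asIdeal (algebraMap A B f) hfu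
  let qD := q.asIdeal.map (algebraMap B D)
  let e : T ≃ₐ[B] D ⧸ qD := AlgEquiv.ofBijective
    (Ideal.quotientMapₐ qD (Algebra.ofId B D) Ideal.le_comap_map) hbij
  let χ₀ : C →+* T := (e.symm.toAlgHom.toRingHom.comp (Ideal.Quotient.mk qD)).comp ψ
  have hψA : ∀ a, ψ (algebraMap A C a) = algebraMap B D (algebraMap A B a) := by
    intro a
    have h := RingHom.congr_fun hψ (algebraMap A Lf a)
    rw [RingHom.comp_apply, RingHom.comp_apply, ← IsScalarTower.algebraMap_apply A Lf C] at h
    rw [h, IsScalarTower.algebraMap_apply B Bf D]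
    exact congrArg _ (IsLocalization.map_eq _ a)
  let χ : C →ₐ[A] T :=
    { toRingHom := χ₀
      commutes' := fun a => by
        show e.symm (Ideal.Quotient.mk qD (ψ (algebraMap A C a))) = _
        rw [hψA, show Ideal.Quotient.mk qD (algebraMap B D (algebraMap A B a)) = algebraMap B (D ⧸ qD) (algebraMap A B a) from rfl,
          AlgEquiv.commutes]
        rfl }
  letI : Algebra C T := χ.toRingHom.toAlgebra
  haveI : IsScalarTower A C T := IsScalarTower.of_algebraMap_eq fun a => (χ.commutes a).symm
  have hp' : qD.comap ψ = RingHom.ker (algebraMap C T) := by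
    ext x
    show ψ x ∈ qD ↔ e.symm (Ideal.Quotient.mk qD (ψ x)) = 0
    rw [map_eq_zero_iff _ e.symm.injective, Ideal.Quotient.eq_zero_iff_mem]
  haveI hprime : (RingHom.ker (algebraMap C T)).IsPrime := RingHom.ker_isPrime _
  -- finiteness over the completed localization
  haveI hfinM : Module.Finite C (T ⧸ M) := by
    let S := Algebra.adjoin A {(algebraMap A (T ⧸ M) f)⁻¹}
    have hS : ∀ x ∈ S, ∃ z : C, algebraMap C (T ⧸ M) z = x := by
      intro x hx
      induction hx using Algebra.adjoin_induction with
      | mem x hx =>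
        obtain rfl := hx
        obtain ⟨g, hg⟩ : ∃ g : C, algebraMap A C f * g = 1 := by
          have h : IsUnit (algebraMap A C f) := by
            rw [IsScalarTower.algebraMap_apply A Lf C]
            exact (IsLocalization.Away.algebraMap_isUnit f).map _
          exact h.exists_right_inv
        refine ⟨g, ?_⟩
        have h1 := congrArg (algebraMap C (T ⧸ M)) hg
        rw [map_mul, map_one, ← IsScalarTower.algebraMap_apply A C (T ⧸ M)] at h1
        exact eq_inv_of_mul_eq_one_right h1
      | algebraMap r => exact ⟨algebraMap A C r, (IsScalarTower.algebraMap_apply A C (T ⧸ M) r).symm⟩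
      | add _ _ _ _ h1 h2 =>
        obtain ⟨a, rfl⟩ := h1
        obtain ⟨b, rfl⟩ := h2
        exact ⟨a + b, map_add _ _ _⟩
      | mul _ _ _ _ h1 h2 =>
        obtain ⟨a, rfl⟩ := h1
        obtain ⟨b, rfl⟩ := h2
        exact ⟨a * b, map_mul _ _ _⟩
    haveI : Module.Finite S (T ⧸ M) := hffin
    obtain ⟨G, hG⟩ := (Module.Finite.fg_top : (⊤ : Submodule S (T ⧸ M)).FG)
    refine ⟨⟨G, eq_top_iff.2 fun x htop => ?_⟩⟩
    clear htop
    have hx : x ∈ Submodule.span S (G : Set (T ⧸ M)) := hG ▸ Submodule.mem_top
    induction hx using Submodule.span_induction with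
    | mem x hx => exact Submodule.subset_span hx
    | zero => exact zero_mem _
    | add _ _ _ _ h1 h2 => exact add_mem h1 h2
    | smul s x _ h =>
      obtain ⟨z, hz⟩ := hS s.1 s.2
      have : s • x = z • x := by
        rw [Algebra.smul_def, Algebra.smul_def, hz]
        rfl
      rw [this]
      exact Submodule.smul_mem _ _ h
  haveI : IsHausdorff (I.map (algebraMap A C)) T := by
    have h1 : IsAdicComplete ((I.map (algebraMap A C)).map (algebraMap C T)) T := by
      rw [Ideal.map_map, ← IsScalarTower.algebraMap_eq]; exact hcT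
    exact ((IsAdicComplete.map_algebraMap_iff (S := T) (I.map (algebraMap A C)) T).1 h1).toIsHausdorff
  haveI : Module.Finite C T := by
    obtain ⟨N, hN⟩ := Ideal.exists_radical_pow_le_of_fg (I.map (algebraMap A T)) (IsNoetherian.noetherian _)
    refine finite_of_finite_residue (I.map (algebraMap A C)) M hfinM ⟨N, ?_⟩
    rw [hmax M hM, hmap, Ideal.map_map, ← IsScalarTower.algebraMap_eq]
    exact hN
  have key : ringKrullDim (C ⧸ RingHom.ker (algebraMap C T)) = 1 ∧
      ¬ I.map (algebraMap A C) ≤ RingHom.ker (algebraMap C T) := by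
    refine ⟨?_, fun hle => ?_⟩
    · rw [GrSegreLib.ringKrullDim_eq_of_integral_injective (RingHom.kerLift (algebraMap C T))
        (RingHom.kerLift_injective _) ?_]
      · exact hdim
      · exact RingHom.IsIntegral.tower_top (Ideal.Quotient.mk _) _
          (algebraMap_isIntegral_iff.2 (Algebra.IsIntegral.of_finite C T) :)
    · obtain ⟨-, hI⟩ := ((rigClosed_tfae B (I.map (algebraMap A B)) q).out 0 1).1 hq
      refine hI (Ideal.map_le_iff_le_comap.2 fun a ha => ?_)
      have h1 := hle (Ideal.mem_map_of_mem (algebraMap A C) ha)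
      rw [RingHom.mem_ker, ← IsScalarTower.algebraMap_apply] at h1
      show algebraMap A B a ∈ q.asIdeal
      exact Ideal.Quotient.eq_zero_iff_mem.1 (show π (algebraMap A B a) = 0 from h1)
  obtain ⟨hI', hmax'⟩ := ((rigClosed_tfae C (I.map (algebraMap A C)) ⟨_, hprime⟩).out 1 0).1 key
  show (qD.comap ψ).IsPrime ∧ _
  refine ⟨hp' ▸ hprime, hp' ▸ hI', fun y hy hyI => ?_⟩
  rw [hp'] at hy ⊢
  exact congrArg PrimeSpectrum.asIdeal (hmax' y hy hyI)

end Groth.Agent.AdicRingLib
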