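import Mathlib
import Groth.Agent.AdicRingLib.RigBelow
import Groth.Agent.AdicRingLib.ComplMapFlat
import Groth.Agent.FpqcDesc.Stalk
import Groth.Agent.LocFlat.Basic
import Groth.Agent.FlatLocus.Fibrewise

/-!
# Completed principal localizations and rig-closed points
-/

set_option autoImplicit false
set_option linter.style.haveILetI false

universe u

namespace Groth.Agent.AdicRingLib

/-- The completed principal localization. -/
abbrev CL {A : Type u} [CommRing A] (I : Ideal A) (f : A) : Type u :=
  AdicCompletion (I.map (algebraMap A (Localization.Away f))) (Localization.Away f)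

/-- A point of the complement of `V(J)` closed there. -/
abbrev RC {X : Type u} [CommRing X] (J : Ideal X) (q : PrimeSpectrum X) : Prop :=
  ¬ J ≤ q.asIdeal ∧ ∀ y : PrimeSpectrum X, q ≤ y → ¬ J ≤ y.asIdeal → y = q

section CL

variable {A : Type u} [CommRing A] (I : Ideal A) (f : A)

instance isNoetherianRing_CL [IsNoetherianRing A] : IsNoetherianRing (CL I f) := by
  haveI : IsNoetherianRing (Localization.Away f) :=
    IsLocalization.isNoetherianRing (Submonoid.powers f) _ inferInstance
  exact RegLocal.isNoetherianRing_adicCompletion _ (IsNoetherian.noetherian _)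

theorem mapI_eq : I.map (algebraMap A (CL I f)) =
    (I.map (algebraMap A (Localization.Away f))).map (algebraMap (Localization.Away f) (CL I f)) := by
  rw [Ideal.map_map, ← IsScalarTower.algebraMap_eq]

theorem isUnit_CL : IsUnit (algebraMap A (CL I f) f) := by
  rw [IsScalarTower.algebraMap_apply A (Localization.Away f) (CL I f)]
  exact (IsLocalization.Away.algebraMap_isUnit f).map _

variable [IsNoetherianRing A]

theorem isAdicComplete_CL : IsAdicComplete (I.map (algebraMap A (CL I f))) (CL I f) := by
  rw [mapI_eq]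
  exact AdicCompletion.isAdicComplete_self _ (Ideal.FG.map (IsNoetherian.noetherian I) _)

theorem finiteType_CL : Algebra.FiniteType A (CL I f ⧸ I.map (algebraMap A (CL I f))) := by
  haveI : Algebra.FiniteType A (Localization.Away f) := IsLocalization.finiteType_of_monoid_fg (Submonoid.powers f) _
  refine Algebra.FiniteType.of_surjective (((Ideal.Quotient.mkₐ (Localization.Away f) (I.map (algebraMap A (CL I f)))).comp
    (Algebra.ofId (Localization.Away f) (CL I f))).restrictScalars A) fun y => ?_
  obtain ⟨y, rfl⟩ := Ideal.Quotient.mk_surjective y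
  obtain ⟨c, hc⟩ := Submodule.Quotient.mk_surjective _
    (AdicCompletion.eval (I.map (algebraMap A (Localization.Away f))) (Localization.Away f) 1 y)
  refine ⟨c, ?_⟩
  show Ideal.Quotient.mk _ (algebraMap (Localization.Away f) (CL I f) c) = _
  rw [eq_comm, Ideal.Quotient.eq, mapI_eq]
  have hmem : y - algebraMap (Localization.Away f) (CL I f) c ∈
      (I.map (algebraMap A (Localization.Away f))) ^ 1 • (⊤ : Submodule (Localization.Away f) (CL I f)) := by
    rw [AdicCompletion.pow_smul_top_eq_ker_eval (Ideal.FG.map (IsNoetherian.noetherian I) _), LinearMap.mem_ker, map_sub,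
      sub_eq_zero]
    exact hc.symm
  rwa [pow_one, Ideal.smul_top_eq_map, Submodule.restrictScalars_mem] at hmem

omit [IsNoetherianRing A] in
/-- The universal property. -/
theorem exists_hom {T : Type u} [CommRing T] (φ : A →+* T) [IsAdicComplete (I.map φ) T] (hf : IsUnit (φ f)) :
    ∃ g : CL I f →+* T, g.comp (algebraMap A (CL I f)) = φ := by
  letI : Algebra A T := φ.toAlgebra
  let g₀ : Localization.Away f →ₐ[A] T := IsLocalization.liftAlgHom (M := Submonoid.powers f)
    (f := Algebra.ofId A T) fun y => by
      obtain ⟨k, hk⟩ := y.2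
      rw [← hk, map_pow]
      exact hf.pow k
  obtain ⟨G, hG⟩ := exists_algHom_completion (I.map (algebraMap A (Localization.Away f))) (I.map φ) g₀ (by
    rw [Ideal.map_le_iff_le_comap, Ideal.map_le_iff_le_comap]
    intro a ha
    rw [Ideal.mem_comap, Ideal.mem_comap, g₀.commutes]
    exact Ideal.mem_map_of_mem _ ha)
  exact ⟨G.toRingHom, RingHom.ext fun a => G.commutes a⟩

theorem hom_ext {T : Type u} [CommRing T] {φ : A →+* T} [IsAdicComplete (I.map φ) T] {g g' : CL I f →+* T}
    (h : g.comp (algebraMap A (CL I f)) = φ) (h' : g'.comp (algebraMap A (CL I f)) = φ) : g = g' := by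
  letI : Algebra A T := φ.toAlgebra
  let G : CL I f →ₐ[A] T := { g with commutes' := RingHom.congr_fun h }
  let G' : CL I f →ₐ[A] T := { g' with commutes' := RingHom.congr_fun h' }
  have hL : ∀ c, G (algebraMap (Localization.Away f) (CL I f) c) = G' (algebraMap (Localization.Away f) (CL I f) c) := by
    have := IsLocalization.ringHom_ext (Submonoid.powers f)
      (j := g.comp (algebraMap (Localization.Away f) (CL I f))) (k := g'.comp (algebraMap (Localization.Away f) (CL I f)))
      (RingHom.ext fun a => by
        show g (algebraMap (Localization.Away f) (CL I f) (algebraMap A (Localization.Away f) a)) =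
          g' (algebraMap (Localization.Away f) (CL I f) (algebraMap A (Localization.Away f) a))
        rw [← IsScalarTower.algebraMap_apply]
        exact (RingHom.congr_fun h a).trans (RingHom.congr_fun h' a).symm)
    exact fun c => RingHom.congr_fun this c
  have hK : ∀ c ∈ I.map (algebraMap A (Localization.Away f)),
      G (algebraMap (Localization.Away f) (CL I f) c) ∈ I.map φ := by
    intro c hc
    have h1 := Ideal.mem_map_of_mem (g.comp (algebraMap (Localization.Away f) (CL I f))) hc
    rw [Ideal.map_map, RingHom.comp_assoc, ← IsScalarTower.algebraMap_eq, h] at h1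
    exact h1
  have := algHom_completion_ext (K := I.map φ) (Ideal.FG.map (IsNoetherian.noetherian I) _) hK hL
  exact RingHom.ext fun x => AlgHom.congr_fun this x

/-- Maps between completed localizations of flat maps are flat. -/
theorem flat_hom {B : Type u} [CommRing B] [IsNoetherianRing B] {φ : A →+* B} (hφ : φ.Flat) {J : Ideal B}
    (hJ : I.map φ = J) (h : B) {g : CL I f →+* CL J h}
    (hg : g.comp (algebraMap A (CL I f)) = (algebraMap B (CL J h)).comp φ) (hu : IsUnit (algebraMap B (CL J h) (φ f)))
    (hu' : IsUnit (algebraMap B (Localization.Away h) (φ f))) : g.Flat := by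
  clear hu
  let Lf := Localization.Away f
  let Lh := Localization.Away h
  haveI : IsNoetherianRing Lf := IsLocalization.isNoetherianRing (Submonoid.powers f) _ inferInstance
  haveI : IsNoetherianRing Lh := IsLocalization.isNoetherianRing (Submonoid.powers h) _ inferInstance
  letI : Algebra A B := φ.toAlgebra
  haveI : Module.Flat A B := hφ
  let l : Lf →+* Lh := IsLocalization.Away.lift f (g := (algebraMap B Lh).comp φ) hu'
  have hl : l.comp (algebraMap A Lf) = (algebraMap B Lh).comp φ := IsLocalization.Away.lift_comp f hu'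
  letI : Algebra Lf Lh := l.toAlgebra
  haveI : IsScalarTower A B Lh := IsScalarTower.of_algebraMap_eq fun _ => rfl
  haveI : IsScalarTower A Lf Lh := IsScalarTower.of_algebraMap_eq fun a => (RingHom.congr_fun hl a).symm
  haveI : Module.Flat B Lh := IsLocalization.flat Lh (Submonoid.powers h)
  haveI : Module.Flat A Lh := Module.Flat.trans A B Lh
  have hlflat : l.Flat := (Module.flat_iff_of_isLocalization Lf (Submonoid.powers f) Lh).2 inferInstance
  have hmap : (I.map (algebraMap A Lf)).map l = J.map (algebraMap B Lh) := by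
    rw [← hJ, Ideal.map_map, Ideal.map_map, hl]
  have hflat := flat_complMap _ _ l hlflat hmap
  have heq : g = FSch.complMap (I.map (algebraMap A Lf)) (J.map (algebraMap B Lh)) l hmap.le := by
    haveI : IsAdicComplete (I.map ((algebraMap B (CL J h)).comp φ)) (CL J h) := by
      rw [← Ideal.map_map, hJ]
      exact isAdicComplete_CL J h
    refine hom_ext I f hg (RingHom.ext fun a => ?_)
    refine AdicCompletion.ext_evalₐ fun n => ?_
    rw [RingHom.comp_apply, S3869.evalₐ_complMap, IsScalarTower.algebraMap_apply A Lf (CL I f), AlgHom.commutes,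
      RingHom.comp_apply, IsScalarTower.algebraMap_apply B Lh (CL J h), AlgHom.commutes, Ideal.Quotient.algebraMap_eq,
      Ideal.Quotient.algebraMap_eq, Ideal.quotientMap_mk]
    exact congrArg _ (RingHom.congr_fun hl a)
  rw [heq]
  exact hflat

omit [IsNoetherianRing A] in
/-- A map commuting with the localizations commutes with the base. -/
theorem comp_of_awayMap {B : Type u} [CommRing B] {φ : A →+* B} {J : Ideal B} {g : CL I f →+* CL J (φ f)}
    (h : g.comp (algebraMap (Localization.Away f) (CL I f)) =
      (algebraMap (Localization.Away (φ f)) (CL J (φ f))).comp (Localization.awayMap φ f)) :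
    g.comp (algebraMap A (CL I f)) = (algebraMap B (CL J (φ f))).comp φ := by
  refine RingHom.ext fun a => ?_
  have h1 := RingHom.congr_fun h (algebraMap A (Localization.Away f) a)
  rw [RingHom.comp_apply, RingHom.comp_apply, ← IsScalarTower.algebraMap_apply A (Localization.Away f) (CL I f)] at h1
  rw [RingHom.comp_apply, RingHom.comp_apply, h1, IsScalarTower.algebraMap_apply B (Localization.Away (φ f)) (CL J (φ f))]
  exact congrArg _ (IsLocalization.map_eq _ a)

omit [IsNoetherianRing A] in
theorem exists_awayHom {B : Type u} [CommRing B] [IsNoetherianRing B] (φ : A →+* B) {J : Ideal B} (hJ : I.map φ = J) :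
    ∃ g : CL I f →+* CL J (φ f),
      g.comp (algebraMap (Localization.Away f) (CL I f)) =
        (algebraMap (Localization.Away (φ f)) (CL J (φ f))).comp (Localization.awayMap φ f) := by
  haveI : IsAdicComplete (I.map ((algebraMap B (CL J (φ f))).comp φ)) (CL J (φ f)) := by
    rw [← Ideal.map_map, hJ]
    exact isAdicComplete_CL J (φ f)
  obtain ⟨g, hg⟩ := exists_hom I f ((algebraMap B (CL J (φ f))).comp φ) (isUnit_CL J (φ f))
  refine ⟨g, IsLocalization.ringHom_ext (Submonoid.powers f) (RingHom.ext fun a => ?_)⟩
  show g (algebraMap (Localization.Away f) (CL I f) (algebraMap A (Localization.Away f) a)) =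
    algebraMap (Localization.Away (φ f)) (CL J (φ f)) (Localization.awayMap φ f (algebraMap A (Localization.Away f) a))
  rw [← IsScalarTower.algebraMap_apply A (Localization.Away f) (CL I f), show g (algebraMap A (CL I f) a) = _ from RingHom.congr_fun hg a]
  rw [RingHom.comp_apply, IsScalarTower.algebraMap_apply B (Localization.Away (φ f)) (CL J (φ f))]
  exact congrArg _ (IsLocalization.map_eq _ a).symm

end CL

/-- The residue data of a rig-closed point. -/
theorem rig_data {D : Type u} [CommRing D] [IsNoetherianRing D] {J : Ideal D} [IsAdicComplete J D]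
    {q : PrimeSpectrum D} (hq : RC J q) :
    IsAdicComplete (J.map (Ideal.Quotient.mk q.asIdeal)) (D ⧸ q.asIdeal) ∧ ringKrullDim (D ⧸ q.asIdeal) = 1 ∧
      J.map (Ideal.Quotient.mk q.asIdeal) ≠ ⊥ := by
  obtain ⟨hd, hI⟩ := ((rigClosed_tfae D J q).out 0 1).1 hq
  refine ⟨(IsAdicComplete.map_algebraMap_iff J (D ⧸ q.asIdeal)).2 (FiniteCompleteLib.isAdicComplete_of_finite J _), hd, ?_⟩
  rw [Ne, Ideal.map_eq_bot_iff_le_ker, Ideal.mk_ker]
  exact hI

/-- An element of the base after inverting which a rig-closed point is finite over the base. -/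
theorem exists_good {A : Type u} [CommRing A] (I : Ideal A) {D : Type u} [CommRing D] [IsNoetherianRing D]
    (φ : A →+* D) [IsAdicComplete (I.map φ) D]
    (hft : ((Ideal.Quotient.mk (I.map φ)).comp φ).FiniteType) {q : PrimeSpectrum D} (hq : RC (I.map φ) q) :
    ∃ f : A, IsUnit (Ideal.Quotient.mk q.asIdeal (φ f)) ∧
      ∀ (X : Type u) [CommRing X] (ψ : A →+* X) [IsAdicComplete (I.map ψ) X] (χ : X →+* D ⧸ q.asIdeal),
        χ.comp ψ = (Ideal.Quotient.mk q.asIdeal).comp φ → IsUnit (ψ f) → χ.Finite := by
  classical
  obtain ⟨hdim, hmax, -⟩ := ((rigClosed_tfae D (I.map φ) q).out 0 2).1 hq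
  obtain ⟨hc, -, -⟩ := rig_data hq
  let T := D ⧸ q.asIdeal
  letI : Algebra A D := φ.toAlgebra
  let π := Ideal.Quotient.mk q.asIdeal
  obtain ⟨M, hM⟩ := Ideal.exists_maximal T
  haveI := hM
  letI : Field (T ⧸ M) := Ideal.Quotient.field M
  haveI hcT : IsAdicComplete (I.map (algebraMap A T)) T := by
    have : I.map (algebraMap A T) = (I.map φ).map π := by rw [Ideal.map_map]; rfl
    rw [this]; exact hc
  haveI : Algebra.FiniteType A (T ⧸ M) := by
    have hIm : I.map φ ≤ M.comap π := by
      rw [← Ideal.map_le_iff_le_comap]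
      exact (IsAdicComplete.le_jacobson_bot _).trans (sInf_le ⟨bot_le, hM⟩)
    have hft' : Algebra.FiniteType A (D ⧸ I.map φ) := hft
    exact hft'.of_surjective (Ideal.Quotient.liftₐ _ ((Ideal.Quotient.mkₐ A M).comp (Ideal.Quotient.mkₐ A q.asIdeal))
      fun x hx => Ideal.Quotient.eq_zero_iff_mem.2 (hIm hx)) fun y => by
      obtain ⟨y, rfl⟩ := Ideal.Quotient.mk_surjective y
      obtain ⟨y, rfl⟩ := Ideal.Quotient.mk_surjective y
      exact ⟨Ideal.Quotient.mk _ y, rfl⟩
  obtain ⟨f, hf0, hffin⟩ := exists_finite_over_away (R := A) (k := T ⧸ M)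
  have hfu : IsUnit (algebraMap A T f) := by
    by_contra hn
    obtain ⟨M', hM', hfM'⟩ := exists_max_ideal_of_mem_nonunits (a := algebraMap A T f) hn
    exact hf0 (Ideal.Quotient.eq_zero_iff_mem.2 ((hmax M hM).trans (hmax M' hM').symm ▸ hfM'))
  refine ⟨f, hfu, fun X _ ψ _ χ₀ hχ₀ hu => ?_⟩
  letI : Algebra A X := ψ.toAlgebra
  let χ : X →ₐ[A] T := { χ₀ with commutes' := fun a => RingHom.congr_fun hχ₀ a }
  letI : Algebra X T := χ.toRingHom.toAlgebra
  haveI : IsScalarTower A X T := IsScalarTower.of_algebraMap_eq fun a => (χ.commutes a).symm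
  haveI hfinM : Module.Finite X (T ⧸ M) := by
    let S := Algebra.adjoin A {(algebraMap A (T ⧸ M) f)⁻¹}
    have hS : ∀ x ∈ S, ∃ z : X, algebraMap X (T ⧸ M) z = x := by
      intro x hx
      induction hx using Algebra.adjoin_induction with
      | mem x hx =>
        obtain rfl := hx
        obtain ⟨g, hg⟩ := hu.exists_right_inv
        refine ⟨g, ?_⟩
        have h1 := congrArg (algebraMap X (T ⧸ M)) hg
        rw [map_mul, map_one, show algebraMap X (T ⧸ M) (ψ f) = algebraMap A (T ⧸ M) f from
          (IsScalarTower.algebraMap_apply A X (T ⧸ M) f).symm] at h1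
        exact eq_inv_of_mul_eq_one_right h1
      | algebraMap r => exact ⟨algebraMap A X r, (IsScalarTower.algebraMap_apply A X (T ⧸ M) r).symm⟩
      | add _ _ _ _ h1 h2 =>
        obtain ⟨a, rfl⟩ := h1
        obtain ⟨b, rfl⟩ := h2
        exact ⟨a + b, map_add _ _ _⟩
      | mul _ _ _ _ h1 h2 =>
        obtain ⟨a, rfl⟩ := h1
        obtain ⟨b, rfl⟩ := h2
        exact ⟨a * b, map_mul _ _ _⟩
    haveI : Module.Finite S (T ⧸ M) := hffin
    obtain ⟨G, hG⟩ := (Module.Finite.fg_top : (⊤ : Submodule S (T ⧸ M)).FG)
    refine ⟨⟨G, eq_top_iff.2 fun x htop => ?_⟩⟩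
    clear htop
    have hx : x ∈ Submodule.span S (G : Set (T ⧸ M)) := hG ▸ Submodule.mem_top
    induction hx using Submodule.span_induction with
    | mem x hx => exact Submodule.subset_span hx
    | zero => exact zero_mem _
    | add _ _ _ _ h1 h2 => exact add_mem h1 h2
    | smul s x _ h =>
      obtain ⟨z, hz⟩ := hS s.1 s.2
      have : s • x = z • x := by
        rw [Algebra.smul_def, Algebra.smul_def, hz]
        rfl
      rw [this]
      exact Submodule.smul_mem _ _ h
  haveI : IsAdicComplete (I.map (algebraMap A X)) X := ‹IsAdicComplete (I.map ψ) X›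
  haveI : IsHausdorff (I.map (algebraMap A X)) T := by
    have h1 : IsAdicComplete ((I.map (algebraMap A X)).map (algebraMap X T)) T := by
      rw [Ideal.map_map, ← IsScalarTower.algebraMap_eq]; exact hcT
    exact ((IsAdicComplete.map_algebraMap_iff (S := T) (I.map (algebraMap A X)) T).1 h1).toIsHausdorff
  haveI : Module.Finite X T := by
    obtain ⟨N, hN⟩ := Ideal.exists_radical_pow_le_of_fg (I.map (algebraMap A T)) (IsNoetherian.noetherian _)
    refine finite_of_finite_residue (I.map (algebraMap A X)) M hfinM ⟨N, ?_⟩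
    rw [hmax M hM, show (I.map φ).map π = I.map (algebraMap A T) by rw [Ideal.map_map]; rfl,
      Ideal.map_map, ← IsScalarTower.algebraMap_eq]
    exact hN
  exact ‹Module.Finite X T›

/-- The kernel of a finite map to the residue ring of a rig-closed point is rig-closed. -/
theorem rc_ker {X : Type u} [CommRing X] [IsNoetherianRing X] (J : Ideal X) [IsAdicComplete J X] {T : Type u}
    [CommRing T] [IsDomain T] (hd : ringKrullDim T = 1) (χ : X →+* T) (hfin : χ.Finite) (hJ : J.map χ ≠ ⊥)
    [h : (RingHom.ker χ).IsPrime] : RC J ⟨RingHom.ker χ, h⟩ := by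
  refine ((rigClosed_tfae X J ⟨RingHom.ker χ, h⟩).out 1 0).1 (show ringKrullDim (X ⧸ RingHom.ker χ) = 1 ∧ _ from ⟨?_, ?_⟩)
  · rw [GrSegreLib.ringKrullDim_eq_of_integral_injective (RingHom.kerLift χ) (RingHom.kerLift_injective _) ?_]
    · exact hd
    · exact RingHom.IsIntegral.tower_top (Ideal.Quotient.mk _) _ hfin.to_isIntegral
  · intro hle
    exact hJ ((Ideal.map_eq_bot_iff_le_ker _).2 hle)

/-- Flatness descends along a flat map of local rings. -/
theorem flat_descent {R S S' : Type u} [CommRing R] [CommRing S] [CommRing S'] (φ : R →+* S) (χ : S →+* S')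
    (hχ : χ.Flat) (q : Ideal S) [q.IsPrime] (q' : Ideal S') [q'.IsPrime] (hq : q'.comap χ = q)
    (h : ((algebraMap S' (Localization.AtPrime q')).comp (χ.comp φ)).Flat) :
    ((algebraMap S (Localization.AtPrime q)).comp φ).Flat := by
  let Sq := Localization.AtPrime q
  let Sq' := Localization.AtPrime q'
  letI : Algebra Sq Sq' := (Localization.localRingHom q q' χ hq.symm).toAlgebra
  letI : Algebra S S' := χ.toAlgebra
  letI : Algebra R Sq := ((algebraMap S Sq).comp φ).toAlgebra
  letI : Algebra R Sq' := ((algebraMap S' Sq').comp (χ.comp φ)).toAlgebra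
  haveI : IsScalarTower R Sq Sq' := IsScalarTower.of_algebraMap_eq fun r => by
    show algebraMap S' Sq' (χ (φ r)) = Localization.localRingHom q q' χ hq.symm (algebraMap S Sq (φ r))
    rw [Localization.localRingHom_to_map]
  haveI : IsScalarTower S Sq Sq' := IsScalarTower.of_algebraMap_eq fun s => by
    rw [RingHom.algebraMap_toAlgebra, Localization.localRingHom_to_map]
    exact IsScalarTower.algebraMap_apply S S' Sq' s
  haveI : Module.Flat S S' := hχ
  haveI : Module.Flat S' Sq' := IsLocalization.flat Sq' q'.primeCompl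
  haveI : Module.Flat S Sq' := Module.Flat.trans S S' Sq'
  haveI : Module.Flat Sq Sq' := (Module.flat_iff_of_isLocalization Sq q.primeCompl Sq').2 inferInstance
  haveI : IsLocalHom (algebraMap Sq Sq') := by rw [RingHom.algebraMap_toAlgebra]; infer_instance
  haveI : Module.FaithfullyFlat Sq Sq' := Module.FaithfullyFlat.of_flat_of_isLocalHom
  haveI : Module.Flat R Sq' := h
  exact FlatDescStalk.flat_of_comp_faithfullyFlat R Sq Sq'

/-- Flatness at a composite point. -/
theorem flat_comp_at {R S S' : Type u} [CommRing R] [CommRing S] [CommRing S'] (φ : R →+* S) (χ : S →+* S')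
    (q : Ideal S) [q.IsPrime] (q' : Ideal S') [q'.IsPrime] (hq : q'.comap χ = q)
    (h1 : ((algebraMap S (Localization.AtPrime q)).comp φ).Flat)
    (h2 : ((algebraMap S' (Localization.AtPrime q')).comp χ).Flat) :
    ((algebraMap S' (Localization.AtPrime q')).comp (χ.comp φ)).Flat := by
  let Sq := Localization.AtPrime q
  let Sq' := Localization.AtPrime q'
  letI : Algebra S Sq' := ((algebraMap S' Sq').comp χ).toAlgebra
  letI : Algebra Sq Sq' := (Localization.localRingHom q q' χ hq.symm).toAlgebra
  haveI : IsScalarTower S Sq Sq' := IsScalarTower.of_algebraMap_eq fun s => by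
    rw [RingHom.algebraMap_toAlgebra, RingHom.algebraMap_toAlgebra, Localization.localRingHom_to_map]
    rfl
  haveI : Module.Flat S Sq' := h2
  have h3 : (algebraMap Sq Sq').Flat :=
    RingHom.flat_algebraMap_iff.2 ((Module.flat_iff_of_isLocalization Sq q.primeCompl Sq').2 inferInstance)
  have h4 := RingHom.Flat.comp h1 h3
  convert! h4 using 1
  refine RingHom.ext fun r => ?_
  show algebraMap S' Sq' (χ (φ r)) = Localization.localRingHom q q' χ hq.symm (algebraMap S Sq (φ r))
  rw [Localization.localRingHom_to_map]

/-- Rig-flatness. -/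
abbrev RigFlat (A : Type u) [CommRing A] (I : Ideal A) (B : Type u) [CommRing B] [Algebra A B] : Prop :=
  ∀ (f : A) (ψ : CL I f →+* CL (I.map (algebraMap A B)) (algebraMap A B f)),
    ψ.comp (algebraMap (Localization.Away f) (CL I f)) =
      (algebraMap (Localization.Away (algebraMap A B f)) (CL (I.map (algebraMap A B)) (algebraMap A B f))).comp
        (Localization.awayMap (algebraMap A B) f) →
    ∀ q : PrimeSpectrum (CL (I.map (algebraMap A B)) (algebraMap A B f)),
      RC (((I.map (algebraMap A B)).map (algebraMap B (Localization.Away (algebraMap A B f)))).map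
        (algebraMap (Localization.Away (algebraMap A B f)) (CL (I.map (algebraMap A B)) (algebraMap A B f)))) q →
      ((algebraMap (CL (I.map (algebraMap A B)) (algebraMap A B f)) (Localization.AtPrime q.asIdeal)).comp ψ).Flat

end Groth.Agent.AdicRingLib
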