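import Mathlib
import Groth.Agent.AdicRingLib.RigLoc

/-!
# Permanence of rig-flatness
-/

set_option autoImplicit false
set_option linter.style.haveILetI false

universe u

namespace Groth.Agent.AdicRingLib

theorem isUnit_of_mul_left {A X : Type u} [CommRing A] [CommRing X] (φ : A →+* X) {a b : A}
    (h : IsUnit (φ (a * b))) : IsUnit (φ a) := by
  rw [map_mul] at h
  exact isUnit_of_mul_isUnit_left h

theorem finiteType_mk {A B : Type u} [CommRing A] [CommRing B] [Algebra A B] {K : Ideal B}
    (h : Algebra.FiniteType A (B ⧸ K)) : ((Ideal.Quotient.mk K).comp (algebraMap A B)).FiniteType :=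
  RingHom.finiteType_algebraMap.2 h

theorem finiteType_trans {A B D : Type u} [CommRing A] [CommRing B] [CommRing D] (I : Ideal A) (φ : A →+* B)
    (χ : B →+* D) {J : Ideal B} (hJ : I.map φ = J) {K : Ideal D} (hK : J.map χ = K)
    (h1 : ((Ideal.Quotient.mk J).comp φ).FiniteType) (h2 : ((Ideal.Quotient.mk K).comp χ).FiniteType) :
    ((Ideal.Quotient.mk K).comp (χ.comp φ)).FiniteType := by
  subst hJ hK
  let k : B ⧸ I.map φ →+* D ⧸ (I.map φ).map χ := Ideal.quotientMap _ χ Ideal.le_comap_map
  have hk : k.FiniteType := by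
    refine RingHom.FiniteType.of_comp_finiteType (f := Ideal.Quotient.mk (I.map φ)) ?_
    exact h2
  exact hk.comp h1

theorem rigFlat_comp {A : Type u} [CommRing A] [IsNoetherianRing A] (I : Ideal A) (B : Type u) [CommRing B]
    [Algebra A B] [IsNoetherianRing B] (hftB : Algebra.FiniteType A (B ⧸ (I.map (algebraMap A B)))) (C : Type u)
    [CommRing C] [Algebra A C] [Algebra B C] [IsScalarTower A B C] [IsNoetherianRing C]
    (hftC : Algebra.FiniteType B (C ⧸ (I.map (algebraMap A C)))) (hAB : RigFlat A I B)
    (hBC : RigFlat B (I.map (algebraMap A B)) C) : RigFlat A I C := by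
  classical
  intro e ψ hψ q hq
  let IB := I.map (algebraMap A B)
  let IC := I.map (algebraMap A C)
  have hIC : IB.map (algebraMap B C) = IC := by rw [Ideal.map_map, ← IsScalarTower.algebraMap_eq]
  let D := CL IC (algebraMap A C e)
  let φD : A →+* D := (algebraMap C D).comp (algebraMap A C)
  have hφD : I.map φD = IC.map (algebraMap C D) := (Ideal.map_map _ _).symm
  haveI : IsAdicComplete (I.map φD) D := hφD ▸ isAdicComplete_CL IC _
  have hftD : ((Ideal.Quotient.mk (I.map φD)).comp φD).FiniteType := by
    have h0 : ((Ideal.Quotient.mk IC).comp (algebraMap A C)).FiniteType := by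
      have hftC' : ((Ideal.Quotient.mk IC).comp (algebraMap B C)).FiniteType := finiteType_mk hftC
      rw [IsScalarTower.algebraMap_eq A B C]
      exact finiteType_trans I _ (algebraMap B C) rfl hIC (finiteType_mk hftB) hftC'
    exact finiteType_trans I _ (algebraMap C D) rfl hφD.symm h0
      (hφD ▸ finiteType_mk (finiteType_CL IC (algebraMap A C e)))
  have hq' : RC (I.map φD) q := by rw [hφD, mapI_eq]; exact hq
  obtain ⟨f, hf, hfin⟩ := exists_good I φD hftD hq'
  obtain ⟨hcT, hdT, hIT⟩ := rig_data hq'
  let π := Ideal.Quotient.mk q.asIdeal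
  let ef := e * f
  let b := algebraMap A B ef
  let J := IB.map (algebraMap B C)
  let c := algebraMap B C b
  have hc : c = algebraMap A C ef := (IsScalarTower.algebraMap_apply A B C ef).symm
  obtain ⟨g1, hg1⟩ := exists_awayHom I ef (algebraMap A B) (J := IB) rfl
  obtain ⟨g2, hg2⟩ := exists_awayHom IB b (algebraMap B C) (J := J) rfl
  have hg1A := comp_of_awayMap I ef hg1
  have hg2A := comp_of_awayMap IB b hg2
  haveI hTJ : IsAdicComplete (J.map (π.comp (algebraMap C D))) (D ⧸ q.asIdeal) := by
    have : J.map (π.comp (algebraMap C D)) = (I.map φD).map π := by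
      simp only [J, IB, φD, Ideal.map_map, RingHom.comp_assoc, ← IsScalarTower.algebraMap_eq]
      rw [← IsScalarTower.algebraMap_eq A C D]
    rw [this]
    exact hcT
  obtain ⟨χC, hχC⟩ := exists_hom J c (π.comp (algebraMap C D)) (by
    rw [hc, RingHom.comp_apply, map_mul (algebraMap A C), map_mul, map_mul]
    exact ((isUnit_CL IC (algebraMap A C e)).map π).mul hf)
  let χB := χC.comp g2
  let χA := χB.comp g1
  haveI := isAdicComplete_CL I ef
  haveI := isAdicComplete_CL IB b
  haveI := isAdicComplete_CL J c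
  have hcomp21 : (g2.comp g1).comp (algebraMap A (CL I ef)) = (algebraMap C (CL J c)).comp (algebraMap A C) := by
    rw [RingHom.comp_assoc, hg1A, ← RingHom.comp_assoc, hg2A, RingHom.comp_assoc, ← IsScalarTower.algebraMap_eq A B C]
  have hχA : χA.comp (algebraMap A (CL I ef)) = π.comp φD := by
    refine RingHom.ext fun a => ?_
    show χC ((g2.comp g1) (algebraMap A (CL I ef) a)) = π (algebraMap C D (algebraMap A C a))
    exact (congrArg χC (RingHom.congr_fun hcomp21 a)).trans (RingHom.congr_fun hχC (algebraMap A C a))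
  have hfinA : χA.Finite := hfin (CL I ef) _ χA hχA (isUnit_of_mul_left _ (b := e) (by
    rw [mul_comm]; exact isUnit_CL I ef))
  have hfinB : χB.Finite := RingHom.Finite.of_comp_finite hfinA
  have hfinC : χC.Finite := RingHom.Finite.of_comp_finite hfinB
  haveI : (RingHom.ker χC).IsPrime := RingHom.ker_isPrime _
  haveI : (RingHom.ker χB).IsPrime := RingHom.ker_isPrime _
  have hIDT : (I.map φD).map π ≠ ⊥ := hIT
  have hmapT : J.map (π.comp (algebraMap C D)) = (I.map φD).map π := by
    simp only [J, IB, φD, Ideal.map_map, RingHom.comp_assoc, ← IsScalarTower.algebraMap_eq]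
    rw [← IsScalarTower.algebraMap_eq A C D]
  have hRB : RC (IB.map (algebraMap B (CL IB b))) ⟨RingHom.ker χB, inferInstance⟩ := by
    refine rc_ker _ hdT χB hfinB ?_
    rw [Ideal.map_map (algebraMap B (CL IB b)) χB, show χB.comp (algebraMap B (CL IB b)) = (π.comp (algebraMap C D)).comp (algebraMap B C) by
      show (χC.comp g2).comp _ = _
      rw [RingHom.comp_assoc, hg2A, ← RingHom.comp_assoc, hχC], ← Ideal.map_map (algebraMap B C)]
    show J.map (π.comp (algebraMap C D)) ≠ ⊥
    rw [hmapT]
    exact hIDT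
  have hRC : RC (J.map (algebraMap C (CL J c))) ⟨RingHom.ker χC, inferInstance⟩ := by
    refine rc_ker _ hdT χC hfinC ?_
    rw [Ideal.map_map (algebraMap C (CL J c)) χC, hχC, hmapT]
    exact hIDT
  rw [mapI_eq] at hRB hRC
  have h1 := hAB ef g1 hg1 ⟨RingHom.ker χB, inferInstance⟩ hRB
  have h2 := hBC b g2 hg2 ⟨RingHom.ker χC, inferInstance⟩ hRC
  have h3 := flat_comp_at g1 g2 (RingHom.ker χB) (RingHom.ker χC) (RingHom.comap_ker χC g2) h1 h2
  -- the maps from the smaller localizations
  haveI : IsAdicComplete (I.map (algebraMap A (CL I ef))) (CL I ef) := isAdicComplete_CL I ef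
  obtain ⟨u, hu⟩ := exists_hom I e (algebraMap A (CL I ef)) (isUnit_of_mul_left _ (isUnit_CL I ef))
  have hu_flat : u.Flat := flat_hom I e (RingHom.Flat.id A) (Ideal.map_id I) ef (g := u) hu
    (isUnit_of_mul_left _ (isUnit_CL I ef)) (isUnit_of_mul_left _ (IsLocalization.Away.algebraMap_isUnit ef))
  haveI : IsAdicComplete (IC.map (algebraMap C (CL J c))) (CL J c) := by
    rw [← show J = IC from hIC]; exact isAdicComplete_CL J c
  have huc : IsUnit (algebraMap C (CL J c) (algebraMap A C e)) := by
    refine isUnit_of_mul_left _ (b := algebraMap A C f) ?_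
    rw [← map_mul, ← hc]; exact isUnit_CL J c
  obtain ⟨k, hk⟩ := exists_hom IC (algebraMap A C e) (algebraMap C (CL J c)) huc
  have hk_flat : k.Flat := flat_hom IC (algebraMap A C e) (RingHom.Flat.id C) (J := J)
    (by rw [Ideal.map_id]; exact hIC.symm) c (g := k) hk huc (by
      refine isUnit_of_mul_left _ (b := algebraMap A C f) ?_
      rw [RingHom.id_apply, ← map_mul, ← hc]
      exact IsLocalization.Away.algebraMap_isUnit c)
  haveI : IsAdicComplete (IC.map (π.comp (algebraMap C D))) (D ⧸ q.asIdeal) := by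
    have : IC.map (π.comp (algebraMap C D)) = J.map (π.comp (algebraMap C D)) := by
      rw [hmapT]; simp only [IC, φD, Ideal.map_map, RingHom.comp_assoc]
    rw [this]; exact hTJ
  have hker : (RingHom.ker χC).comap k = q.asIdeal := by
    have : χC.comp k = π := hom_ext IC (algebraMap A C e) (φ := π.comp (algebraMap C D))
      (by rw [RingHom.comp_assoc, hk, hχC]) rfl
    rw [RingHom.comap_ker, this, Ideal.mk_ker]
  refine flat_descent ψ k hk_flat q.asIdeal (RingHom.ker χC) hker ?_
  have heq : k.comp ψ = (g2.comp g1).comp u := by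
    haveI : IsAdicComplete (I.map ((algebraMap C (CL J c)).comp (algebraMap A C))) (CL J c) := by
      rw [← Ideal.map_map]; infer_instance
    refine hom_ext I e (φ := (algebraMap C (CL J c)).comp (algebraMap A C)) ?_ ?_
    · rw [RingHom.comp_assoc, comp_of_awayMap I e hψ, ← RingHom.comp_assoc, hk]
    · rw [RingHom.comp_assoc, hu, hcomp21]
  rw [heq, ← RingHom.comp_assoc]
  exact RingHom.Flat.comp hu_flat h3

end Groth.Agent.AdicRingLib
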