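import Mathlib
import Groth.Agent.AdicRingLib.RigPerm
import Groth.Agent.AdicRingLib.RigEtale

/-!
# Rig-flatness after an étale reduction
-/

set_option autoImplicit false
set_option linter.style.haveILetI false

universe u

namespace Groth.Agent.AdicRingLib

/-- Reductions of completed localizations of algebras unramified modulo `I` are unramified. -/
theorem formallyUnramified_CL {A A' : Type u} [CommRing A] [CommRing A'] [IsNoetherianRing A'] [Algebra A A']
    (I : Ideal A) [Algebra.FormallyUnramified (A ⧸ I) (A' ⧸ (I.map (algebraMap A A')))] (g : A')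
    {K : Ideal (CL (I.map (algebraMap A A')) g)}
    (hK : (I.map (algebraMap A A')).map (algebraMap A' (CL (I.map (algebraMap A A')) g)) = K) :
    Algebra.FormallyUnramified A (CL (I.map (algebraMap A A')) g ⧸ K) := by
  let IA := I.map (algebraMap A A')
  let L := Localization.Away g
  let KL := IA.map (algebraMap A' L)
  haveI : Algebra.FormallyUnramified A (A' ⧸ IA) := by
    haveI : Algebra.FormallyUnramified A (A ⧸ I) :=
      Algebra.FormallyUnramified.of_surjective (Algebra.ofId A (A ⧸ I)) Ideal.Quotient.mk_surjective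
    exact Algebra.FormallyUnramified.comp A (A ⧸ I) (A' ⧸ IA)
  haveI : Algebra.FormallyUnramified A' L := Algebra.FormallyUnramified.of_isLocalization (Submonoid.powers g)
  letI : Algebra (A' ⧸ IA) (L ⧸ KL) := (Ideal.quotientMap KL (algebraMap A' L) Ideal.le_comap_map).toAlgebra
  haveI : IsScalarTower A' (A' ⧸ IA) (L ⧸ KL) := IsScalarTower.of_algebraMap_eq fun _ => rfl
  haveI : IsScalarTower A (A' ⧸ IA) (L ⧸ KL) := IsScalarTower.of_algebraMap_eq fun a => by
    rw [IsScalarTower.algebraMap_apply A A' (A' ⧸ IA), ← IsScalarTower.algebraMap_apply A' (A' ⧸ IA) (L ⧸ KL),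
      ← IsScalarTower.algebraMap_apply A A' (L ⧸ KL)]
  haveI : Algebra.FormallyUnramified (A' ⧸ IA) (L ⧸ KL) := Algebra.FormallyUnramified.of_restrictScalars A' _ _
  haveI : Algebra.FormallyUnramified A (L ⧸ KL) := Algebra.FormallyUnramified.comp A (A' ⧸ IA) (L ⧸ KL)
  subst hK
  let C := CL IA g
  let f : (L ⧸ KL) →ₐ[A] C ⧸ IA.map (algebraMap A' C) := Ideal.quotientMapₐ _
    ((Algebra.ofId L C).restrictScalars A) (by
      rw [← Ideal.map_le_iff_le_comap]
      refine le_of_eq ?_
      show KL.map (algebraMap L C) = _
      exact (Ideal.map_map _ _).trans (by rw [← IsScalarTower.algebraMap_eq]))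
  refine Algebra.FormallyUnramified.of_surjective f fun y => ?_
  obtain ⟨y, rfl⟩ := Ideal.Quotient.mk_surjective y
  obtain ⟨c, hc⟩ := Submodule.Quotient.mk_surjective _ (AdicCompletion.eval KL L 1 y)
  refine ⟨Ideal.Quotient.mk KL c, ?_⟩
  show Ideal.Quotient.mk _ (algebraMap L C c) = _
  rw [eq_comm, Ideal.Quotient.eq, mapI_eq]
  have hmem : y - algebraMap L C c ∈ KL ^ 1 • (⊤ : Submodule L C) := by
    rw [AdicCompletion.pow_smul_top_eq_ker_eval (Ideal.FG.map (IsNoetherian.noetherian IA) _), LinearMap.mem_ker,
      map_sub, sub_eq_zero]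
    exact hc.symm
  rwa [pow_one, Ideal.smul_top_eq_map, Submodule.restrictScalars_mem] at hmem

/-- Flatness at a point where the base point generates the maximal ideal. -/
theorem flat_of_unramified_point {X X' Y : Type u} [CommRing X] [CommRing X'] [CommRing Y] [IsNoetherianRing X']
    [IsNoetherianRing Y] (u : X →+* X') (g : X' →+* Y) (p : Ideal X) [p.IsPrime] (p' : Ideal X') [p'.IsPrime]
    (q : Ideal Y) [q.IsPrime] (hp' : q.comap g = p')
    (hmax : (p.map u).map (algebraMap X' (Localization.AtPrime p')) = IsLocalRing.maximalIdeal (Localization.AtPrime p'))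
    (h : ((algebraMap Y (Localization.AtPrime q)).comp (g.comp u)).Flat) :
    ((algebraMap Y (Localization.AtPrime q)).comp g).Flat := by
  let R := Localization.AtPrime p'
  let M := Localization.AtPrime q
  letI : Algebra R M := (Localization.localRingHom p' q g hp'.symm).toAlgebra
  letI : Algebra X R := ((algebraMap X' R).comp u).toAlgebra
  letI : Algebra X M := ((algebraMap Y M).comp (g.comp u)).toAlgebra
  haveI : IsScalarTower X R M := IsScalarTower.of_algebraMap_eq fun x => by
    show algebraMap Y M (g (u x)) = Localization.localRingHom p' q g hp'.symm (algebraMap X' R (u x))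
    rw [Localization.localRingHom_to_map]
  haveI : Module.Flat X M := h
  haveI : IsNoetherianRing R := IsLocalization.isNoetherianRing p'.primeCompl R inferInstance
  haveI : IsNoetherianRing M := IsLocalization.isNoetherianRing q.primeCompl M inferInstance
  haveI : IsLocalHom (algebraMap R M) := by rw [RingHom.algebraMap_toAlgebra]; infer_instance
  have hm : p.map (algebraMap X R) = IsLocalRing.maximalIdeal R := by
    rw [← hmax, Ideal.map_map]; rfl
  have hflat : Module.Flat R M := by
    refine LocFlat.flat_of_maximalIdeal (S := M) ?_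
    refine FlatLocus.lTensor_injective_of_fibre p _ hm.le ?_
    have hbot : (IsLocalRing.maximalIdeal R).map (Ideal.Quotient.mk (p.map (algebraMap X R))) = ⊥ := by
      rw [Ideal.map_eq_bot_iff_le_ker, Ideal.mk_ker]; exact hm.ge
    haveI : Subsingleton ((IsLocalRing.maximalIdeal R).map (Ideal.Quotient.mk (p.map (algebraMap X R)))) := by
      rw [hbot]; infer_instance
    exact Function.injective_of_subsingleton _
  haveI : Module.Flat X' R := IsLocalization.flat R p'.primeCompl
  have h1 : (algebraMap X' R).Flat := RingHom.flat_algebraMap_iff.2 inferInstance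
  have h2 := RingHom.Flat.comp h1 (RingHom.flat_algebraMap_iff.2 hflat)
  convert! h2 using 1
  refine RingHom.ext fun x => ?_
  show algebraMap Y M (g x) = Localization.localRingHom p' q g hp'.symm (algebraMap X' R x)
  rw [Localization.localRingHom_to_map]

theorem rigFlat_etale_reduction {A : Type u} [CommRing A] [IsNoetherianRing A] (I : Ideal A) (B : Type u) [CommRing B]
    [Algebra A B] [IsNoetherianRing B] (A' : Type u) [CommRing A'] [Algebra A A'] [IsNoetherianRing A']
    (hftA' : Algebra.FiniteType A (A' ⧸ (I.map (algebraMap A A')))) (B' : Type u)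
    [CommRing B'] [Algebra A B'] [Algebra B B'] [Algebra A' B'] [IsScalarTower A B B'] [IsScalarTower A A' B']
    [IsNoetherianRing B'] (hftB'A' : Algebra.FiniteType A' (B' ⧸ (I.map (algebraMap A B'))))
    [Module.Flat B B'] [Algebra.FormallyUnramified (A ⧸ I) (A' ⧸ (I.map (algebraMap A A')))]
    (h : RigFlat A I B) : RigFlat A' (I.map (algebraMap A A')) B' := by
  classical
  intro f' ψ hψ q hq
  let IB := I.map (algebraMap A B)
  let IA := I.map (algebraMap A A')
  let J := IA.map (algebraMap A' B')
  let b := algebraMap A' B' f'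
  let D' := CL J b
  let φD : A →+* D' := (algebraMap B' D').comp (algebraMap A B')
  have hJA : I.map (algebraMap A B') = J := by
    show _ = (I.map (algebraMap A A')).map (algebraMap A' B')
    rw [Ideal.map_map, ← IsScalarTower.algebraMap_eq]
  have hJB : IB.map (algebraMap B B') = J := by
    show (I.map (algebraMap A B)).map (algebraMap B B') = _
    rw [Ideal.map_map, ← IsScalarTower.algebraMap_eq]; exact hJA
  have hφD : I.map φD = J.map (algebraMap B' D') :=
    (Ideal.map_map _ _).symm.trans (congrArg (Ideal.map (algebraMap B' D')) hJA)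
  haveI : IsAdicComplete (I.map φD) D' := hφD ▸ isAdicComplete_CL J b
  have hftD : ((Ideal.Quotient.mk (I.map φD)).comp φD).FiniteType := by
    have h0 : ((Ideal.Quotient.mk J).comp (algebraMap A B')).FiniteType := by
      rw [IsScalarTower.algebraMap_eq A A' B']
      refine finiteType_trans I _ (algebraMap A' B') rfl rfl (finiteType_mk hftA') ?_
      have := finiteType_mk hftB'A'
      convert! this
      all_goals exact hJA.symm
    exact finiteType_trans I _ (algebraMap B' D') hJA hφD.symm h0 (hφD ▸ finiteType_mk (finiteType_CL J b))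
  have hq' : RC (I.map φD) q := by rw [hφD, mapI_eq]; exact hq
  obtain ⟨e, he, hfin⟩ := exists_good I φD hftD hq'
  obtain ⟨hcT, hdT, hIT⟩ := rig_data hq'
  let π := Ideal.Quotient.mk q.asIdeal
  let e' := algebraMap A A' e
  let g := f' * e'
  let c := algebraMap A' B' g
  obtain ⟨g1, hg1⟩ := exists_awayHom I e (algebraMap A B) (J := IB) rfl
  obtain ⟨g', hg'⟩ := exists_awayHom IA g (algebraMap A' B') (J := J) rfl
  have hg1A := comp_of_awayMap I e hg1
  have hg'A := comp_of_awayMap IA g hg'
  haveI := isAdicComplete_CL I e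
  haveI := isAdicComplete_CL IB (algebraMap A B e)
  haveI := isAdicComplete_CL IA g
  haveI := isAdicComplete_CL J c
  haveI hXA : IsAdicComplete (I.map ((algebraMap A' (CL IA g)).comp (algebraMap A A'))) (CL IA g) := by
    rw [← Ideal.map_map]; infer_instance
  have hge : IsUnit (algebraMap A' (CL IA g) e') := isUnit_of_mul_left _ (b := f') (by
    rw [mul_comm]; exact isUnit_CL IA g)
  obtain ⟨uu, huu⟩ := exists_hom I e ((algebraMap A' (CL IA g)).comp (algebraMap A A')) hge
  haveI hYB : IsAdicComplete (IB.map ((algebraMap B' (CL J c)).comp (algebraMap B B'))) (CL J c) := by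
    rw [← Ideal.map_map, hJB]; infer_instance
  have hee : algebraMap B B' (algebraMap A B e) = algebraMap A' B' e' := by
    show _ = algebraMap A' B' (algebraMap A A' e)
    rw [← IsScalarTower.algebraMap_apply, ← IsScalarTower.algebraMap_apply]
  have hce : IsUnit (algebraMap B' (CL J c) (algebraMap B B' (algebraMap A B e))) := by
    rw [hee]
    refine isUnit_of_mul_left _ (b := algebraMap A' B' f') ?_
    rw [← map_mul (algebraMap A' B'), mul_comm]; exact isUnit_CL J c
  obtain ⟨v, hv⟩ := exists_hom IB (algebraMap A B e) ((algebraMap B' (CL J c)).comp (algebraMap B B')) hce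
  have hv_flat : v.Flat := flat_hom IB (algebraMap A B e) (RingHom.flat_algebraMap_iff.2 ‹Module.Flat B B'›) hJB c
    (g := v) hv hce (by
      rw [hee]
      refine isUnit_of_mul_left _ (b := algebraMap A' B' f') ?_
      rw [← map_mul (algebraMap A' B'), mul_comm]; exact IsLocalization.Away.algebraMap_isUnit c)
  let φY : A →+* CL J c := (algebraMap B' (CL J c)).comp (algebraMap A B')
  haveI hYA : IsAdicComplete (I.map φY) (CL J c) := by
    show IsAdicComplete (I.map ((algebraMap B' (CL J c)).comp (algebraMap A B'))) _
    rw [← Ideal.map_map, hJA]; infer_instance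
  have hsq : v.comp g1 = g'.comp uu := by
    refine hom_ext I e (φ := φY) (RingHom.ext fun a => ?_) (RingHom.ext fun a => ?_)
    · show v (g1 (algebraMap A (CL I e) a)) = algebraMap B' (CL J c) (algebraMap A B' a)
      refine (congrArg v (RingHom.congr_fun hg1A a)).trans ?_
      rw [IsScalarTower.algebraMap_apply A B B']
      exact RingHom.congr_fun hv _
    · show g' (uu (algebraMap A (CL I e) a)) = algebraMap B' (CL J c) (algebraMap A B' a)
      refine (congrArg g' (RingHom.congr_fun huu a)).trans ?_
      rw [IsScalarTower.algebraMap_apply A A' B']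
      exact RingHom.congr_fun hg'A _
  have hmapT : J.map (π.comp (algebraMap B' D')) = (I.map φD).map π := by
    rw [hφD]; exact (Ideal.map_map _ _).symm
  haveI hTJ : IsAdicComplete (J.map (π.comp (algebraMap B' D'))) (D' ⧸ q.asIdeal) := by
    rw [hmapT]; exact hcT
  obtain ⟨χC, hχC⟩ := exists_hom J c (π.comp (algebraMap B' D')) (by
    show IsUnit (π (algebraMap B' D' (algebraMap A' B' (f' * algebraMap A A' e))))
    rw [map_mul, map_mul, map_mul, ← IsScalarTower.algebraMap_apply A A' B']
    exact ((isUnit_CL J b).map π).mul he)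
  let χ' := χC.comp g'
  let χB := χC.comp v
  let χA := χ'.comp uu
  have hAfac : χA = χB.comp g1 := by
    show (χC.comp g').comp uu = (χC.comp v).comp g1
    rw [RingHom.comp_assoc, RingHom.comp_assoc, hsq]
  have hχA : χA.comp (algebraMap A (CL I e)) = π.comp φD := by
    refine RingHom.ext fun a => ?_
    show χC (g' (uu (algebraMap A (CL I e) a))) = π (algebraMap B' D' (algebraMap A B' a))
    rw [show uu (algebraMap A (CL I e) a) = _ from RingHom.congr_fun huu a]
    rw [IsScalarTower.algebraMap_apply A A' B']
    exact (congrArg χC (RingHom.congr_fun hg'A (algebraMap A A' a))).trans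
      (RingHom.congr_fun hχC (algebraMap A' B' (algebraMap A A' a)))
  have hfinA : χA.Finite := hfin (CL I e) _ χA hχA (isUnit_CL I e)
  have hfin' : χ'.Finite := RingHom.Finite.of_comp_finite hfinA
  have hfinB : χB.Finite := RingHom.Finite.of_comp_finite (hAfac ▸ hfinA)
  haveI : (RingHom.ker χC).IsPrime := RingHom.ker_isPrime _
  haveI : (RingHom.ker χB).IsPrime := RingHom.ker_isPrime _
  haveI : (RingHom.ker χ').IsPrime := RingHom.ker_isPrime _
  haveI : (RingHom.ker χA).IsPrime := RingHom.ker_isPrime _
  have hRA : RC (I.map (algebraMap A (CL I e))) ⟨RingHom.ker χA, inferInstance⟩ := by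
    refine rc_ker _ hdT χA hfinA ?_
    rw [Ideal.map_map (algebraMap A (CL I e)) χA, hχA, ← Ideal.map_map φD π]
    exact hIT
  have hRB : RC (IB.map (algebraMap B (CL IB (algebraMap A B e)))) ⟨RingHom.ker χB, inferInstance⟩ := by
    refine rc_ker _ hdT χB hfinB ?_
    rw [Ideal.map_map (algebraMap B _) χB, show χB.comp (algebraMap B (CL IB (algebraMap A B e))) =
      (π.comp (algebraMap B' D')).comp (algebraMap B B') by
      show (χC.comp v).comp _ = _
      rw [RingHom.comp_assoc, hv, ← RingHom.comp_assoc, hχC], ← Ideal.map_map (algebraMap B B'), hJB, hmapT]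
    exact hIT
  rw [mapI_eq] at hRB
  have h1 := h e g1 hg1 ⟨RingHom.ker χB, inferInstance⟩ hRB
  have hv2 : ((algebraMap (CL J c) (Localization.AtPrime (RingHom.ker χC))).comp v).Flat :=
    RingHom.Flat.comp hv_flat (RingHom.flat_algebraMap_iff.2
      (IsLocalization.flat (Localization.AtPrime (RingHom.ker χC)) (RingHom.ker χC).primeCompl))
  have h2 := flat_comp_at g1 v (RingHom.ker χB) (RingHom.ker χC) (RingHom.comap_ker χC v) h1 hv2
  rw [hsq] at h2
  -- unramifiedness at the point
  have hmax : ((RingHom.ker χA).map uu).map (algebraMap (CL IA g) (Localization.AtPrime (RingHom.ker χ'))) =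
      IsLocalRing.maximalIdeal (Localization.AtPrime (RingHom.ker χ')) := by
    letI : Algebra (CL I e) (CL IA g) := uu.toAlgebra
    haveI : IsScalarTower A (CL I e) (CL IA g) := IsScalarTower.of_algebraMap_eq fun a => by
      rw [IsScalarTower.algebraMap_apply A A' (CL IA g)]
      exact (RingHom.congr_fun huu a).symm
    have hK : IA.map (algebraMap A' (CL IA g)) = (I.map (algebraMap A (CL I e))).map (algebraMap (CL I e) (CL IA g)) := by
      refine (Ideal.map_map _ _).trans (Eq.trans ?_ (Ideal.map_map _ _).symm)
      exact congrArg (fun r => I.map r) huu.symm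
    haveI : IsAdicComplete ((I.map (algebraMap A (CL I e))).map (algebraMap (CL I e) (CL IA g))) (CL IA g) := by
      rw [← hK]; infer_instance
    haveI hA : Algebra.FormallyUnramified A (CL IA g ⧸ (I.map (algebraMap A (CL I e))).map (algebraMap (CL I e) (CL IA g))) :=
      formallyUnramified_CL I g hK
    haveI : Algebra.FormallyUnramified (CL I e ⧸ I.map (algebraMap A (CL I e)))
        (CL IA g ⧸ (I.map (algebraMap A (CL I e))).map (algebraMap (CL I e) (CL IA g))) := by
      haveI : Algebra.FormallyUnramified (CL I e)
          (CL IA g ⧸ (I.map (algebraMap A (CL I e))).map (algebraMap (CL I e) (CL IA g))) :=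
        Algebra.FormallyUnramified.of_restrictScalars A _ _
      exact Algebra.FormallyUnramified.of_restrictScalars (CL I e) _ _
    have hft1 : Algebra.FiniteType (CL I e)
        (CL IA g ⧸ (I.map (algebraMap A (CL I e))).map (algebraMap (CL I e) (CL IA g))) := by
      have h3 : Algebra.FiniteType A (CL IA g ⧸ (I.map (algebraMap A (CL I e))).map (algebraMap (CL I e) (CL IA g))) := by
        refine RingHom.finiteType_algebraMap.1 ?_
        have h4 : algebraMap A (CL IA g ⧸ (I.map (algebraMap A (CL I e))).map (algebraMap (CL I e) (CL IA g))) =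
            (Ideal.Quotient.mk _).comp ((algebraMap A' (CL IA g)).comp (algebraMap A A')) := RingHom.ext fun a => by
          show Ideal.Quotient.mk _ (algebraMap A (CL IA g) a) = _
          rw [IsScalarTower.algebraMap_apply A A' (CL IA g)]
          rfl
        rw [h4]
        exact finiteType_trans I _ (algebraMap A' (CL IA g)) rfl hK (finiteType_mk hftA')
          (hK ▸ finiteType_mk (finiteType_CL IA g))
      exact Algebra.FiniteType.of_restrictScalars_finiteType A _ _
    exact map_comap_eq_maximalIdeal (CL I e) (I.map (algebraMap A (CL I e))) (CL IA g) hft1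
      ⟨RingHom.ker χ', inferInstance⟩ hRA
  have h3 := flat_of_unramified_point uu g' (RingHom.ker χA) (RingHom.ker χ') (RingHom.ker χC)
    (RingHom.comap_ker χC g') hmax h2
  -- descent to the given point
  obtain ⟨w, hw⟩ := exists_hom IA f' (algebraMap A' (CL IA g)) (isUnit_of_mul_left _ (isUnit_CL IA g))
  have hw_flat : w.Flat := flat_hom IA f' (RingHom.Flat.id A') (Ideal.map_id IA) g (g := w) hw
    (isUnit_of_mul_left _ (isUnit_CL IA g)) (isUnit_of_mul_left _ (IsLocalization.Away.algebraMap_isUnit g))
  have hbc : IsUnit (algebraMap B' (CL J c) b) := by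
    refine isUnit_of_mul_left _ (b := algebraMap A' B' e') ?_
    rw [← map_mul (algebraMap A' B')]; exact isUnit_CL J c
  obtain ⟨k, hk⟩ := exists_hom J b (algebraMap B' (CL J c)) hbc
  have hk_flat : k.Flat := flat_hom J b (RingHom.Flat.id B') (Ideal.map_id J) c (g := k) hk hbc (by
    refine isUnit_of_mul_left _ (b := algebraMap A' B' e') ?_
    rw [RingHom.id_apply, ← map_mul (algebraMap A' B')]; exact IsLocalization.Away.algebraMap_isUnit c)
  have hker : (RingHom.ker χC).comap k = q.asIdeal := by
    have : χC.comp k = π := hom_ext J b (φ := π.comp (algebraMap B' D'))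
      (by rw [RingHom.comp_assoc, hk, hχC]) rfl
    rw [RingHom.comap_ker, this, Ideal.mk_ker]
  refine flat_descent ψ k hk_flat q.asIdeal (RingHom.ker χC) hker ?_
  have heq : k.comp ψ = g'.comp w := by
    haveI : IsAdicComplete (IA.map ((algebraMap B' (CL J c)).comp (algebraMap A' B'))) (CL J c) := by
      rw [← Ideal.map_map]; infer_instance
    refine hom_ext IA f' (φ := (algebraMap B' (CL J c)).comp (algebraMap A' B')) ?_ ?_
    · rw [RingHom.comp_assoc, comp_of_awayMap IA f' hψ, ← RingHom.comp_assoc, hk]
    · rw [RingHom.comp_assoc, hw, hg'A]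
  rw [heq, ← RingHom.comp_assoc]
  exact RingHom.Flat.comp hw_flat h3

end Groth.Agent.AdicRingLib
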