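import Mathlib
import Groth.Agent.AdicRingLib.ComplPoint
import Groth.Agent.AdicRingLib.RigEtaleBC

/-!
# Base change of flatness at rig-closed points

A completed base change of an algebra which is flat at a point finite over the base stays flat at
the points above it: after presenting the new base as a quotient of restricted power series, the
point comes from a point of a polynomial ring.
-/

set_option autoImplicit false
set_option linter.style.haveILetI false

universe u

namespace Groth.Agent.AdicRingLib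

/-- Flatness passes to quotients by an ideal of the base. -/
theorem flat_quot_point {P C F D : Type u} [CommRing P] [CommRing C] [CommRing F] [CommRing D] {G : P →+* C}
    (hG : Function.Surjective G) {ρ : P →+* F} {γ : C →+* D} {Θ : F →+* D} (hΘ : Function.Surjective Θ)
    (hcomp : γ.comp G = Θ.comp ρ) (hker : RingHom.ker Θ ≤ (RingHom.ker G).map ρ) (q : Ideal D) [q.IsPrime]
    (h : ((algebraMap F (Localization.AtPrime (q.comap Θ))).comp ρ).Flat) :
    ((algebraMap D (Localization.AtPrime q)).comp γ).Flat := by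
  let qF := q.comap Θ
  let L := Localization.AtPrime qF
  let M := Localization.AtPrime q
  let Kr := RingHom.ker G
  letI : Algebra P L := ((algebraMap F L).comp ρ).toAlgebra
  haveI : Module.Flat P L := h
  let Kl := Kr.map (algebraMap P L)
  haveI hflat : Module.Flat (P ⧸ Kr) (L ⧸ Kl) := by
    let e : TensorProduct P (P ⧸ Kr) L ≃ₐ[P] L ⧸ Kl :=
      (Algebra.TensorProduct.comm P (P ⧸ Kr) L).trans
        ((Algebra.TensorProduct.quotIdealMapEquivTensorQuot L Kr).restrictScalars P).symm
    exact Module.Flat.of_linearEquiv (e.toLinearEquiv.extendScalarsOfSurjective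
      (show Function.Surjective (algebraMap P (P ⧸ Kr)) from Ideal.Quotient.mk_surjective)).symm
  let k : P ⧸ Kr →+* L ⧸ Kl := algebraMap (P ⧸ Kr) (L ⧸ Kl)
  have hk : k.Flat := RingHom.flat_algebraMap_iff.2 hflat
  let ψ : L →+* M := Localization.localRingHom qF q Θ rfl
  have hψs : Function.Surjective ψ := by
    intro y
    obtain ⟨d, s, rfl⟩ := IsLocalization.exists_mk'_eq q.primeCompl y
    obtain ⟨r, rfl⟩ := hΘ d
    obtain ⟨t, ht⟩ := hΘ (s : D)
    have htq : t ∈ qF.primeCompl := fun hm => s.2 (ht ▸ hm)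
    refine ⟨IsLocalization.mk' L r (⟨t, htq⟩ : qF.primeCompl), ?_⟩
    rw [Localization.localRingHom_mk']
    exact congrArg _ (Subtype.ext ht)
  have hKle : Kl ≤ RingHom.ker ψ := by
    refine Ideal.map_le_iff_le_comap.2 fun x hx => ?_
    show ψ (algebraMap F L (ρ x)) = 0
    rw [Localization.localRingHom_to_map, ← RingHom.comp_apply Θ ρ, ← hcomp, RingHom.comp_apply,
      RingHom.mem_ker.1 hx, map_zero, map_zero]
  have hψk : RingHom.ker ψ ≤ Kl := by
    intro y hy
    obtain ⟨r, s, rfl⟩ := IsLocalization.exists_mk'_eq qF.primeCompl y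
    rw [RingHom.mem_ker, Localization.localRingHom_mk', IsLocalization.mk'_eq_zero_iff] at hy
    obtain ⟨v, hv⟩ := hy
    obtain ⟨t, ht⟩ := hΘ (v : D)
    have htq : t ∈ qF.primeCompl := fun hm => v.2 (ht ▸ hm)
    have h1 : t * r ∈ Kr.map ρ := hker (by rw [RingHom.mem_ker, map_mul, ht, hv])
    have h2 : algebraMap F L (t * r) ∈ Kl := by
      have h3 := Ideal.mem_map_of_mem (algebraMap F L) h1
      rwa [Ideal.map_map] at h3
    rw [map_mul] at h2
    have h4 : algebraMap F L r ∈ Kl :=
      (Ideal.unit_mul_mem_iff_mem _ (IsLocalization.map_units L (⟨t, htq⟩ : qF.primeCompl))).1 h2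
    rw [← IsLocalization.mk'_spec L r s] at h4
    exact (Ideal.mul_unit_mem_iff_mem _ (IsLocalization.map_units L s)).1 h4
  let ψ' : L ⧸ Kl →+* M := Ideal.Quotient.lift Kl ψ fun x hx => hKle hx
  have hψ' : Function.Bijective ψ' := by
    refine ⟨RingHom.lift_injective_of_ker_le_ideal Kl (fun x hx => hKle hx) hψk, fun y => ?_⟩
    obtain ⟨x, rfl⟩ := hψs y
    exact ⟨Ideal.Quotient.mk Kl x, rfl⟩
  let e := RingHom.quotientKerEquivOfSurjective hG
  have hfinal := ((RingHom.Flat.of_bijective (f := e.symm.toRingHom) e.symm.bijective).comp hk).comp (RingHom.Flat.of_bijective hψ')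
  convert! hfinal using 1
  refine RingHom.ext fun c => ?_
  obtain ⟨p, rfl⟩ := hG c
  show algebraMap D M (γ (G p)) = ψ' (k (e.symm (G p)))
  have he : e.symm (G p) = Ideal.Quotient.mk Kr p := e.symm_apply_eq.2 rfl
  rw [he]
  show _ = ψ (algebraMap F L (ρ p))
  rw [Localization.localRingHom_to_map, ← RingHom.comp_apply Θ ρ, ← hcomp]
  rfl

theorem flat_map_poly (X Z : Type u) [CommRing X] [CommRing Z] [Algebra X Z] [Module.Flat X Z] (n : ℕ) :
    (MvPolynomial.map (σ := Fin n) (algebraMap X Z)).Flat := by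
  let P := MvPolynomial (Fin n) X
  let Q' := MvPolynomial (Fin n) Z
  letI : Algebra P Q' := MvPolynomial.algebraMvPolynomial
  have h1 : Module.Flat P Q' := Module.Flat.of_linearEquiv
    (Algebra.IsPushout.equiv X P Z Q').toLinearEquiv.symm
  exact RingHom.flat_algebraMap_iff.2 h1

/-- Base change of flatness at a point to polynomial rings. -/
theorem flat_poly_point {X Y : Type u} [CommRing X] [CommRing Y] [Algebra X Y] (n : ℕ) (qQ : Ideal (MvPolynomial (Fin n) Y))
    [qQ.IsPrime] (qY : Ideal Y) [qY.IsPrime] (hq : qQ.comap MvPolynomial.C = qY)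
    (h : ((algebraMap Y (Localization.AtPrime qY)).comp (algebraMap X Y)).Flat) :
    ((algebraMap (MvPolynomial (Fin n) Y) (Localization.AtPrime qQ)).comp (MvPolynomial.map (algebraMap X Y))).Flat := by
  let P := MvPolynomial (Fin n) X
  let Q := MvPolynomial (Fin n) Y
  let Z := Localization.AtPrime qY
  let Q' := MvPolynomial (Fin n) Z
  let L := Localization.AtPrime qQ
  haveI : Module.Flat X Z := by
    have h' : ((algebraMap Y Z).comp (algebraMap X Y)).Flat := h
    rwa [← IsScalarTower.algebraMap_eq, RingHom.flat_algebraMap_iff] at h'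
  have hPQ' : (MvPolynomial.map (σ := Fin n) (algebraMap X Z)).Flat := flat_map_poly X Z n
  letI : Algebra Q Q' := MvPolynomial.algebraMvPolynomial
  haveI : IsLocalization (qY.primeCompl.map MvPolynomial.C) Q' := MvPolynomial.isLocalization qY.primeCompl Z
  have hu : ∀ y : qY.primeCompl.map (MvPolynomial.C (σ := Fin n)), IsUnit (algebraMap Q L y) := by
    rintro ⟨_, y, hy, rfl⟩
    exact IsLocalization.map_units L (⟨MvPolynomial.C y, fun hm => hy (hq ▸ hm)⟩ : qQ.primeCompl)
  letI : Algebra Q' L := (IsLocalization.lift (M := qY.primeCompl.map MvPolynomial.C) hu).toAlgebra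
  haveI : IsScalarTower Q Q' L := IsScalarTower.of_algebraMap_eq fun x => (IsLocalization.lift_eq hu x).symm
  haveI : Module.Flat Q L := IsLocalization.flat L qQ.primeCompl
  have hQ'L : Module.Flat Q' L :=
    (Module.flat_iff_of_isLocalization Q' (qY.primeCompl.map (MvPolynomial.C (σ := Fin n))) L).2 ‹Module.Flat Q L›
  have hfinal := hPQ'.comp (RingHom.flat_algebraMap_iff.2 hQ'L)
  convert! hfinal using 1
  have h2 : MvPolynomial.map (σ := Fin n) (algebraMap X Z) =
      (algebraMap Q Q').comp (MvPolynomial.map (algebraMap X Y)) := by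
    rw [MvPolynomial.algebraMap_def]
    exact RingHom.ext fun p => by
      rw [RingHom.comp_apply, MvPolynomial.map_map, ← IsScalarTower.algebraMap_eq]
  rw [h2, ← RingHom.comp_assoc, ← IsScalarTower.algebraMap_eq]

/-- Flatness at a point finite over the base is stable under completed base change. -/
theorem flat_baseChange_point {X : Type u} [CommRing X] [IsNoetherianRing X] (J : Ideal X) [IsAdicComplete J X]
    {Y : Type u} [CommRing Y] [IsNoetherianRing Y] [Algebra X Y] {C : Type u} [CommRing C] [IsNoetherianRing C]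
    [Algebra X C] [hC : IsAdicComplete (J.map (algebraMap X C)) C]
    (hftC : Algebra.FiniteType X (C ⧸ J.map (algebraMap X C))) {D : Type u} [CommRing D] (γ : C →+* D) (β : Y →+* D)
    (hγβ : γ.comp (algebraMap X C) = β.comp (algebraMap X Y))
    (hD : IsAdicComplete (J.map (γ.comp (algebraMap X C))) D)
    (hlift : ∀ (T : Type u) [CommRing T] (α : C →+* T) (b : Y →+* T),
      α.comp (algebraMap X C) = b.comp (algebraMap X Y) → IsAdicComplete (J.map (α.comp (algebraMap X C))) T →
        ∃ g : D →+* T, g.comp γ = α ∧ g.comp β = b)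
    (hext : ∀ g : D →+* D, g.comp γ = γ → g.comp β = β → g = RingHom.id D)
    (q : Ideal D) [q.IsPrime] (hfin : ((Ideal.Quotient.mk q).comp (γ.comp (algebraMap X C))).Finite)
    (hflat : ((algebraMap Y (Localization.AtPrime (q.comap β))).comp (algebraMap X Y)).Flat) :
    ((algebraMap D (Localization.AtPrime q)).comp γ).Flat := by
  classical
  obtain ⟨n, π, hπ⟩ := Algebra.FiniteType.iff_quotient_mvPolynomial''.1 hftC
  choose c hc using fun i => Ideal.Quotient.mk_surjective (π (MvPolynomial.X i))
  let P := MvPolynomial (Fin n) X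
  let Q := MvPolynomial (Fin n) Y
  let JP := J.map (algebraMap X P)
  let JQ := J.map (algebraMap X Q)
  let Ph := AdicCompletion JP P
  let F := AdicCompletion JQ Q
  have hJP : JP.FG := IsNoetherian.noetherian JP
  have hJQ : JQ.FG := IsNoetherian.noetherian JQ
  haveI : IsNoetherianRing Ph := RegLocal.isNoetherianRing_adicCompletion JP hJP
  haveI : IsNoetherianRing F := RegLocal.isNoetherianRing_adicCompletion JQ hJQ
  haveI hPh : IsAdicComplete (JP.map (algebraMap P Ph)) Ph := AdicCompletion.isAdicComplete_self JP hJP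
  haveI hF : IsAdicComplete (J.map (algebraMap X F)) F := by
    have h1 : J.map (algebraMap X F) = JQ.map (algebraMap Q F) :=
      ((Ideal.map_map _ _).trans (congrArg (fun r => J.map r) (IsScalarTower.algebraMap_eq X Q F).symm)).symm
    rw [h1]
    exact AdicCompletion.isAdicComplete_self JQ hJQ
  -- the presentation of the new base
  obtain ⟨G, hG⟩ := exists_algHom_completion JP (J.map (algebraMap X C)) (MvPolynomial.aeval c) (by
    rw [Ideal.map_le_iff_le_comap, Ideal.map_le_iff_le_comap]
    intro a ha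
    rw [Ideal.mem_comap, Ideal.mem_comap, AlgHom.commutes]
    exact Ideal.mem_map_of_mem _ ha)
  have hJG : (JP.map (algebraMap P Ph)).map G.toRingHom = J.map (algebraMap X C) := by
    rw [Ideal.map_map, Ideal.map_map]
    exact congrArg (fun r => J.map r) (RingHom.ext fun a => by
      show G (algebraMap P Ph (algebraMap X P a)) = _
      rw [hG, AlgHom.commutes])
  have hGs : Function.Surjective G.toRingHom := by
    haveI : IsHausdorff ((JP.map (algebraMap P Ph)).map G.toRingHom) C := hJG.symm ▸ hC.toIsHausdorff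
    refine surjective_of_mk_map_comp_surjective G.toRingHom (I := JP.map (algebraMap P Ph)) fun y => ?_
    obtain ⟨z, rfl⟩ := Ideal.Quotient.mk_surjective y
    obtain ⟨p, hp⟩ := hπ (Ideal.Quotient.mk _ z)
    refine ⟨algebraMap P Ph p, Ideal.Quotient.eq.2 ?_⟩
    rw [hJG]
    show G (algebraMap P Ph p) - z ∈ _
    rw [hG, ← Ideal.Quotient.eq]
    refine Eq.trans ?_ hp
    rw [← Ideal.Quotient.mkₐ_eq_mk X, ← AlgHom.comp_apply]
    exact AlgHom.congr_fun (MvPolynomial.algHom_ext fun i => by
      rw [AlgHom.comp_apply, MvPolynomial.aeval_X]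
      exact hc i) p
  -- the comparison with the power series over `Y`
  let ρ₀ : P →ₐ[X] Q := MvPolynomial.mapAlgHom (Algebra.ofId X Y)
  obtain ⟨ρ, hρ⟩ := exists_algHom_completion JP (J.map (algebraMap X F))
    (((Algebra.ofId Q F).restrictScalars X).comp ρ₀) (by
      rw [Ideal.map_le_iff_le_comap, Ideal.map_le_iff_le_comap]
      intro a ha
      rw [Ideal.mem_comap, Ideal.mem_comap, AlgHom.commutes]
      exact Ideal.mem_map_of_mem _ ha)
  letI : Algebra X D := (γ.comp (algebraMap X C)).toAlgebra
  haveI : IsAdicComplete (J.map (algebraMap X D)) D := hD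
  let γ' : C →ₐ[X] D := { γ with commutes' := fun a => rfl }
  let β' : Y →ₐ[X] D := { β with commutes' := fun a => (RingHom.congr_fun hγβ a).symm }
  let θ₀ : Q →ₐ[X] D :=
    { MvPolynomial.eval₂Hom β (fun i => γ (c i)) with
      commutes' := fun a => by
        show MvPolynomial.eval₂Hom β (fun i => γ (c i)) (MvPolynomial.C (algebraMap X Y a)) = _
        rw [MvPolynomial.eval₂Hom_C]
        exact β'.commutes a }
  obtain ⟨Θ, hΘ⟩ := exists_algHom_completion JQ (J.map (algebraMap X D)) θ₀ (by
    rw [Ideal.map_le_iff_le_comap, Ideal.map_le_iff_le_comap]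
    intro a ha
    rw [Ideal.mem_comap, Ideal.mem_comap, AlgHom.commutes]
    exact Ideal.mem_map_of_mem _ ha)
  have hmemP : ∀ {E : Type u} [CommRing E] [Algebra X E] (g : Ph →ₐ[X] E), ∀ p ∈ JP,
      g (algebraMap P Ph p) ∈ J.map (algebraMap X E) := by
    intro E _ _ g p hp
    refine (Ideal.map_le_iff_le_comap.2 fun a ha => ?_ :
      JP ≤ Ideal.comap (g.toRingHom.comp (algebraMap P Ph)) (J.map (algebraMap X E))) hp
    rw [Ideal.mem_comap, Ideal.mem_comap]
    show g (algebraMap P Ph (algebraMap X P a)) ∈ _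
    rw [← IsScalarTower.algebraMap_apply, AlgHom.commutes]
    exact Ideal.mem_map_of_mem _ ha
  have hcomm : γ'.comp G = Θ.comp ρ := by
    refine algHom_completion_ext (K := J.map (algebraMap X D)) hJP (hmemP _) fun p => ?_
    show γ (G (algebraMap P Ph p)) = Θ (ρ (algebraMap P Ph p))
    rw [hG, hρ]
    show _ = Θ (algebraMap Q F (ρ₀ p))
    rw [hΘ]
    exact AlgHom.congr_fun (show γ'.comp (MvPolynomial.aeval c) = θ₀.comp ρ₀ from MvPolynomial.algHom_ext fun i => by
      show γ (MvPolynomial.aeval c (MvPolynomial.X i)) =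
        MvPolynomial.eval₂Hom β (fun i => γ (c i)) (MvPolynomial.map _ (MvPolynomial.X i))
      rw [MvPolynomial.aeval_X, MvPolynomial.map_X, MvPolynomial.eval₂Hom_X']) p
  have hcomm' : γ.comp G.toRingHom = Θ.toRingHom.comp ρ.toRingHom :=
    RingHom.ext fun x => AlgHom.congr_fun hcomm x
  -- the inverse
  let Kr := RingHom.ker G.toRingHom
  let KF := Kr.map ρ.toRingHom
  let T := F ⧸ KF
  haveI hT : IsAdicComplete (J.map (algebraMap X T)) T := by
    have h1 : J.map (algebraMap X T) = (J.map (algebraMap X F)).map (algebraMap F T) := by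
      rw [Ideal.map_map]; rfl
    rw [h1]
    exact (IsAdicComplete.map_algebraMap_iff (J.map (algebraMap X F)) T).2
      (FiniteCompleteLib.isAdicComplete_of_finite _ T)
  let e := RingHom.quotientKerEquivOfSurjective hGs
  let α : C →+* T := (Ideal.quotientMap KF ρ.toRingHom Ideal.le_comap_map).comp e.symm.toRingHom
  have hαG : ∀ x, α (G x) = Ideal.Quotient.mk KF (ρ x) := fun x => by
    show Ideal.quotientMap KF ρ.toRingHom Ideal.le_comap_map (e.symm (G x)) = _
    rw [show e.symm (G x) = Ideal.Quotient.mk Kr x from e.symm_apply_eq.2 rfl]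
    rfl
  have hαX : α.comp (algebraMap X C) = algebraMap X T := RingHom.ext fun a => by
    rw [RingHom.comp_apply, ← G.commutes a, hαG, ρ.commutes]
    rfl
  let b : Y →+* T := (Ideal.Quotient.mk KF).comp ((algebraMap Q F).comp MvPolynomial.C)
  have hbX : b.comp (algebraMap X Y) = algebraMap X T := RingHom.ext fun a => rfl
  obtain ⟨g, hgα, hgb⟩ := hlift T α b (hαX.trans hbX.symm) (hαX.symm ▸ hT)
  have hΘK : ∀ x ∈ KF, Θ x = 0 := by
    intro x hx
    refine (Ideal.map_le_iff_le_comap.2 fun y hy => ?_ : KF ≤ RingHom.ker Θ.toRingHom) hx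
    show Θ (ρ y) = 0
    rw [← AlgHom.comp_apply Θ ρ, ← hcomm]
    show γ (G y) = 0
    rw [show G y = 0 from hy, map_zero]
  let θ : T →+* D := Ideal.Quotient.lift KF Θ.toRingHom hΘK
  have hθα : θ.comp α = γ := RingHom.ext fun z => by
    obtain ⟨x, rfl⟩ := hGs z
    show θ (α (G x)) = γ (G x)
    rw [hαG]
    exact (AlgHom.congr_fun hcomm x).symm
  have hθb : θ.comp b = β := RingHom.ext fun y => by
    show Θ (algebraMap Q F (MvPolynomial.C y)) = β y
    rw [hΘ]
    exact MvPolynomial.eval₂Hom_C _ _ y
  have hθg := hext (θ.comp g) (by rw [RingHom.comp_assoc, hgα, hθα]) (by rw [RingHom.comp_assoc, hgb, hθb])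
  have hgX : ∀ a, g (algebraMap X D a) = algebraMap X T a := fun a => by
    show g (γ (algebraMap X C a)) = _
    rw [← RingHom.comp_apply g γ, hgα, ← RingHom.comp_apply, hαX]
  let g' : D →ₐ[X] T := { g with commutes' := hgX }
  have hgΘ : g'.comp Θ = Ideal.Quotient.mkₐ X KF := by
    refine algHom_completion_ext (K := J.map (algebraMap X T)) hJQ (fun p hp => ?_) fun p => ?_
    · refine (Ideal.map_le_iff_le_comap.2 fun a ha => ?_ :
        JQ ≤ Ideal.comap ((g'.comp Θ).toRingHom.comp (algebraMap Q F)) (J.map (algebraMap X T))) hp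
      rw [Ideal.mem_comap, Ideal.mem_comap]
      show (g'.comp Θ) (algebraMap Q F (algebraMap X Q a)) ∈ _
      rw [← IsScalarTower.algebraMap_apply, AlgHom.commutes]
      exact Ideal.mem_map_of_mem _ ha
    · show g (Θ (algebraMap Q F p)) = Ideal.Quotient.mk KF (algebraMap Q F p)
      rw [hΘ]
      refine RingHom.congr_fun (show g.comp (MvPolynomial.eval₂Hom β (fun i => γ (c i))) =
        (Ideal.Quotient.mk KF).comp (algebraMap Q F) from MvPolynomial.ringHom_ext (fun y => ?_) fun i => ?_) p
      · rw [RingHom.comp_apply, MvPolynomial.eval₂Hom_C]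
        exact RingHom.congr_fun hgb y
      · rw [RingHom.comp_apply, MvPolynomial.eval₂Hom_X', ← RingHom.comp_apply g γ, hgα,
          ← MvPolynomial.aeval_X (R := X) c i, ← hG, hαG, hρ]
        show Ideal.Quotient.mk KF (algebraMap Q F (MvPolynomial.map _ (MvPolynomial.X i))) = _
        rw [MvPolynomial.map_X]
        rfl
  have hΘs : Function.Surjective Θ.toRingHom := fun d => by
    obtain ⟨x, hx⟩ := Ideal.Quotient.mk_surjective (g d)
    refine ⟨x, ?_⟩
    show θ (Ideal.Quotient.mk KF x) = d
    rw [hx]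
    exact RingHom.congr_fun hθg d
  have hker : RingHom.ker Θ.toRingHom ≤ KF := fun x hx => by
    rw [← Ideal.Quotient.eq_zero_iff_mem]
    show Ideal.Quotient.mkₐ X KF x = 0
    rw [← hgΘ, AlgHom.comp_apply, show Θ x = 0 from hx, map_zero]
  refine flat_quot_point hGs hΘs hcomm' hker q ?_
  -- the point of the power series over `Y`
  let qF := q.comap Θ.toRingHom
  let qQ := qF.comap (algebraMap Q F)
  have hqY : qQ.comap MvPolynomial.C = q.comap β := by
    ext y
    simp only [qQ, qF, Ideal.mem_comap]
    show Θ (algebraMap Q F (MvPolynomial.C y)) ∈ q ↔ _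
    rw [hΘ, show θ₀ (MvPolynomial.C y) = β y from MvPolynomial.eval₂Hom_C _ _ y]
  have h1 := flat_poly_point (X := X) n qQ (q.comap β) hqY hflat
  have h2 : ((algebraMap F (Localization.AtPrime qF)).comp (algebraMap Q F)).Flat :=
    (RingHom.flat_algebraMap_iff.2 (inferInstance : Module.Flat Q F)).comp
      (RingHom.flat_algebraMap_iff.2 (IsLocalization.flat _ qF.primeCompl))
  have h3 := flat_comp_at (MvPolynomial.map (algebraMap X Y)) (algebraMap Q F) qQ qF rfl h1 h2
  let p' := qF.comap ρ.toRingHom
  haveI : Module.Finite X (Ph ⧸ p') := by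
    haveI : Module.Finite X (D ⧸ q) := hfin
    let j : (Ph ⧸ p') →ₐ[X] D ⧸ q := Ideal.quotientMapₐ q (Θ.comp ρ) le_rfl
    refine Module.Finite.of_injective j.toLinearMap fun x y hxy => ?_
    obtain ⟨x, rfl⟩ := Ideal.Quotient.mk_surjective x
    obtain ⟨y, rfl⟩ := Ideal.Quotient.mk_surjective y
    have hxy' : Ideal.Quotient.mk q (Θ (ρ x)) = Ideal.Quotient.mk q (Θ (ρ y)) := hxy
    rw [Ideal.Quotient.eq] at hxy' ⊢
    show Θ (ρ (x - y)) ∈ q
    rw [map_sub, map_sub]
    exact hxy'
  have hmax : ((p'.comap (algebraMap P Ph)).map (algebraMap P Ph)).map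
      (algebraMap Ph (Localization.AtPrime p')) = IsLocalRing.maximalIdeal (Localization.AtPrime p') := by
    rw [(completion_point J p').2, Localization.AtPrime.map_eq_maximalIdeal]
  refine flat_of_unramified_point (algebraMap P Ph) ρ.toRingHom (p'.comap (algebraMap P Ph)) p' qF rfl hmax ?_
  convert! h3 using 1
  refine RingHom.ext fun p => ?_
  show algebraMap F _ (ρ (algebraMap P Ph p)) = algebraMap F _ (algebraMap Q F (MvPolynomial.map (algebraMap X Y) p))
  rw [hρ]
  rfl

end Groth.Agent.AdicRingLib
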