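import Mathlib
import Groth.Agent.AdicRingLib.RigPerm
import Groth.Agent.S8836

/-!
# Descent of rig-flatness
-/

set_option autoImplicit false
set_option linter.style.haveILetI false

universe u

namespace Groth.Agent.AdicRingLib

theorem finiteType_congr {A B : Type u} [CommRing A] [CommRing B] [Algebra A B] {K K' : Ideal B} (h : K = K')
    (hft : Algebra.FiniteType A (B ⧸ K)) : Algebra.FiniteType A (B ⧸ K') := by
  subst h; exact hft

/-- A rig-closed point lifts along a faithfully flat map after a completed localization. -/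
theorem exists_rc_above {B B' : Type u} [CommRing B] [IsNoetherianRing B] [CommRing B'] [IsNoetherianRing B']
    [Algebra B B'] [Module.FaithfullyFlat B B'] (J : Ideal B)
    (hft : Algebra.FiniteType B (B' ⧸ J.map (algebraMap B B'))) (b : B)
    (q : PrimeSpectrum (CL J b)) (hq : RC (J.map (algebraMap B (CL J b))) q) :
    ∃ (k : CL J b →+* CL (J.map (algebraMap B B')) (algebraMap B B' b))
      (q' : PrimeSpectrum (CL (J.map (algebraMap B B')) (algebraMap B B' b))), k.Flat ∧
      k.comp (algebraMap B (CL J b)) =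
        (algebraMap B' (CL (J.map (algebraMap B B')) (algebraMap B B' b))).comp (algebraMap B B') ∧
      RC ((J.map (algebraMap B B')).map (algebraMap B' (CL (J.map (algebraMap B B')) (algebraMap B B' b)))) q' ∧
      q'.asIdeal.comap k = q.asIdeal := by
  classical
  let J' := J.map (algebraMap B B')
  let b' := algebraMap B B' b
  let D := CL J b
  let D' := CL J' b'
  obtain ⟨k, hk⟩ := exists_awayHom J b (algebraMap B B') (J := J') rfl
  have hkB := comp_of_awayMap J b hk
  have hkflat : k.Flat := flat_hom J b (RingHom.flat_algebraMap_iff.2 inferInstance) rfl b' hkB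
    (isUnit_CL J' b') (IsLocalization.Away.algebraMap_isUnit b')
  haveI := isAdicComplete_CL J b
  obtain ⟨m, hm, hqm⟩ := Ideal.exists_le_maximal q.asIdeal q.isPrime.ne_top
  haveI := hm
  letI : Field (D ⧸ m) := Ideal.Quotient.field m
  let n := m.comap (algebraMap B D)
  haveI : n.IsPrime := Ideal.IsPrime.comap _
  have hJn : J ≤ n := Ideal.map_le_iff_le_comap.1 ((IsAdicComplete.le_jacobson_bot _).trans (sInf_le ⟨bot_le, hm⟩))
  have hbn : b ∉ n := fun h => hm.ne_top (Ideal.eq_top_of_isUnit_mem _ h (isUnit_CL J b))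
  obtain ⟨⟨N, hN⟩, hNn⟩ := PrimeSpectrum.comap_surjective_of_faithfullyFlat (A := B) (B := B') ⟨n, ‹_›⟩
  have hNn' : N.comap (algebraMap B B') = n := congrArg PrimeSpectrum.asIdeal hNn
  haveI := hN
  let Kn := FractionRing (B ⧸ n)
  let K := FractionRing (B' ⧸ N)
  let φn : B →+* Kn := (algebraMap (B ⧸ n) Kn).comp (Ideal.Quotient.mk n)
  let φ' : B' →+* K := (algebraMap (B' ⧸ N) K).comp (Ideal.Quotient.mk N)
  let j : B ⧸ n →+* B' ⧸ N := Ideal.quotientMap N (algebraMap B B') hNn'.ge
  have hj : Function.Injective j := Ideal.quotientMap_injective' hNn'.le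
  let ι : Kn →+* K := IsFractionRing.lift (A := B ⧸ n) (g := (algebraMap (B' ⧸ N) K).comp j)
    ((IsFractionRing.injective (B' ⧸ N) K).comp hj)
  have hι : ι.comp φn = φ'.comp (algebraMap B B') := RingHom.ext fun x => by
    show ι (algebraMap (B ⧸ n) Kn (Ideal.Quotient.mk n x)) = _
    rw [IsFractionRing.lift_algebraMap]; rfl
  have hn0 : ∀ x ∈ n, φn x = 0 := fun x hx => by
    show algebraMap (B ⧸ n) Kn (Ideal.Quotient.mk n x) = 0
    rw [Ideal.Quotient.eq_zero_iff_mem.2 hx, map_zero]
  have hJ0 : J.map φn = ⊥ := (Ideal.map_eq_bot_iff_le_ker _).2 fun x hx => RingHom.mem_ker.2 (hn0 x (hJn hx))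
  have hJ0' : J'.map φ' = ⊥ := by
    rw [Ideal.map_map, ← hι, ← Ideal.map_map, hJ0, Ideal.map_bot]
  haveI : IsAdicComplete (J.map φn) Kn := by rw [hJ0]; infer_instance
  haveI : IsAdicComplete (J'.map φ') K := by rw [hJ0']; infer_instance
  haveI : IsAdicComplete (J.map (φ'.comp (algebraMap B B'))) K := by rw [← Ideal.map_map]; infer_instance
  have hbn' : φn b ≠ 0 := fun h => hbn (Ideal.Quotient.eq_zero_iff_mem.1
    ((map_eq_zero_iff _ (IsFractionRing.injective (B ⧸ n) Kn)).1 h))
  obtain ⟨δ, hδ⟩ := exists_hom J b φn hbn'.isUnit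
  obtain ⟨ω, hω⟩ := exists_hom J' b' φ' (by
    rw [show φ' b' = ι (φn b) from (RingHom.congr_fun hι b).symm]
    exact hbn'.isUnit.map ι)
  have hδm : RingHom.ker δ = m := by
    let j₀ : B ⧸ n →+* D ⧸ m := Ideal.quotientMap m (algebraMap B D) le_rfl
    let ε : Kn →+* D ⧸ m := IsFractionRing.lift (A := B ⧸ n) (g := j₀) (Ideal.quotientMap_injective' le_rfl)
    haveI : IsAdicComplete (J.map ((Ideal.Quotient.mk m).comp (algebraMap B D))) (D ⧸ m) := by
      have h0 : J.map ((Ideal.Quotient.mk m).comp (algebraMap B D)) = ⊥ :=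
        (Ideal.map_eq_bot_iff_le_ker _).2 fun x hx =>
          RingHom.mem_ker.2 (Ideal.Quotient.eq_zero_iff_mem.2 (hJn hx))
      rw [h0]; infer_instance
    have h : ε.comp δ = Ideal.Quotient.mk m := hom_ext J b (φ := (Ideal.Quotient.mk m).comp (algebraMap B D))
      (RingHom.ext fun x => by
        show ε (δ (algebraMap B D x)) = Ideal.Quotient.mk m (algebraMap B D x)
        rw [show δ (algebraMap B D x) = φn x from RingHom.congr_fun hδ x]
        show ε (algebraMap (B ⧸ n) Kn (Ideal.Quotient.mk n x)) = _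
        rw [IsFractionRing.lift_algebraMap]; rfl) rfl
    have h2 : RingHom.ker (ε.comp δ) = RingHom.ker δ := by
      rw [← RingHom.comap_ker, (RingHom.injective_iff_ker_eq_bot ε).1 ε.injective, ← RingHom.ker_eq_comap_bot]
    rw [← h2, h, Ideal.mk_ker]
  let Q := RingHom.ker ω
  haveI : Q.IsPrime := RingHom.ker_isPrime _
  have hQ : Q.comap k = m := by
    have h : ω.comp k = ι.comp δ := hom_ext J b (φ := φ'.comp (algebraMap B B'))
      (by rw [RingHom.comp_assoc, hkB, ← RingHom.comp_assoc, hω])
      (by rw [RingHom.comp_assoc, hδ, hι])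
    rw [RingHom.comap_ker, h, ← RingHom.comap_ker, (RingHom.injective_iff_ker_eq_bot ι).1 ι.injective,
      ← RingHom.ker_eq_comap_bot, hδm]
  letI : Algebra D D' := k.toAlgebra
  have hID : (J.map (algebraMap B D)).map k = J'.map (algebraMap B' D') := by
    exact (Ideal.map_map _ _).trans ((congrArg (fun r => J.map r) hkB).trans (Ideal.map_map _ _).symm)
  haveI : IsAdicComplete ((J.map (algebraMap B D)).map (algebraMap D D')) D' := by
    show IsAdicComplete ((J.map (algebraMap B D)).map k) D'
    rw [hID]; exact isAdicComplete_CL J' b'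
  haveI : Module.Flat D D' := hkflat
  have hftD : Algebra.FiniteType D (D' ⧸ (J.map (algebraMap B D)).map (algebraMap D D')) := by
    refine RingHom.finiteType_algebraMap.1 ?_
    show ((Ideal.Quotient.mk ((J.map (algebraMap B D)).map k)).comp k).FiniteType
    refine RingHom.FiniteType.of_comp_finiteType (f := algebraMap B D) ?_
    rw [RingHom.comp_assoc, hkB]
    exact finiteType_trans J _ (algebraMap B' D') (J := J') rfl hID.symm (finiteType_mk hft)
      (hID ▸ finiteType_mk (finiteType_CL J' b'))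
  obtain ⟨q', hq', hq'q⟩ := (S8836.result D (J.map (algebraMap B D)) D' hftD q hq).1 ⟨⟨Q, inferInstance⟩, by
    show (J.map (algebraMap B D)).map k ≤ Q
    rw [hID]
    refine Ideal.map_le_iff_le_comap.2 fun x hx => ?_
    show ω (algebraMap B' D' x) = 0
    rw [show ω (algebraMap B' D' x) = φ' x from RingHom.congr_fun hω x, ← Ideal.mem_bot, ← hJ0']
    exact Ideal.mem_map_of_mem φ' hx, by
    show q.asIdeal ≤ Q.comap k
    rw [hQ]; exact hqm, by
    show (Q.comap k).IsMaximal
    rw [hQ]; exact hm⟩
  refine ⟨k, q', hkflat, hkB, ?_, congrArg PrimeSpectrum.asIdeal hq'q⟩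
  rw [← hID]
  exact hq'

theorem rigFlat_descent {A : Type u} [CommRing A] [IsNoetherianRing A] (I : Ideal A) (B : Type u) [CommRing B]
    [Algebra A B] [IsNoetherianRing B] (A' : Type u) [CommRing A'] [Algebra A A'] [IsNoetherianRing A'] (B' : Type u)
    [CommRing B'] [Algebra A B'] [Algebra B B'] [Algebra A' B'] [IsScalarTower A B B'] [IsScalarTower A A' B']
    [IsNoetherianRing B'] (hftB'B : Algebra.FiniteType B (B' ⧸ (I.map (algebraMap A B'))))
    (hftB'A' : Algebra.FiniteType A' (B' ⧸ (I.map (algebraMap A B')))) [Module.Flat A A'] [Module.FaithfullyFlat B B']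
    (h : RigFlat A' (I.map (algebraMap A A')) B') : RigFlat A I B := by
  classical
  intro f ψ hψ q hq
  let IB := I.map (algebraMap A B)
  let IA := I.map (algebraMap A A')
  let J := IB.map (algebraMap B B')
  let b := algebraMap B B' (algebraMap A B f)
  have hJ : I.map (algebraMap A B') = J := by
    show _ = (I.map (algebraMap A B)).map (algebraMap B B')
    rw [Ideal.map_map, ← IsScalarTower.algebraMap_eq]
  have hJ' : IA.map (algebraMap A' B') = J := by
    rw [Ideal.map_map, ← IsScalarTower.algebraMap_eq]; exact hJ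
  have hq0 : RC (IB.map (algebraMap B (CL IB (algebraMap A B f)))) q := by rw [mapI_eq]; exact hq
  obtain ⟨k, q', hkflat, hk, hq', hkq⟩ := exists_rc_above (B' := B') IB (finiteType_congr hJ hftB'B) (algebraMap A B f) q hq0
  let D' := CL J b
  let φD : A' →+* D' := (algebraMap B' D').comp (algebraMap A' B')
  have hφD : IA.map φD = J.map (algebraMap B' D') := by
    simp only [φD, IA, J, IB, Ideal.map_map, RingHom.comp_assoc, ← IsScalarTower.algebraMap_eq]
  haveI : IsAdicComplete (IA.map φD) D' := hφD ▸ isAdicComplete_CL J b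
  have hftD : ((Ideal.Quotient.mk (IA.map φD)).comp φD).FiniteType :=
    finiteType_trans IA _ (algebraMap B' D') hJ' hφD.symm (finiteType_mk (finiteType_congr hJ hftB'A'))
      (hφD ▸ finiteType_mk (finiteType_CL J b))
  have hq'' : RC (IA.map φD) q' := by rw [hφD]; exact hq'
  obtain ⟨e, he, hfin⟩ := exists_good IA φD hftD hq''
  obtain ⟨hcT, hdT, hIT⟩ := rig_data hq''
  let π := Ideal.Quotient.mk q'.asIdeal
  let g := algebraMap A A' f * e
  let J₂ := IA.map (algebraMap A' B')
  let c := algebraMap A' B' g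
  have hb : algebraMap A' B' (algebraMap A A' f) = b := by
    show _ = algebraMap B B' (algebraMap A B f)
    rw [← IsScalarTower.algebraMap_apply, ← IsScalarTower.algebraMap_apply]
  obtain ⟨g1, hg1⟩ := exists_awayHom IA g (algebraMap A' B') (J := J₂) rfl
  have hg1A := comp_of_awayMap IA g hg1
  have hmapT : J₂.map (π.comp (algebraMap B' D')) = (IA.map φD).map π := by
    simp only [J₂, φD, Ideal.map_map, RingHom.comp_assoc]
  haveI hTJ : IsAdicComplete (J₂.map (π.comp (algebraMap B' D'))) (D' ⧸ q'.asIdeal) := by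
    rw [hmapT]; exact hcT
  obtain ⟨χC, hχC⟩ := exists_hom J₂ c (π.comp (algebraMap B' D')) (by
    show IsUnit (π (algebraMap B' D' (algebraMap A' B' (algebraMap A A' f * e))))
    rw [map_mul (algebraMap A' B'), map_mul, map_mul, hb]
    exact ((isUnit_CL J b).map π).mul he)
  let χA := χC.comp g1
  haveI := isAdicComplete_CL IA g
  haveI := isAdicComplete_CL J₂ c
  have hχA : χA.comp (algebraMap A' (CL IA g)) = π.comp φD := by
    refine RingHom.ext fun a => ?_
    show χC (g1 (algebraMap A' (CL IA g) a)) = π (algebraMap B' D' (algebraMap A' B' a))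
    exact (congrArg χC (RingHom.congr_fun hg1A a)).trans (RingHom.congr_fun hχC (algebraMap A' B' a))
  have hfinA : χA.Finite := hfin (CL IA g) _ χA hχA (isUnit_of_mul_left _ (b := algebraMap A A' f) (by
    rw [mul_comm]; exact isUnit_CL IA g))
  have hfinC : χC.Finite := RingHom.Finite.of_comp_finite hfinA
  haveI : (RingHom.ker χC).IsPrime := RingHom.ker_isPrime _
  have hRC : RC (J₂.map (algebraMap B' (CL J₂ c))) ⟨RingHom.ker χC, inferInstance⟩ := by
    refine rc_ker _ hdT χC hfinC ?_
    rw [Ideal.map_map (algebraMap B' (CL J₂ c)) χC, hχC, hmapT]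
    exact hIT
  rw [mapI_eq] at hRC
  have h1 := h g g1 hg1 ⟨RingHom.ker χC, inferInstance⟩ hRC
  haveI : IsAdicComplete (I.map ((algebraMap A' (CL IA g)).comp (algebraMap A A'))) (CL IA g) := by
    rw [← Ideal.map_map]; infer_instance
  have hfg : IsUnit (algebraMap A' (CL IA g) (algebraMap A A' f)) := isUnit_of_mul_left _ (isUnit_CL IA g)
  obtain ⟨u, hu⟩ := exists_hom I f ((algebraMap A' (CL IA g)).comp (algebraMap A A')) hfg
  have hu_flat : u.Flat := flat_hom I f (RingHom.flat_algebraMap_iff.2 ‹Module.Flat A A'›) rfl g (g := u) hu hfg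
    (isUnit_of_mul_left _ (IsLocalization.Away.algebraMap_isUnit g))
  haveI : IsAdicComplete (J.map (algebraMap B' (CL J₂ c))) (CL J₂ c) := by
    rw [← hJ']; infer_instance
  have hbc : IsUnit (algebraMap B' (CL J₂ c) b) := by
    rw [← hb]; refine isUnit_of_mul_left _ (b := algebraMap A' B' e) ?_
    rw [← map_mul]; exact isUnit_CL J₂ c
  obtain ⟨k', hk'⟩ := exists_hom J b (algebraMap B' (CL J₂ c)) hbc
  have hk'_flat : k'.Flat := flat_hom J b (RingHom.Flat.id B') (J := J₂)
    (by rw [Ideal.map_id]; exact hJ'.symm) c (g := k') hk' hbc (by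
      rw [RingHom.id_apply, ← hb]
      refine isUnit_of_mul_left _ (b := algebraMap A' B' e) ?_
      rw [← map_mul]; exact IsLocalization.Away.algebraMap_isUnit c)
  haveI : IsAdicComplete (J.map (π.comp (algebraMap B' D'))) (D' ⧸ q'.asIdeal) := by
    rw [← Ideal.map_map, ← hφD]; exact hcT
  have hker : (RingHom.ker χC).comap (k'.comp k) = q.asIdeal := by
    have : χC.comp k' = π := hom_ext J b (φ := π.comp (algebraMap B' D'))
      (by rw [RingHom.comp_assoc, hk', hχC]) rfl
    rw [← Ideal.comap_comap, RingHom.comap_ker, this, Ideal.mk_ker]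
    exact hkq
  refine flat_descent ψ (k'.comp k) (RingHom.Flat.comp hkflat hk'_flat) q.asIdeal (RingHom.ker χC) hker ?_
  let φ₂ : A →+* CL J₂ c := (algebraMap B' (CL J₂ c)).comp (algebraMap A B')
  have heq : (k'.comp k).comp ψ = g1.comp u := by
    haveI : IsAdicComplete (I.map φ₂) (CL J₂ c) := by
      show IsAdicComplete (I.map ((algebraMap B' (CL J₂ c)).comp (algebraMap A B'))) _
      rw [← Ideal.map_map, hJ]; infer_instance
    refine hom_ext I f (φ := φ₂) (RingHom.ext fun a => ?_) (RingHom.ext fun a => ?_)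
    · show k' (k (ψ (algebraMap A (CL I f) a))) = algebraMap B' (CL J₂ c) (algebraMap A B' a)
      refine (congrArg (k' ∘ k) (RingHom.congr_fun (comp_of_awayMap I f hψ) a)).trans ?_
      refine (congrArg k' (RingHom.congr_fun hk (algebraMap A B a))).trans ?_
      rw [IsScalarTower.algebraMap_apply A B B']
      exact RingHom.congr_fun hk' _
    · show g1 (u (algebraMap A (CL I f) a)) = algebraMap B' (CL J₂ c) (algebraMap A B' a)
      refine (congrArg g1 (RingHom.congr_fun hu a)).trans ?_
      rw [IsScalarTower.algebraMap_apply A A' B']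
      exact RingHom.congr_fun hg1A _
  rw [heq, ← RingHom.comp_assoc]
  exact RingHom.Flat.comp hu_flat h1

end Groth.Agent.AdicRingLib
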