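import Mathlib
import Groth.Agent.AdicRingLib.RigFinite
import Groth.Agent.RegLocal.Complete
import Groth.Agent.S8837
import Groth.Agent.FlatLocus.Noeth
import Groth.Agent.FlatLocus.Fibrewise

/-!
# Naive rig-flatness and completed localizations
-/

set_option autoImplicit false
set_option linter.style.haveILetI false

universe u

open TensorProduct

namespace Groth.Agent.AdicRingLib

theorem flat_rigClosed_completedLocalization (A : Type u) [CommRing A] [IsNoetherianRing A] (I : Ideal A)
    [IsAdicComplete I A] (B : Type u) [CommRing B] [Algebra A B] [IsNoetherianRing B]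
    [IsAdicComplete (I.map (algebraMap A B)) B] (hft : Algebra.FiniteType A (B ⧸ (I.map (algebraMap A B))))
    (hJ : IsJacobsonRing (A ⧸ I))
    (hnaive : ∀ q : PrimeSpectrum B, (¬ (I.map (algebraMap A B)) ≤ q.asIdeal ∧
        ∀ y : PrimeSpectrum B, q ≤ y → ¬ (I.map (algebraMap A B)) ≤ y.asIdeal → y = q) →
      (algebraMap A (Localization.AtPrime q.asIdeal)).Flat)
    (f : A) (ψ : (AdicCompletion (I.map (algebraMap A (Localization.Away f))) (Localization.Away f)) →+*
      (AdicCompletion ((I.map (algebraMap A B)).map (algebraMap B (Localization.Away (algebraMap A B f))))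
        (Localization.Away (algebraMap A B f))))
    (hψ : ψ.comp (algebraMap (Localization.Away f) (AdicCompletion (I.map (algebraMap A (Localization.Away f))) (Localization.Away f))) =
      (algebraMap (Localization.Away (algebraMap A B f))
        (AdicCompletion ((I.map (algebraMap A B)).map (algebraMap B (Localization.Away (algebraMap A B f))))
          (Localization.Away (algebraMap A B f)))).comp (Localization.awayMap (algebraMap A B) f))
    (q' : PrimeSpectrum (AdicCompletion ((I.map (algebraMap A B)).map (algebraMap B (Localization.Away (algebraMap A B f))))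
      (Localization.Away (algebraMap A B f))))
    (hq' : (¬ ((((I.map (algebraMap A B))).map (algebraMap B (Localization.Away (algebraMap A B f)))).map
        (algebraMap (Localization.Away (algebraMap A B f)) (AdicCompletion ((I.map (algebraMap A B)).map
          (algebraMap B (Localization.Away (algebraMap A B f)))) (Localization.Away (algebraMap A B f))))) ≤ q'.asIdeal ∧
      ∀ y : PrimeSpectrum (AdicCompletion ((I.map (algebraMap A B)).map (algebraMap B (Localization.Away (algebraMap A B f))))
          (Localization.Away (algebraMap A B f))), q' ≤ y →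
        ¬ ((((I.map (algebraMap A B))).map (algebraMap B (Localization.Away (algebraMap A B f)))).map
          (algebraMap (Localization.Away (algebraMap A B f)) (AdicCompletion ((I.map (algebraMap A B)).map
            (algebraMap B (Localization.Away (algebraMap A B f)))) (Localization.Away (algebraMap A B f))))) ≤ y.asIdeal →
        y = q')) :
    ((algebraMap (AdicCompletion ((I.map (algebraMap A B)).map (algebraMap B (Localization.Away (algebraMap A B f))))
      (Localization.Away (algebraMap A B f))) (Localization.AtPrime q'.asIdeal)).comp ψ).Flat := by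
  classical
  let IB := I.map (algebraMap A B)
  let Lf := Localization.Away f
  let Bf := Localization.Away (algebraMap A B f)
  let JA := I.map (algebraMap A Lf)
  let JB := IB.map (algebraMap B Bf)
  let C := AdicCompletion JA Lf
  let D := AdicCompletion JB Bf
  haveI : IsNoetherianRing Lf := IsLocalization.isNoetherianRing (Submonoid.powers f) Lf inferInstance
  haveI : IsNoetherianRing Bf := IsLocalization.isNoetherianRing (Submonoid.powers (algebraMap A B f)) Bf inferInstance
  haveI : IsNoetherianRing C := RegLocal.isNoetherianRing_adicCompletion JA (IsNoetherian.noetherian JA)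
  haveI : IsNoetherianRing D := RegLocal.isNoetherianRing_adicCompletion JB (IsNoetherian.noetherian JB)
  haveI hcC : IsAdicComplete (I.map (algebraMap A C)) C := by
    have h := AdicCompletion.isAdicComplete (M := Lf) (IsNoetherian.noetherian JA)
    rw [IsAdicComplete.map_algebraMap_iff]
    exact (IsAdicComplete.map_algebraMap_iff I C (S := Lf)).1 h
  haveI hcD : IsAdicComplete (IB.map (algebraMap B D)) D := by
    have h := AdicCompletion.isAdicComplete (M := Bf) (IsNoetherian.noetherian JB)
    rw [IsAdicComplete.map_algebraMap_iff]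
    exact (IsAdicComplete.map_algebraMap_iff IB D (S := Bf)).1 h
  have hIBD : IB.map (algebraMap B D) = JB.map (algebraMap Bf D) := by
    rw [show JB.map (algebraMap Bf D) = IB.map ((algebraMap Bf D).comp (algebraMap B Bf)) from Ideal.map_map _ _,
      ← IsScalarTower.algebraMap_eq]
  haveI hftD : Algebra.FiniteType B (D ⧸ IB.map (algebraMap B D)) := by
    haveI : Algebra.FiniteType B Bf := IsLocalization.finiteType_of_monoid_fg (Submonoid.powers (algebraMap A B f)) Bf
    refine Algebra.FiniteType.of_surjective (((Ideal.Quotient.mkₐ Bf (IB.map (algebraMap B D))).comp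
      (Algebra.ofId Bf D)).restrictScalars B) fun y => ?_
    obtain ⟨y, rfl⟩ := Ideal.Quotient.mk_surjective y
    obtain ⟨c, hc⟩ := Submodule.Quotient.mk_surjective _ (AdicCompletion.eval JB Bf 1 y)
    refine ⟨c, ?_⟩
    show Ideal.Quotient.mk _ (algebraMap Bf D c) = _
    rw [eq_comm, Ideal.Quotient.eq, hIBD]
    have hmem : y - algebraMap Bf D c ∈ JB ^ 1 • (⊤ : Submodule Bf D) := by
      rw [AdicCompletion.pow_smul_top_eq_ker_eval (IsNoetherian.noetherian JB), LinearMap.mem_ker, map_sub,
        sub_eq_zero]
      exact hc.symm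
    rwa [pow_one, Ideal.smul_top_eq_map, Submodule.restrictScalars_mem] at hmem
  haveI hJB : IsJacobsonRing (B ⧸ IB) := by
    haveI := hJ
    letI : Algebra (A ⧸ I) (B ⧸ IB) := (Ideal.quotientMap IB (algebraMap A B) Ideal.le_comap_map).toAlgebra
    haveI : IsScalarTower A (A ⧸ I) (B ⧸ IB) := IsScalarTower.of_algebraMap_eq fun _ => rfl
    haveI : Algebra.FiniteType (A ⧸ I) (B ⧸ IB) := by
      haveI := hft
      exact Algebra.FiniteType.of_restrictScalars_finiteType A _ _
    exact isJacobsonRing_of_finiteType (A := A ⧸ I)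
  rw [← hIBD] at hq'
  have hfinq : Module.Finite B (D ⧸ q'.asIdeal) := finite_quotient_rigClosed q' hq' fun m hm _ => by
    haveI := hm
    exact finite_residue_of_jacobson hftD hJB m
  let q := PrimeSpectrum.comap (algebraMap B D) q'
  have hq : ¬ IB ≤ q.asIdeal ∧ ∀ y : PrimeSpectrum B, q ≤ y → ¬ IB ≤ y.asIdeal → y = q :=
    rigClosed_comap_of_finite q' hq' hfinq
  have hfinp : Module.Finite A (B ⧸ q.asIdeal) := finite_quotient_rigClosed q hq fun m hm _ => by
    haveI := hm
    exact finite_residue_of_jacobson hft hJ m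
  let p := PrimeSpectrum.comap (algebraMap A B) q
  have hp : ¬ I ≤ p.asIdeal ∧ ∀ y : PrimeSpectrum A, p ≤ y → ¬ I ≤ y.asIdeal → y = p :=
    rigClosed_comap_of_finite q hq hfinp
  haveI : Module.Finite A (D ⧸ q'.asIdeal) := by
    letI : Algebra (B ⧸ q.asIdeal) (D ⧸ q'.asIdeal) := (Ideal.quotientMap q'.asIdeal (algebraMap B D) le_rfl).toAlgebra
    haveI : IsScalarTower B (B ⧸ q.asIdeal) (D ⧸ q'.asIdeal) := IsScalarTower.of_algebraMap_eq fun _ => rfl
    haveI : IsScalarTower A (B ⧸ q.asIdeal) (D ⧸ q'.asIdeal) := IsScalarTower.of_algebraMap_eq fun a => by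
      rw [IsScalarTower.algebraMap_apply A B (B ⧸ q.asIdeal), ← IsScalarTower.algebraMap_apply B (B ⧸ q.asIdeal),
        ← IsScalarTower.algebraMap_apply]
    haveI := hfinp
    haveI := hfinq
    haveI : Module.Finite (B ⧸ q.asIdeal) (D ⧸ q'.asIdeal) := Module.Finite.of_restrictScalars_finite B _ _
    exact Module.Finite.trans (B ⧸ q.asIdeal) _
  -- the image of `f` is a unit modulo `p`
  have hfp : IsUnit (Ideal.Quotient.mk p.asIdeal f) := by
    letI : Algebra (A ⧸ p.asIdeal) (D ⧸ q'.asIdeal) := (Ideal.quotientMap q'.asIdeal (algebraMap A D) (by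
      intro a ha
      show algebraMap A D a ∈ q'.asIdeal
      rw [IsScalarTower.algebraMap_apply A B D]
      exact ha)).toAlgebra
    haveI : IsScalarTower A (A ⧸ p.asIdeal) (D ⧸ q'.asIdeal) := IsScalarTower.of_algebraMap_eq fun _ => rfl
    haveI : FaithfulSMul (A ⧸ p.asIdeal) (D ⧸ q'.asIdeal) := by
      refine (faithfulSMul_iff_algebraMap_injective _ _).2 ((injective_iff_map_eq_zero _).2 fun x hx => ?_)
      obtain ⟨a, rfl⟩ := Ideal.Quotient.mk_surjective x
      change Ideal.Quotient.mk q'.asIdeal (algebraMap A D a) = 0 at hx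
      rw [Ideal.Quotient.eq_zero_iff_mem, IsScalarTower.algebraMap_apply A B D] at hx
      exact Ideal.Quotient.eq_zero_iff_mem.2 hx
    haveI : Module.Finite (A ⧸ p.asIdeal) (D ⧸ q'.asIdeal) := Module.Finite.of_restrictScalars_finite A _ _
    haveI : Algebra.IsIntegral (A ⧸ p.asIdeal) (D ⧸ q'.asIdeal) := Algebra.IsIntegral.of_finite _ _
    by_contra hn
    obtain ⟨M, hM, hfM⟩ := exists_max_ideal_of_mem_nonunits (a := Ideal.Quotient.mk p.asIdeal f) hn
    haveI := hM
    obtain ⟨Q, -, hQ, hQM⟩ := Ideal.exists_ideal_over_prime_of_isIntegral M (⊥ : Ideal (D ⧸ q'.asIdeal)) (by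
      rw [Ideal.comap_bot_of_injective _ (FaithfulSMul.algebraMap_injective _ _)]; exact bot_le)
    have h1 : algebraMap (A ⧸ p.asIdeal) (D ⧸ q'.asIdeal) (Ideal.Quotient.mk p.asIdeal f) ∈ Q := by
      rw [← hQM] at hfM; exact hfM
    refine hQ.ne_top (Ideal.eq_top_of_isUnit_mem _ h1 ?_)
    rw [show algebraMap (A ⧸ p.asIdeal) (D ⧸ q'.asIdeal) (Ideal.Quotient.mk p.asIdeal f) =
      algebraMap Bf (D ⧸ q'.asIdeal) (algebraMap B Bf (algebraMap A B f)) by
        rw [← IsScalarTower.algebraMap_apply B Bf, ← IsScalarTower.algebraMap_apply A B]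
        exact (IsScalarTower.algebraMap_apply A (A ⧸ p.asIdeal) (D ⧸ q'.asIdeal) f).symm]
    exact (IsLocalization.Away.algebraMap_isUnit _).map _
  obtain ⟨hpC, hbij⟩ := S8837.result A I p.asIdeal f hfp
  let pC := p.asIdeal.map (algebraMap A C)
  have hψA : ∀ a, ψ (algebraMap A C a) = algebraMap A D a := by
    intro a
    have h := RingHom.congr_fun hψ (algebraMap A Lf a)
    rw [RingHom.comp_apply, RingHom.comp_apply, ← IsScalarTower.algebraMap_apply A Lf C] at h
    rw [h, IsScalarTower.algebraMap_apply A B D, IsScalarTower.algebraMap_apply B Bf D]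
    exact congrArg _ (IsLocalization.map_eq _ a)
  letI : Algebra C D := ψ.toAlgebra
  haveI : IsScalarTower A C D := IsScalarTower.of_algebraMap_eq fun a => (hψA a).symm
  let P := q'.asIdeal.comap (algebraMap C D)
  have hP : P = pC := by
    have hle : pC ≤ P := Ideal.map_le_iff_le_comap.2 fun a ha => by
      show algebraMap C D (algebraMap A C a) ∈ q'.asIdeal
      rw [← IsScalarTower.algebraMap_apply, IsScalarTower.algebraMap_apply A B D]
      exact ha
    have hIP : ¬ I.map (algebraMap A C) ≤ P := fun h => hq'.1 (Ideal.map_le_iff_le_comap.2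
      (Ideal.map_le_iff_le_comap.2 fun a ha => by
        show algebraMap B D (algebraMap A B a) ∈ q'.asIdeal
        have h1 : algebraMap C D (algebraMap A C a) ∈ q'.asIdeal := h (Ideal.mem_map_of_mem _ ha)
        rwa [← IsScalarTower.algebraMap_apply, IsScalarTower.algebraMap_apply A B D] at h1))
    have key : ringKrullDim (C ⧸ pC) = 1 ∧ ¬ I.map (algebraMap A C) ≤ pC := by
      refine ⟨?_, fun h => hIP (h.trans hle)⟩
      obtain ⟨hd, -⟩ := ((rigClosed_tfae A I p).out 0 1).1 hp
      rw [← hd]
      exact (ringKrullDim_eq_of_ringEquiv (RingEquiv.ofBijective _ hbij)).symm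
    obtain ⟨-, hmaxC⟩ := ((rigClosed_tfae C (I.map (algebraMap A C)) ⟨pC, hpC⟩).out 1 0).1 key
    exact congrArg PrimeSpectrum.asIdeal (hmaxC ⟨P, inferInstance⟩ hle hIP)
  -- flatness
  let Dq := Localization.AtPrime q'.asIdeal
  let N := LocalizedModule q'.asIdeal.primeCompl D
  haveI : Module.Flat B D := by
    haveI : Module.Flat B Bf := IsLocalization.flat Bf (Submonoid.powers (algebraMap A B f))
    exact Module.Flat.trans B Bf D
  haveI : Module.Flat B Dq := by
    haveI : Module.Flat D Dq := IsLocalization.flat Dq q'.asIdeal.primeCompl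
    exact Module.Flat.trans B D Dq
  haveI : Module.Flat A Dq := by
    let Bq := Localization.AtPrime q.asIdeal
    letI : Algebra Bq Dq := (Localization.localRingHom q.asIdeal q'.asIdeal (algebraMap B D) rfl).toAlgebra
    haveI : IsScalarTower B Bq Dq := IsScalarTower.of_algebraMap_eq fun b => by
      rw [RingHom.algebraMap_toAlgebra, Localization.localRingHom_to_map, ← IsScalarTower.algebraMap_apply]
    haveI : IsScalarTower A Bq Dq := IsScalarTower.of_algebraMap_eq fun a => by
      rw [IsScalarTower.algebraMap_apply A B Bq, ← IsScalarTower.algebraMap_apply B Bq,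
        ← IsScalarTower.algebraMap_apply]
    haveI : Module.Flat Bq Dq := (Module.flat_iff_of_isLocalization Bq q.asIdeal.primeCompl Dq).2 inferInstance
    haveI : Module.Flat A Bq := RingHom.flat_algebraMap_iff.1 (hnaive q hq)
    exact Module.Flat.trans A Bq Dq
  let e : N ≃ₗ[D] Dq :=
    IsLocalizedModule.iso q'.asIdeal.primeCompl (Algebra.linearMap D Dq)
  haveI : Module.Flat A N := Module.Flat.of_linearEquiv (e.restrictScalars A)
  have hfl : Module.Flat C N := by
    refine FlatLocus.flat_of_lTensor_injective q'.asIdeal ?_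
    refine FlatLocus.lTensor_injective_of_fibre p.asIdeal P hP.ge ?_
    have hbot : P.map (Ideal.Quotient.mk (p.asIdeal.map (algebraMap A C))) = ⊥ := by
      rw [Ideal.map_eq_bot_iff_le_ker, Ideal.mk_ker]; exact hP.le
    haveI : Subsingleton (P.map (Ideal.Quotient.mk (p.asIdeal.map (algebraMap A C)))) := by
      rw [hbot]; infer_instance
    exact Function.injective_of_subsingleton _
  haveI := hfl
  show (algebraMap D Dq).comp (algebraMap C D) |>.Flat
  rw [← IsScalarTower.algebraMap_eq, RingHom.flat_algebraMap_iff]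
  exact Module.Flat.of_linearEquiv (e.restrictScalars C).symm

end Groth.Agent.AdicRingLib
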