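import Groth.Agent.AdicRingLib.HeightOne

/-!
# Rig-points: one-dimensional local admissible domains
-/

set_option autoImplicit false

open Polynomial IsLocalRing

namespace Groth.Agent.AdicRingLib.RigPoint

universe u v

theorem exists_dvd_all {C : Type*} [CommRing C] [PreValuationRing C] {γ : Type*} (s : Finset γ)
    (hs : s.Nonempty) (r : γ → C) : ∃ a ∈ s, ∀ b ∈ s, r a ∣ r b := by
  classical
  induction hs using Finset.Nonempty.cons_induction with
  | singleton a => exact ⟨a, Finset.mem_singleton_self a, fun b hb => by rw [Finset.mem_singleton.1 hb]⟩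
  | cons a s ha hs ih =>
    obtain ⟨m, hm, hall⟩ := ih
    obtain ⟨c, hc | hc⟩ := PreValuationRing.cond' (r a) (r m)
    · refine ⟨a, Finset.mem_cons_self a s, fun b hb => ?_⟩
      rcases Finset.mem_cons.1 hb with rfl | hb
      · exact dvd_rfl
      · exact (Dvd.intro c hc).trans (hall b hb)
    · refine ⟨m, Finset.mem_cons.2 (Or.inr hm), fun b hb => ?_⟩
      rcases Finset.mem_cons.1 hb with rfl | hb
      · exact Dvd.intro c hc
      · exact hall b hb

theorem one_le_dim {B : Type*} [CommRing B] [IsDomain B] {s : B} (hs : s ≠ 0) (hsu : ¬ IsUnit s) :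
    ¬ ringKrullDim B ≤ 0 := fun h => by
  haveI : Ring.KrullDimLE 0 B := Ring.krullDimLE_iff.2 h
  letI := (Ring.KrullDimLE.isField_of_isDomain (R := B)).toField
  exact hsu hs.isUnit

theorem dim_one {B : Type*} [CommRing B] [IsDomain B] [Ring.KrullDimLE 1 B] {s : B} (hs : s ≠ 0)
    (hsu : ¬ IsUnit s) : ringKrullDim B = 1 :=
  le_antisymm (Ring.krullDimLE_iff.1 inferInstance)
    (Order.succ_le_of_lt (lt_of_not_ge (one_le_dim hs hsu)))

theorem krullDimLE_one_down {B₀ B : Type*} [CommRing B₀] [CommRing B] [Algebra B₀ B] [IsDomain B₀]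
    [IsDomain B] [Algebra.IsIntegral B₀ B] [Ring.KrullDimLE 1 B]
    (hinj : Function.Injective (algebraMap B₀ B)) : Ring.KrullDimLE 1 B₀ := by
  refine Ring.KrullDimLE.mk₁' fun P hP0 hP => ?_
  obtain ⟨Q, hQ, rfl⟩ := Ideal.exists_ideal_over_prime_of_isIntegral_of_isDomain (S := B) P
    (by rw [(RingHom.injective_iff_ker_eq_bot _).1 hinj]; exact bot_le)
  haveI : Q.IsMaximal := hQ.isMaximal_of_ne_bot fun h => hP0 (by
    rw [h]; exact Ideal.comap_bot_of_injective _ hinj)
  exact Ideal.isMaximal_comap_of_isIntegral_of_isMaximal Q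

theorem krullDimLE_one_up {B₀ B : Type*} [CommRing B₀] [CommRing B] [Algebra B₀ B] [IsDomain B₀]
    [IsDomain B] [Algebra.IsIntegral B₀ B] [Ring.KrullDimLE 1 B₀] : Ring.KrullDimLE 1 B := by
  refine Ring.KrullDimLE.mk₁' fun P hP0 hP => ?_
  exact Ideal.isMaximal_of_isIntegral_of_isMaximal_comap P
    ((hP.comap (algebraMap B₀ B)).isMaximal_of_ne_bot (Ideal.IsIntegral.comap_ne_bot B₀ hP0))

section

variable {R : Type u} [CommRing R] [IsDomain R] [ValuationRing R] [Ring.KrullDimLE 1 R]
  {t : R} (ht : t ≠ 0) [IsAdicComplete (Ideal.span {t}) R]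
  {B : Type u} [CommRing B] [Algebra R B] [IsDomain B]
  (hB : AdicRing.Admissible R (Ideal.span {t}) B)
include ht hB

theorem injective_algebraMap : Function.Injective (algebraMap R B) := by
  refine (injective_iff_map_eq_zero _).2 fun a ha => by_contra fun ha0 => ?_
  obtain ⟨L, d, hd⟩ := (HeightOne.isValBase ht).exists_dvd_pow ha0
  have h0 : algebraMap R B t ^ L = 0 := by rw [← map_pow, hd, map_mul, ha, zero_mul]
  exact HeightOne.algebraMap_t_ne_zero ht hB (eq_zero_of_pow_eq_zero h0)

theorem not_isUnit_algebraMap_t [Module.Finite R B] : ¬ IsUnit (algebraMap R B t) := fun h => by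
  haveI := (faithfulSMul_iff_algebraMap_injective R B).2 (injective_algebraMap ht hB)
  exact HeightOne.notUnit (R := R) (t := t) (isUnit_of_map_unit (algebraMap R B) t h)

theorem valuationRing_integralClosure [IsLocalRing B] (hdim : ringKrullDim B = 1) :
    ValuationRing (integralClosure B (FractionRing B)) := by
  haveI := HeightOne.module_finite ht hB hdim
  haveI : FaithfulSMul R B :=
    (faithfulSMul_iff_algebraMap_injective R B).2 (injective_algebraMap ht hB)
  haveI : FaithfulSMul R (FractionRing B) := by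
    refine (faithfulSMul_iff_algebraMap_injective R _).2 ?_
    rw [IsScalarTower.algebraMap_eq R B (FractionRing B)]
    exact (IsFractionRing.injective B (FractionRing B)).comp (injective_algebraMap ht hB)
  letI := FractionRing.liftAlgebra R (FractionRing B)
  set K := FractionRing R
  set L := FractionRing B
  have hint : ∀ x : L, IsIntegral K x := by
    intro x
    obtain ⟨a, b, -, rfl⟩ := IsFractionRing.div_surjective B x
    have h : ∀ c : B, IsIntegral K (algebraMap B L c) := fun c =>
      (IsIntegral.algebraMap (B := L) (IsIntegral.of_finite R c)).tower_top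
    rw [div_eq_mul_inv]
    exact (h a).mul (h b).inv
  refine { cond' := fun a b => ?_ }
  rcases eq_or_ne (a : L) 0 with ha | ha
  · exact ⟨0, Or.inr (by rw [mul_zero]; exact (Subtype.ext ha).symm)⟩
  rcases eq_or_ne (b : L) 0 with hb | hb
  · exact ⟨0, Or.inl (by rw [mul_zero]; exact (Subtype.ext hb).symm)⟩
  rcases HeightOne.integral_or_inv ht K (hint ((b : L) / a)) (div_ne_zero hb ha) with h | h
  · exact ⟨⟨_, h.tower_top⟩, Or.inl (Subtype.ext (mul_div_cancel₀ (b : L) ha))⟩
  · rw [inv_div] at h
    exact ⟨⟨_, h.tower_top⟩, Or.inr (Subtype.ext (mul_div_cancel₀ (a : L) hb))⟩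

end

end Groth.Agent.AdicRingLib.RigPoint
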