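import Groth.Agent.AdicRingLib.RigPoint
import Mathlib.RingTheory.NoetherNormalization

/-!
# Primes containing `t` in an algebra without proper rig-primes
-/

set_option autoImplicit false

open IsLocalRing AdicRing

namespace Groth.Agent.AdicRingLib.RigPrime

universe u

variable {R : Type u} [CommRing R] [IsDomain R] [ValuationRing R] [Ring.KrullDimLE 1 R]
  {t : R} (ht : t ≠ 0) [IsAdicComplete (Ideal.span {t}) R]

theorem finiteType_quot {B : Type u} [CommRing B] [Algebra R B]
    (hB : TopFiniteType R (Ideal.span {t}) B) :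
    Algebra.FiniteType R (B ⧸ Ideal.span {algebraMap R B t}) := by
  obtain ⟨n, φ, hφ⟩ := hB
  set tB := algebraMap R B t
  let g : MvPolynomial (Fin n) R →ₐ[R] B ⧸ Ideal.span {tB} :=
    (Ideal.Quotient.mkₐ R _).comp (φ.comp ((Algebra.ofId (MvPolynomial (Fin n) R) _).restrictScalars R))
  refine Algebra.FiniteType.of_surjective g fun q => ?_
  obtain ⟨b, rfl⟩ := Ideal.Quotient.mk_surjective q
  obtain ⟨p, rfl⟩ := hφ b
  let J := (Ideal.span {t}).map (MvPolynomial.C : R →+* MvPolynomial (Fin n) R)
  obtain ⟨c, hc⟩ := Ideal.Quotient.mk_surjective (AdicCompletion.evalOneₐ J p)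
  have hmem : p - algebraMap (MvPolynomial (Fin n) R) _ c ∈
      RingHom.ker (AdicCompletion.evalOneₐ J).toRingHom := by
    rw [RingHom.mem_ker, map_sub, sub_eq_zero]
    exact hc.symm.trans ((AdicCompletion.evalOneₐ J).commutes c).symm
  rw [AdicCompletion.ker_evalOneₐ_eq_map J
    (Ideal.FG.map (⟨{t}, by simp⟩ : (Ideal.span {t}).FG) _), Ideal.map_map] at hmem
  refine ⟨c, ?_⟩
  show Ideal.Quotient.mk _ (φ (algebraMap _ _ c)) = Ideal.Quotient.mk _ (φ p)
  rw [eq_comm, Ideal.Quotient.eq, ← map_sub]
  have h2 := Ideal.mem_map_of_mem φ.toRingHom hmem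
  rw [Ideal.map_map, Ideal.map_span, Set.image_singleton] at h2
  rw [show tB = φ (algebraMap R _ t) from (φ.commutes t).symm]
  exact h2

include ht

/-- A nonzero restricted power series is a scalar multiple of one that is nonzero modulo the
maximal ideal. -/
theorem exists_content (d : ℕ)
    (red : RPow R (Ideal.span {t}) d →ₐ[R] MvPolynomial (Fin d) (ResidueField R))
    (hred : ∀ c, red (algebraMap _ _ c) = MvPolynomial.map (residue R) c)
    {f : RPow R (Ideal.span {t}) d} (hf : f ≠ 0) :
    ∃ (a : R) (f' : RPow R (Ideal.span {t}) d), a ≠ 0 ∧ f = a • f' ∧ red f' ≠ 0 := by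
  classical
  set J := (Ideal.span {t}).map (MvPolynomial.C : R →+* MvPolynomial (Fin d) R) with hJdef
  have hfg : J.FG := Ideal.FG.map (⟨{t}, by simp⟩ : (Ideal.span {t}).FG) _
  have hJ : J = Ideal.span {MvPolynomial.C t} := by
    rw [hJdef, Ideal.map_span, Set.image_singleton]
  have hJk : ∀ k : ℕ, J ^ k = Ideal.span {MvPolynomial.C (t ^ k)} := fun k => by
    rw [hJ, Ideal.span_singleton_pow, map_pow]
  obtain ⟨k, hk⟩ : ∃ k, f.val k ≠ 0 := by
    by_contra! h
    exact hf (AdicCompletion.ext fun k => by rw [h k]; rfl)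
  obtain ⟨c, hc⟩ := Submodule.Quotient.mk_surjective _ (f.val k)
  have hmem : f - algebraMap (MvPolynomial (Fin d) R) _ c ∈
      J ^ k • (⊤ : Submodule (MvPolynomial (Fin d) R) (AdicCompletion J (MvPolynomial (Fin d) R))) := by
    rw [AdicCompletion.pow_smul_top_eq_ker_eval hfg, LinearMap.mem_ker, map_sub, sub_eq_zero]
    exact hc.symm
  obtain ⟨h, hh⟩ : ∃ h : RPow R (Ideal.span {t}) d,
      f = algebraMap _ _ c + (t ^ k) • h := by
    rw [Ideal.smul_top_eq_map, Submodule.restrictScalars_mem, hJk,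
      Ideal.map_span, Set.image_singleton, Ideal.mem_span_singleton'] at hmem
    obtain ⟨h, hh⟩ := hmem
    refine ⟨h, ?_⟩
    rw [Algebra.smul_def, IsScalarTower.algebraMap_apply R (MvPolynomial (Fin d) R)
      (RPow R (Ideal.span {t}) d), MvPolynomial.algebraMap_eq, mul_comm]
    exact ((eq_sub_iff_add_eq.1 hh).symm.trans (add_comm _ _))
  have hc0 : ∃ m, ¬ t ^ k ∣ c.coeff m := by
    by_contra! hall
    obtain ⟨c', rfl⟩ := MvPolynomial.C_dvd_iff_dvd_coeff (t ^ k) c |>.2 hall
    refine hk ?_
    rw [← hc, Submodule.Quotient.mk_eq_zero, smul_eq_mul, Ideal.mul_top]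
    show _ ∈ J ^ k
    rw [hJk, Ideal.mem_span_singleton]
    exact dvd_mul_right _ _
  obtain ⟨m₀, hm₀⟩ := hc0
  have hm₀' : m₀ ∈ c.support := MvPolynomial.mem_support_iff.2 fun h0 => hm₀ (h0 ▸ dvd_zero _)
  obtain ⟨m, hm, hmin⟩ := Sat.exists_dvd_all c.support ⟨m₀, hm₀'⟩ fun n => c.coeff n
  have hdiv : ∀ n, c.coeff m ∣ c.coeff n := fun n => by
    by_cases hn : n ∈ c.support
    · exact hmin n hn
    · rw [MvPolynomial.notMem_support_iff.1 hn]; exact dvd_zero _
  have ha0 : c.coeff m ≠ 0 := MvPolynomial.mem_support_iff.1 hm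
  have hat : ¬ t ^ k ∣ c.coeff m := fun h => hm₀ (h.trans (hdiv m₀))
  obtain ⟨b, hb | hb⟩ := PreValuationRing.cond' (c.coeff m) (t ^ k)
  swap
  · exact absurd (Dvd.intro b hb) hat
  have hbm : b ∈ maximalIdeal R := fun hu => hat (by
    rw [← hb]; exact hu.mul_right_dvd.2 dvd_rfl)
  obtain ⟨c', hc'⟩ := MvPolynomial.C_dvd_iff_dvd_coeff (c.coeff m) c |>.2 hdiv
  refine ⟨c.coeff m, algebraMap _ _ c' + b • h, ha0, ?_, ?_⟩
  · rw [smul_add, smul_smul, hb, hh]
    congr 1
    rw [Algebra.smul_def (c.coeff m),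
      IsScalarTower.algebraMap_apply R (MvPolynomial (Fin d) R) (RPow R (Ideal.span {t}) d),
      ← map_mul, MvPolynomial.algebraMap_eq, ← hc']
  · rw [map_add, map_smul, hred, Algebra.smul_def,
      IsScalarTower.algebraMap_apply R (ResidueField R) (MvPolynomial (Fin d) (ResidueField R)),
      ResidueField.algebraMap_eq, (residue_eq_zero_iff b).2 hbm, map_zero, zero_mul, add_zero]
    intro h0
    have h1 := congrArg (fun p => MvPolynomial.coeff m p) hc'
    simp only [MvPolynomial.coeff_C_mul] at h1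
    have h2 : c'.coeff m = 1 := mul_left_cancel₀ ha0 (h1.symm.trans (mul_one _).symm)
    have h3 := congrArg (fun p => MvPolynomial.coeff m p) h0
    simp [MvPolynomial.coeff_map, h2] at h3

theorem isMaximal_of_mem {B : Type u} [CommRing B] [Algebra R B] [IsDomain B]
    (hB : TopFiniteType R (Ideal.span {t}) B) (htB : algebraMap R B t ≠ 0)
    (hfield : ∀ x : B, x ≠ 0 → ∃ L : ℕ, x ∣ algebraMap R B t ^ L)
    (P : Ideal B) [hP : P.IsPrime] (hPt : algebraMap R B t ∈ P) : P.IsMaximal := by
  classical
  set I := Ideal.span {t}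
  set tB := algebraMap R B t
  let mB := (maximalIdeal R).map (algebraMap R B)
  have hmP : mB ≤ P := Ideal.map_le_iff_le_comap.2 fun a ha => by
    obtain ⟨L, e, he⟩ := HeightOne.exists_pow_dvd_of_mem ht ha
    refine hP.mem_of_pow_mem L ?_
    rw [← map_pow, he, map_mul]
    exact P.mul_mem_right _ hPt
  haveI : Nontrivial (B ⧸ mB) := Ideal.Quotient.nontrivial_iff.2 fun h =>
    hP.ne_top (top_le_iff.1 (h ▸ hmP))
  letI : Algebra (ResidueField R) (B ⧸ mB) :=
    (Ideal.Quotient.lift (maximalIdeal R) (algebraMap R (B ⧸ mB)) fun a ha => by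
      rw [IsScalarTower.algebraMap_apply R B (B ⧸ mB), Ideal.Quotient.algebraMap_eq]
      exact Ideal.Quotient.eq_zero_iff_mem.2 (Ideal.mem_map_of_mem _ ha)).toAlgebra
  haveI : IsScalarTower R (ResidueField R) (B ⧸ mB) := IsScalarTower.of_algebraMap_eq fun r => rfl
  haveI hft := finiteType_quot hB
  have htmB : Ideal.span {tB} ≤ mB := by
    rw [Ideal.span_le, Set.singleton_subset_iff]
    exact Ideal.mem_map_of_mem _ ((mem_maximalIdeal _).2 (HeightOne.notUnit (R := R) (t := t)))
  haveI : Algebra.FiniteType R (B ⧸ mB) := Algebra.FiniteType.of_surjective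
    (Ideal.Quotient.factorₐ R htmB) (Ideal.Quotient.factor_surjective htmB)
  haveI : Algebra.FiniteType (ResidueField R) (B ⧸ mB) :=
    Algebra.FiniteType.of_restrictScalars_finiteType R (ResidueField R) (B ⧸ mB)
  obtain ⟨d, g, hginj, hgfin⟩ :=
    exists_finite_inj_algHom_of_fg (ResidueField R) (B ⧸ mB)
  rcases Nat.eq_zero_or_pos d with rfl | hd
  · -- the special fibre is finite
    haveI : Module.Finite (ResidueField R) (B ⧸ mB) := RingHom.finite_algebraMap.1 (by
      rw [show algebraMap (ResidueField R) (B ⧸ mB) = g.toRingHom.comp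
        (MvPolynomial.isEmptyAlgEquiv (ResidueField R) (Fin 0)).symm.toRingEquiv.toRingHom from
          RingHom.ext fun r => by
            simp only [RingHom.coe_comp, Function.comp_apply]
            exact (g.commutes r).symm.trans (congrArg g
              ((MvPolynomial.isEmptyAlgEquiv (ResidueField R) (Fin 0)).symm.commutes r).symm)]
      exact RingHom.Finite.comp hgfin (RingHom.Finite.of_surjective
        (MvPolynomial.isEmptyAlgEquiv (ResidueField R) (Fin 0)).symm.toRingEquiv.toRingHom
        (MvPolynomial.isEmptyAlgEquiv (ResidueField R) (Fin 0)).symm.surjective))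
    haveI := IsArtinianRing.of_finite (ResidueField R) (B ⧸ mB)
    have hPq : (P.map (Ideal.Quotient.mk mB)).IsPrime :=
      Ideal.map_isPrime_of_surjective Ideal.Quotient.mk_surjective (by rwa [Ideal.mk_ker])
    have hmax := Ideal.comap_isMaximal_of_surjective (Ideal.Quotient.mk mB)
      Ideal.Quotient.mk_surjective (K := P.map (Ideal.Quotient.mk mB))
      (H := IsArtinianRing.isMaximal_of_isPrime _)
    rwa [Ideal.comap_map_of_surjective _ Ideal.Quotient.mk_surjective,
      ← RingHom.ker_eq_comap_bot, Ideal.mk_ker, sup_eq_left.2 hmP] at hmax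
  exfalso
  -- the lift of the normalisation
  choose x hx using fun i : Fin d => Ideal.Quotient.mk_surjective (g (MvPolynomial.X i))
  have hI : I.FG := ⟨{t}, by simp [I]⟩
  have hcomplete : IsAdicComplete I B := isAdicComplete_tft (HeightOne.isBase ht) hB B
  haveI : IsAdicComplete (I.map (algebraMap R B)) B := (IsAdicComplete.map_algebraMap_iff I B).2 hcomplete
  obtain ⟨ψ, hψ⟩ := exists_algHom_completion (I.map (MvPolynomial.C : R →+* MvPolynomial (Fin d) R))
    (I.map (algebraMap R B)) (MvPolynomial.aeval x) (by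
      rw [Ideal.map_le_iff_le_comap, Ideal.map_le_iff_le_comap]
      intro a ha
      rw [Ideal.mem_comap, Ideal.mem_comap, MvPolynomial.aeval_C]
      exact Ideal.mem_map_of_mem _ ha)
  obtain ⟨red, hred⟩ := exists_algHom_completion (I.map (MvPolynomial.C : R →+* MvPolynomial (Fin d) R))
    (⊥ : Ideal (MvPolynomial (Fin d) (ResidueField R)))
    (MvPolynomial.mapAlgHom (Algebra.ofId R (ResidueField R))) (by
      rw [Ideal.map_le_iff_le_comap, Ideal.map_le_iff_le_comap]
      intro a ha
      obtain ⟨e, rfl⟩ := Ideal.mem_span_singleton.1 ha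
      rw [Ideal.mem_comap, Ideal.mem_comap, Ideal.mem_bot, map_mul, map_mul]
      refine mul_eq_zero_of_left ?_ _
      show MvPolynomial.map (algebraMap R (ResidueField R)) (MvPolynomial.C t) = 0
      rw [MvPolynomial.map_C, ResidueField.algebraMap_eq,
        (residue_eq_zero_iff t).2 ((mem_maximalIdeal _).2 (HeightOne.notUnit (R := R) (t := t))),
        map_zero])
  have hred' : ∀ c, red (algebraMap _ _ c) = MvPolynomial.map (residue R) c := fun c => hred c
  have hcomm : (g.restrictScalars R).comp red = (Ideal.Quotient.mkₐ R mB).comp ψ := by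
    refine algHom_completion_ext (K := (⊥ : Ideal (B ⧸ mB))) (hI.map _) (fun c hc => ?_) fun c => ?_
    · rw [Ideal.mem_bot]
      show g (red (algebraMap _ _ c)) = 0
      rw [hred, show MvPolynomial.mapAlgHom (Algebra.ofId R (ResidueField R)) c = 0 from ?_, map_zero]
      rw [Ideal.map_span, Set.image_singleton, Ideal.mem_span_singleton] at hc
      obtain ⟨e, rfl⟩ := hc
      rw [map_mul]
      refine mul_eq_zero_of_left ?_ _
      show MvPolynomial.map (algebraMap R (ResidueField R)) (MvPolynomial.C t) = 0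
      rw [MvPolynomial.map_C, ResidueField.algebraMap_eq,
        (residue_eq_zero_iff t).2 ((mem_maximalIdeal _).2 (HeightOne.notUnit (R := R) (t := t))),
        map_zero]
    · show g (red (algebraMap _ _ c)) = Ideal.Quotient.mk mB (ψ (algebraMap _ _ c))
      rw [hred, hψ]
      have : (g.restrictScalars R).comp (MvPolynomial.mapAlgHom (Algebra.ofId R (ResidueField R))) =
          (Ideal.Quotient.mkₐ R mB).comp (MvPolynomial.aeval x) := by
        refine MvPolynomial.algHom_ext fun i => ?_
        show g (MvPolynomial.map _ (MvPolynomial.X i)) = Ideal.Quotient.mk mB (MvPolynomial.aeval x (MvPolynomial.X i))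
        rw [MvPolynomial.map_X, MvPolynomial.aeval_X, hx]
      exact congrArg (fun F : MvPolynomial (Fin d) R →ₐ[R] B ⧸ mB => F c) this
  have hredsurj : Function.Surjective red := fun q => by
    obtain ⟨c, hc⟩ := MvPolynomial.map_surjective (residue R) residue_surjective q
    exact ⟨algebraMap _ _ c, (hred' c).trans hc⟩
  -- `B` is finite over the restricted power series
  letI : Algebra (RPow R I d) B := ψ.toRingHom.toAlgebra
  haveI : IsScalarTower R (RPow R I d) B := IsScalarTower.of_algebraMap_eq fun r => (ψ.commutes r).symm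
  let Q := B ⧸ Ideal.span {tB}
  haveI : Algebra.FiniteType R Q := hft
  haveI : Algebra.FiniteType (RPow R I d) Q :=
    Algebra.FiniteType.of_restrictScalars_finiteType R (RPow R I d) Q
  haveI : Algebra.IsIntegral (RPow R I d) Q := ⟨fun q => by
    obtain ⟨b, rfl⟩ := Ideal.Quotient.mk_surjective q
    obtain ⟨p, hpm, hp⟩ := RingHom.Finite.to_isIntegral hgfin (Ideal.Quotient.mk mB b)
    obtain ⟨F, hF, -, hFm⟩ := Polynomial.lifts_and_degree_eq_and_monic
      ((Polynomial.lifts_iff_coeff_lifts (f := red.toRingHom) p).2 fun i => hredsurj _) hpm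
    have h0 : F.eval₂ (algebraMap (RPow R I d) B) b ∈ mB := by
      rw [← Ideal.Quotient.eq_zero_iff_mem, Polynomial.hom_eval₂]
      rw [← hF, Polynomial.eval₂_map] at hp
      rw [← hp]
      congr 1
      exact (congrArg (fun F : RPow R I d →ₐ[R] B ⧸ mB => F.toRingHom) hcomm).symm
    obtain ⟨N, hN⟩ : ∃ N, (F.eval₂ (algebraMap (RPow R I d) B) b) ^ N ∈ Ideal.span {tB} := by
      refine (show mB ≤ (Ideal.span {tB}).radical from Ideal.map_le_iff_le_comap.2 fun a ha => ?_) h0
      obtain ⟨L, e, he⟩ := HeightOne.exists_pow_dvd_of_mem ht ha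
      exact ⟨L, Ideal.mem_span_singleton.2 ⟨algebraMap R B e, by rw [← map_pow, he, map_mul]⟩⟩
    refine ⟨F ^ N, hFm.pow N, ?_⟩
    rw [Polynomial.eval₂_pow, show algebraMap (RPow R I d) Q =
      (Ideal.Quotient.mk _).comp (algebraMap (RPow R I d) B) from rfl, ← Polynomial.hom_eval₂,
      ← map_pow, Ideal.Quotient.eq_zero_iff_mem]
    exact hN⟩
  haveI : Module.Finite (RPow R I d) Q := Algebra.IsIntegral.finite
  let IP := I.map (algebraMap R (RPow R I d))
  haveI : IsAdicComplete IP (RPow R I d) := rpow_isAdicComplete hI d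
  haveI : IsHausdorff IP B := ((IsAdicComplete.map_algebraMap_iff I B).2 hcomplete).toIsHausdorff
  haveI : Module.Finite (RPow R I d) (B ⧸ (IP • ⊤ : Submodule (RPow R I d) B)) := by
    have he : (IP • ⊤ : Submodule (RPow R I d) B) = (Ideal.span {tB}).restrictScalars _ := by
      rw [Ideal.smul_top_eq_map, Ideal.map_map, ← IsScalarTower.algebraMap_eq]
      refine congrArg (fun K : Ideal B => K.restrictScalars (RPow R I d)) ?_
      exact (Ideal.map_span (algebraMap R B) {t}).trans (by rw [Set.image_singleton])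
    exact Module.Finite.equiv ((Submodule.Quotient.restrictScalarsEquiv _ (Ideal.span {tB})).symm.trans
      (Submodule.quotEquivOfEq _ _ he.symm))
  haveI : Module.Finite (RPow R I d) B :=
    Groth.Agent.AdicLemmas.module_finite_of_quotient_finite IP B inferInstance
  -- the first coordinate
  let i₀ : Fin d := ⟨0, hd⟩
  let X : RPow R I d := algebraMap (MvPolynomial (Fin d) R) _ (MvPolynomial.X i₀)
  have hψX : ψ X = x i₀ := (hψ _).trans (MvPolynomial.aeval_X _ _)
  have hx0 : x i₀ ≠ 0 := fun h => MvPolynomial.X_ne_zero (R := ResidueField R) i₀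
    (hginj (by rw [← hx i₀, h, map_zero, map_zero]))
  obtain ⟨L, y, hy⟩ := hfield _ hx0
  obtain ⟨p, hpm, hp⟩ := Algebra.IsIntegral.isIntegral (R := RPow R I d) y
  -- multiply the equation by a power of `X`
  set T : RPow R I d := algebraMap R _ (t ^ L)
  set F := (p.scaleRoots X).eval T
  have hker : ψ F = 0 := by
    have h1 : (p.scaleRoots X).eval₂ (algebraMap (RPow R I d) B) (algebraMap (RPow R I d) B X * y) = 0 :=
      Polynomial.scaleRoots_eval₂_eq_zero _ hp
    show algebraMap (RPow R I d) B F = 0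
    rw [← Polynomial.eval₂_at_apply]
    convert h1 using 2
    show ψ T = ψ X * y
    rw [hψX, ← hy, ψ.commutes, map_pow]
  -- but it is nonzero
  obtain ⟨ev, hev⟩ := exists_algHom_completion (I.map (MvPolynomial.C : R →+* MvPolynomial (Fin d) R))
    I (MvPolynomial.aeval (fun _ => (0 : R))) (by
      rw [Ideal.map_le_iff_le_comap, Ideal.map_le_iff_le_comap]
      intro a ha
      simpa using ha)
  have hF0 : F ≠ 0 := fun h => by
    have h1 : ev F = (t ^ L) ^ p.natDegree := by
      show ev.toRingHom _ = _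
      rw [← Polynomial.eval_map_apply, Polynomial.map_scaleRoots _ _ _
        (by rw [hpm.leadingCoeff, map_one]; exact one_ne_zero)]
      rw [show ev.toRingHom X = 0 from (hev _).trans (MvPolynomial.aeval_X _ _),
        Polynomial.scaleRoots_zero]
      rw [(hpm.map _).leadingCoeff, one_smul]
      simp [T, hpm.natDegree_map]
    rw [h, map_zero] at h1
    exact pow_ne_zero _ (pow_ne_zero _ ht) h1.symm
  obtain ⟨a, f', ha, hf, hf'⟩ := exists_content ht d red hred' hF0
  rw [hf, map_smul, Algebra.smul_def, mul_eq_zero] at hker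
  refine hker.elim (fun h => ?_) fun h => hf' (hginj ?_)
  · obtain ⟨M, e, he⟩ := (HeightOne.isValBase ht).exists_dvd_pow ha
    refine htB (eq_zero_of_pow_eq_zero (n := M) ?_)
    rw [← map_pow, he, map_mul, h, zero_mul]
  · rw [map_zero]
    have := congrArg (fun G : RPow R I d →ₐ[R] B ⧸ mB => G f') hcomm
    exact this.trans (by show Ideal.Quotient.mk mB (ψ f') = 0; rw [h, map_zero])

end Groth.Agent.AdicRingLib.RigPrime
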