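import Mathlib
import Groth.Agent.AdicRingLib.RigBaseChange

/-!
# Completed tensor products and rig-flatness
-/

set_option autoImplicit false
set_option linter.style.haveILetI false

universe u

open scoped TensorProduct

namespace Groth.Agent.AdicRingLib

variable {A : Type u} [CommRing A] (I : Ideal A) (B : Type u) [CommRing B] [Algebra A B] (C : Type u) [CommRing C]
  [Algebra A C]

/-- The completed tensor product. -/
abbrev CT : Type u := AdicCompletion ((I.map (algebraMap A C)).map (algebraMap C (C ⊗[A] B))) (C ⊗[A] B)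

/-- The second map into the completed tensor product. -/
noncomputable def inr : B →+* CT I B C :=
  (algebraMap (C ⊗[A] B) (CT I B C)).comp Algebra.TensorProduct.includeRight.toRingHom

theorem inr_comm : (inr I B C).comp (algebraMap A B) = (algebraMap C (CT I B C)).comp (algebraMap A C) := by
  refine RingHom.ext fun a => ?_
  show algebraMap (C ⊗[A] B) (CT I B C) (Algebra.TensorProduct.includeRight (R := A) (A := C) (algebraMap A B a)) = _
  rw [AlgHom.commutes, RingHom.comp_apply, IsScalarTower.algebraMap_apply C (C ⊗[A] B) (CT I B C),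
    ← IsScalarTower.algebraMap_apply A C (C ⊗[A] B)]

theorem fg_ideal [IsNoetherianRing A] : ((I.map (algebraMap A C)).map (algebraMap C (C ⊗[A] B))).FG :=
  Ideal.FG.map (Ideal.FG.map (IsNoetherian.noetherian I) _) _

theorem finiteType_tensor_quot (hft : Algebra.FiniteType A (B ⧸ I.map (algebraMap A B)))
    (hftC : Algebra.FiniteType A (C ⧸ I.map (algebraMap A C))) :
    Algebra.FiniteType A ((C ⊗[A] B) ⧸ (I.map (algebraMap A C)).map (algebraMap C (C ⊗[A] B))) := by
  let J := (I.map (algebraMap A C)).map (algebraMap C (C ⊗[A] B))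
  have hJ : J = I.map (algebraMap A (C ⊗[A] B)) :=
    (Ideal.map_map _ _).trans (congrArg (fun r => I.map r) (IsScalarTower.algebraMap_eq A C (C ⊗[A] B)).symm)
  let qC : (C ⧸ I.map (algebraMap A C)) →ₐ[A] (C ⊗[A] B) ⧸ J :=
    Ideal.quotientMapₐ J Algebra.TensorProduct.includeLeft (by
      rw [hJ]
      refine Ideal.map_le_iff_le_comap.2 fun a ha => ?_
      rw [Ideal.mem_comap, Ideal.mem_comap, AlgHom.commutes]
      exact Ideal.mem_map_of_mem _ ha)
  let qB : (B ⧸ I.map (algebraMap A B)) →ₐ[A] (C ⊗[A] B) ⧸ J :=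
    Ideal.quotientMapₐ J Algebra.TensorProduct.includeRight (by
      rw [hJ]
      refine Ideal.map_le_iff_le_comap.2 fun a ha => ?_
      rw [Ideal.mem_comap, Ideal.mem_comap, AlgHom.commutes]
      exact Ideal.mem_map_of_mem _ ha)
  let l := Algebra.TensorProduct.lift qC qB fun x y => Commute.all _ _
  haveI := hft
  haveI := hftC
  haveI : Algebra.FiniteType A ((C ⧸ I.map (algebraMap A C)) ⊗[A] (B ⧸ I.map (algebraMap A B))) :=
    Algebra.FiniteType.trans (S := C ⧸ I.map (algebraMap A C)) hftC inferInstance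
  refine Algebra.FiniteType.of_surjective l fun y => ?_
  obtain ⟨y, rfl⟩ := Ideal.Quotient.mk_surjective y
  induction y using TensorProduct.induction_on with
  | zero => exact ⟨0, by simp⟩
  | tmul c b =>
    refine ⟨Ideal.Quotient.mk _ c ⊗ₜ Ideal.Quotient.mk _ b, ?_⟩
    rw [Algebra.TensorProduct.lift_tmul]
    show Ideal.Quotient.mk J (c ⊗ₜ (1 : B)) * Ideal.Quotient.mk J ((1 : C) ⊗ₜ b) = _
    rw [← map_mul, Algebra.TensorProduct.tmul_mul_tmul, mul_one, one_mul]
  | add x y hx hy =>
    obtain ⟨a, ha⟩ := hx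
    obtain ⟨b, hb⟩ := hy
    exact ⟨a + b, by rw [map_add, map_add, ha, hb]⟩

theorem isNoetherianRing_CT [IsNoetherianRing A] (hft : Algebra.FiniteType A (B ⧸ I.map (algebraMap A B)))
    (hftC : Algebra.FiniteType A (C ⧸ I.map (algebraMap A C))) : IsNoetherianRing (CT I B C) := by
  haveI := finiteType_tensor_quot I B C hft hftC
  haveI : IsNoetherianRing ((C ⊗[A] B) ⧸ (I.map (algebraMap A C)).map (algebraMap C (C ⊗[A] B))) :=
    Algebra.FiniteType.isNoetherianRing A _
  exact RegLocal.isNoetherianRing_adicCompletion _ (fg_ideal I B C)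

theorem map_eq_CT : (I.map (algebraMap A C)).map (algebraMap C (CT I B C)) =
    ((I.map (algebraMap A C)).map (algebraMap C (C ⊗[A] B))).map (algebraMap (C ⊗[A] B) (CT I B C)) := by
  rw [Ideal.map_map (algebraMap C (C ⊗[A] B)), ← IsScalarTower.algebraMap_eq]

theorem isAdicComplete_CT [IsNoetherianRing A] :
    IsAdicComplete ((I.map (algebraMap A C)).map (algebraMap C (CT I B C))) (CT I B C) := by
  rw [map_eq_CT]
  exact AdicCompletion.isAdicComplete_self _ (fg_ideal I B C)

theorem finiteType_CT [IsNoetherianRing A] (hft : Algebra.FiniteType A (B ⧸ I.map (algebraMap A B)))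
    (hftC : Algebra.FiniteType A (C ⧸ I.map (algebraMap A C))) :
    ((Ideal.Quotient.mk ((I.map (algebraMap A C)).map (algebraMap C (CT I B C)))).comp
      ((algebraMap C (CT I B C)).comp (algebraMap A C))).FiniteType := by
  let J := (I.map (algebraMap A C)).map (algebraMap C (C ⊗[A] B))
  let K := (I.map (algebraMap A C)).map (algebraMap C (CT I B C))
  have hK : J.map (algebraMap (C ⊗[A] B) (CT I B C)) = K := (map_eq_CT I B C).symm
  let k : (C ⊗[A] B) ⧸ J →+* CT I B C ⧸ K :=
    Ideal.quotientMap K (algebraMap (C ⊗[A] B) (CT I B C)) (Ideal.map_le_iff_le_comap.1 hK.le)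
  have hk : Function.Surjective k := by
    intro y
    obtain ⟨y, rfl⟩ := Ideal.Quotient.mk_surjective y
    obtain ⟨c, hc⟩ := Submodule.Quotient.mk_surjective _ (AdicCompletion.eval J (C ⊗[A] B) 1 y)
    refine ⟨Ideal.Quotient.mk J c, ?_⟩
    show Ideal.Quotient.mk K (algebraMap (C ⊗[A] B) (CT I B C) c) = _
    have hmem : y - algebraMap (C ⊗[A] B) (CT I B C) c ∈ J ^ 1 • (⊤ : Submodule (C ⊗[A] B) (CT I B C)) := by
      rw [AdicCompletion.pow_smul_top_eq_ker_eval (fg_ideal I B C), LinearMap.mem_ker, map_sub, sub_eq_zero]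
      exact hc.symm
    rw [pow_one, Ideal.smul_top_eq_map, Submodule.restrictScalars_mem, hK] at hmem
    rw [eq_comm, Ideal.Quotient.eq]
    exact hmem
  have h1 : ((Ideal.Quotient.mk J).comp (algebraMap A (C ⊗[A] B))).FiniteType :=
    finiteType_mk (finiteType_tensor_quot I B C hft hftC)
  have h2 := (RingHom.FiniteType.of_surjective k hk).comp h1
  convert! h2 using 1

variable {I B C}

theorem exists_hom_CT [IsNoetherianRing A] {T : Type u} [CommRing T] (a : C →+* T) (b : B →+* T)
    (h : a.comp (algebraMap A C) = b.comp (algebraMap A B)) [IsAdicComplete (I.map (a.comp (algebraMap A C))) T] :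
    ∃ g : CT I B C →+* T, g.comp (algebraMap C (CT I B C)) = a ∧ g.comp (inr I B C) = b := by
  letI : Algebra A T := (a.comp (algebraMap A C)).toAlgebra
  let a' : C →ₐ[A] T := { a with commutes' := fun x => rfl }
  let b' : B →ₐ[A] T := { b with commutes' := fun x => (RingHom.congr_fun h x).symm }
  let l := Algebra.TensorProduct.lift a' b' fun x y => Commute.all _ _
  obtain ⟨G, hG⟩ := exists_algHom_completion ((I.map (algebraMap A C)).map (algebraMap C (C ⊗[A] B)))
    (I.map (a.comp (algebraMap A C))) l (by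
      rw [Ideal.map_le_iff_le_comap, Ideal.map_le_iff_le_comap, Ideal.map_le_iff_le_comap]
      intro x hx
      rw [Ideal.mem_comap, Ideal.mem_comap, Ideal.mem_comap, ← IsScalarTower.algebraMap_apply A C (C ⊗[A] B),
        AlgHom.commutes]
      exact Ideal.mem_map_of_mem _ hx)
  refine ⟨G.toRingHom, RingHom.ext fun x => ?_, RingHom.ext fun x => ?_⟩
  · show G (algebraMap C (CT I B C) x) = a x
    rw [IsScalarTower.algebraMap_apply C (C ⊗[A] B) (CT I B C), hG, Algebra.TensorProduct.algebraMap_apply,
      Algebra.TensorProduct.lift_tmul, map_one, mul_one]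
    rfl
  · show G (algebraMap (C ⊗[A] B) (CT I B C) ((1 : C) ⊗ₜ x)) = b x
    rw [hG, Algebra.TensorProduct.lift_tmul, map_one, one_mul]
    rfl

theorem hom_ext_CT [IsNoetherianRing A] {T : Type u} [CommRing T] {a : C →+* T}
    [IsAdicComplete (I.map (a.comp (algebraMap A C))) T] {g g' : CT I B C →+* T}
    (ha : g.comp (algebraMap C (CT I B C)) = a) (ha' : g'.comp (algebraMap C (CT I B C)) = a)
    (hb : g.comp (inr I B C) = g'.comp (inr I B C)) : g = g' := by
  letI : Algebra C T := a.toAlgebra
  let G : CT I B C →ₐ[C] T := { g with commutes' := RingHom.congr_fun ha }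
  let G' : CT I B C →ₐ[C] T := { g' with commutes' := RingHom.congr_fun ha' }
  have hpure : ∀ c b, g (algebraMap (C ⊗[A] B) (CT I B C) (c ⊗ₜ b)) = g' (algebraMap (C ⊗[A] B) (CT I B C) (c ⊗ₜ b)) := by
    intro c b
    have hcb : c ⊗ₜ[A] b = algebraMap C (C ⊗[A] B) c * ((1 : C) ⊗ₜ b) := by
      rw [Algebra.TensorProduct.algebraMap_apply, Algebra.TensorProduct.tmul_mul_tmul, one_mul]
      simp
    rw [hcb, map_mul, map_mul, map_mul, ← IsScalarTower.algebraMap_apply C (C ⊗[A] B) (CT I B C)]
    exact congrArg₂ (· * ·) ((RingHom.congr_fun ha c).trans (RingHom.congr_fun ha' c).symm) (RingHom.congr_fun hb b)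
  have hall : ∀ z, G (algebraMap (C ⊗[A] B) (CT I B C) z) = G' (algebraMap (C ⊗[A] B) (CT I B C) z) := by
    intro z
    induction z using TensorProduct.induction_on with
    | zero => simp
    | tmul c b => exact hpure c b
    | add x y hx hy => rw [map_add, map_add, map_add, hx, hy]
  have hK : ∀ z ∈ (I.map (algebraMap A C)).map (algebraMap C (C ⊗[A] B)),
      G (algebraMap (C ⊗[A] B) (CT I B C) z) ∈ I.map (a.comp (algebraMap A C)) := by
    intro z hz
    have h1 := Ideal.mem_map_of_mem (g.comp (algebraMap (C ⊗[A] B) (CT I B C))) hz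
    rw [Ideal.map_map, RingHom.comp_assoc, ← IsScalarTower.algebraMap_eq, ha, Ideal.map_map] at h1
    exact h1
  have := algHom_completion_ext (fg_ideal I B C) hK hall
  exact RingHom.ext fun x => AlgHom.congr_fun this x

theorem map_comp_eq {R S T : Type u} [CommRing R] [CommRing S] [CommRing T] {J : Ideal R} {f : R →+* S}
    {g : S →+* T} {k : R →+* T} (h : g.comp f = k) : (J.map f).map g = J.map k := by
  subst h
  exact Ideal.map_map f g

theorem isAdicComplete_comp {R S T : Type u} [CommRing R] [CommRing S] [CommRing T] {J : Ideal R} {f : R →+* S}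
    {g : S →+* T} {k : R →+* T} (h : g.comp f = k) (hc : IsAdicComplete ((J.map f).map g) T) :
    IsAdicComplete (J.map k) T := map_comp_eq (J := J) h ▸ hc

theorem isAdicComplete_comp' {R S T : Type u} [CommRing R] [CommRing S] [CommRing T] {J : Ideal R} {f : R →+* S}
    {g : S →+* T} {k : R →+* T} (h : g.comp f = k) (hc : IsAdicComplete (J.map k) T) :
    IsAdicComplete ((J.map f).map g) T := (map_comp_eq (J := J) h).symm ▸ hc

theorem unit_dvd {R X : Type u} [CommRing R] [CommRing X] (φ : R →+* X) {a b : R} (h : a ∣ b) (hb : IsUnit (φ b)) :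
    IsUnit (φ a) := isUnit_of_dvd_unit (map_dvd φ h) hb

/-- Rig-flatness is stable under completed base change. -/
theorem rigFlat_baseChange [IsNoetherianRing A] [IsNoetherianRing B]
    (hft : Algebra.FiniteType A (B ⧸ I.map (algebraMap A B))) (hAB : RigFlat A I B) [IsNoetherianRing C]
    (hftC : Algebra.FiniteType A (C ⧸ I.map (algebraMap A C))) :
    RigFlat C (I.map (algebraMap A C)) (CT I B C) := by
  classical
  intro h ψ hψ q hq
  let IC := I.map (algebraMap A C)
  let IB := I.map (algebraMap A B)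
  let D := CT I B C
  let K := IC.map (algebraMap C D)
  let jA : A →+* D := (algebraMap C D).comp (algebraMap A C)
  haveI : IsNoetherianRing D := isNoetherianRing_CT I B C hft hftC
  haveI : IsAdicComplete K D := isAdicComplete_CT I B C
  have hjA : I.map jA = K := (Ideal.map_map _ _).symm
  let hD := algebraMap C D h
  let Dh := CL K hD
  let φD : A →+* Dh := (algebraMap D Dh).comp jA
  have hφD : I.map φD = K.map (algebraMap D Dh) := (map_comp_eq (J := I) (k := φD) rfl).symm.trans (congrArg (fun J' => J'.map (algebraMap D Dh)) hjA)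
  haveI : IsAdicComplete (I.map φD) Dh := hφD ▸ isAdicComplete_CL K hD
  have hftD : ((Ideal.Quotient.mk (I.map φD)).comp φD).FiniteType :=
    finiteType_trans I jA (algebraMap D Dh) hjA hφD.symm (finiteType_CT I B C hft hftC)
      (hφD ▸ finiteType_mk (finiteType_CL K hD))
  have hq' : RC (I.map φD) q := by rw [hφD, mapI_eq]; exact hq
  obtain ⟨f, hf, hfin⟩ := exists_good I φD hftD hq'
  obtain ⟨hcT, hdT, hIT⟩ := rig_data hq'
  let π := Ideal.Quotient.mk q.asIdeal
  let cf := h * algebraMap A C f
  let X := CL I f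
  let Y := CL IB (algebraMap A B f)
  let C' := CL IC cf
  let dcf := algebraMap C D cf
  let D' := CL K dcf
  haveI := isAdicComplete_CL I f
  haveI := isAdicComplete_CL IC cf
  haveI := isAdicComplete_CL K dcf
  obtain ⟨ψ₁, hψ₁⟩ := exists_awayHom I f (algebraMap A B) (J := IB) rfl
  have hψ₁A := comp_of_awayMap I f hψ₁
  obtain ⟨γ, hγ⟩ := exists_awayHom IC cf (algebraMap C D) (J := K) rfl
  have hγC := comp_of_awayMap IC cf hγ
  have hψC := comp_of_awayMap IC h hψ
  let jC' : A →+* C' := (algebraMap C C').comp (algebraMap A C)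
  haveI : IsAdicComplete (I.map jC') C' := isAdicComplete_comp (J := I) rfl (isAdicComplete_CL IC cf)
  obtain ⟨xc, hxc⟩ := exists_hom I f jC' (unit_dvd (algebraMap C C') (dvd_mul_left _ _) (isUnit_CL IC cf))
  letI : Algebra X C' := xc.toAlgebra
  letI : Algebra X Y := ψ₁.toAlgebra
  let JX := I.map (algebraMap A X)
  have hJC' : JX.map (algebraMap X C') = I.map jC' := map_comp_eq (J := I) hxc
  have hICC' : IC.map (algebraMap C C') = JX.map (algebraMap X C') := (map_comp_eq (J := I) (k := jC') rfl).trans hJC'.symm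
  haveI : IsAdicComplete (JX.map (algebraMap X C')) C' := hJC'.symm ▸ ‹IsAdicComplete (I.map jC') C'›
  have hftC' : Algebra.FiniteType X (C' ⧸ JX.map (algebraMap X C')) := by
    have h1 : ((Ideal.Quotient.mk (JX.map (algebraMap X C'))).comp jC').FiniteType :=
      finiteType_trans I (algebraMap A C) (algebraMap C C') rfl
        hICC' (finiteType_mk hftC) (hICC' ▸ finiteType_mk (finiteType_CL IC cf))
    rw [show jC' = xc.comp (algebraMap A X) from hxc.symm, ← RingHom.comp_assoc] at h1
    exact RingHom.finiteType_algebraMap.1 (RingHom.FiniteType.of_comp_finiteType h1)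
  let jB : B →+* D' := (algebraMap D D').comp (inr I B C)
  have hjB : jB.comp (algebraMap A B) = (algebraMap D D').comp jA := by
    rw [RingHom.comp_assoc, inr_comm]
  haveI hcDA : IsAdicComplete (I.map ((algebraMap D D').comp jA)) D' :=
    isAdicComplete_comp (J := I) rfl (hjA.symm ▸ isAdicComplete_CL K dcf)
  haveI : IsAdicComplete (IB.map jB) D' := isAdicComplete_comp' (J := I) hjB hcDA
  have hfD' : IsUnit (algebraMap D D' (jA f)) :=
    unit_dvd (algebraMap D D') (map_dvd (algebraMap C D) (dvd_mul_left _ _)) (isUnit_CL K dcf)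
  obtain ⟨β, hβ⟩ := exists_hom IB (algebraMap A B f) jB (by rw [← RingHom.comp_apply, hjB]; exact hfD')
  have hγβ : γ.comp (algebraMap X C') = β.comp (algebraMap X Y) := by
    refine hom_ext I f (φ := (algebraMap D D').comp jA) ?_ ?_
    · show (γ.comp xc).comp (algebraMap A X) = _
      rw [RingHom.comp_assoc, hxc, ← RingHom.comp_assoc, hγC]
      rfl
    · show (β.comp ψ₁).comp (algebraMap A X) = _
      rw [RingHom.comp_assoc, hψ₁A, ← RingHom.comp_assoc, hβ, hjB]
  have hγX : (γ.comp (algebraMap X C')).comp (algebraMap A X) = (algebraMap D D').comp jA := by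
    show (γ.comp xc).comp (algebraMap A X) = _
    rw [RingHom.comp_assoc, hxc, ← RingHom.comp_assoc, hγC]
    rfl
  have hcD' : IsAdicComplete (JX.map (γ.comp (algebraMap X C'))) D' := isAdicComplete_comp' (J := I) hγX hcDA
  -- the point
  haveI hKT : IsAdicComplete (K.map (π.comp (algebraMap D Dh))) (Dh ⧸ q.asIdeal) := by
    exact isAdicComplete_comp (J := K) rfl (hφD ▸ hcT)
  obtain ⟨χ, hχ⟩ := exists_hom K dcf (π.comp (algebraMap D Dh)) (by
    show IsUnit (π (algebraMap D Dh (algebraMap C D (h * algebraMap A C f))))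
    rw [map_mul, map_mul, map_mul]
    exact ((isUnit_CL K hD).map π).mul hf)
  let χX := χ.comp (γ.comp (algebraMap X C'))
  have hχX : χX.Finite := by
    haveI : IsAdicComplete (I.map (algebraMap A X)) X := isAdicComplete_CL I f
    refine hfin X (algebraMap A X) χX ?_ (isUnit_CL I f)
    show (χ.comp (γ.comp (algebraMap X C'))).comp (algebraMap A X) = π.comp φD
    rw [RingHom.comp_assoc, hγX, ← RingHom.comp_assoc, hχ]
    rfl
  let q' := RingHom.ker χ
  haveI : q'.IsPrime := RingHom.ker_isPrime χ
  have hfin' : ((Ideal.Quotient.mk q').comp (γ.comp (algebraMap X C'))).Finite := by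
    letI : Algebra X (D' ⧸ q') := ((Ideal.Quotient.mk q').comp (γ.comp (algebraMap X C'))).toAlgebra
    letI : Algebra X (Dh ⧸ q.asIdeal) := χX.toAlgebra
    haveI : Module.Finite X (Dh ⧸ q.asIdeal) := hχX
    haveI : IsNoetherian X (Dh ⧸ q.asIdeal) := isNoetherian_of_isNoetherianRing_of_finite X _
    let j : (D' ⧸ q') →ₐ[X] Dh ⧸ q.asIdeal := { RingHom.kerLift χ with commutes' := fun x => rfl }
    exact Module.Finite.of_injective j.toLinearMap (RingHom.kerLift_injective χ)
  -- the point of the base change lies over a rig-closed point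
  let qY : PrimeSpectrum Y := ⟨q'.comap β, Ideal.IsPrime.comap β⟩
  haveI := isAdicComplete_CL IB (algebraMap A B f)
  have hqY : RC (IB.map (algebraMap B Y)) qY := by
    have hβfin : (χ.comp β).Finite := RingHom.Finite.of_comp_finite (f := ψ₁) (by
      rw [RingHom.comp_assoc, show β.comp ψ₁ = γ.comp (algebraMap X C') from hγβ.symm]
      exact hχX)
    haveI : (RingHom.ker (χ.comp β)).IsPrime := RingHom.ker_isPrime _
    have hk : (χ.comp β).comp ((algebraMap B Y).comp (algebraMap A B)) = π.comp φD := by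
      rw [← RingHom.comp_assoc, RingHom.comp_assoc (algebraMap B Y) β χ, hβ, RingHom.comp_assoc (algebraMap A B) jB χ, hjB, ← RingHom.comp_assoc, hχ]
      rfl
    have hne : (IB.map (algebraMap B Y)).map (χ.comp β) ≠ ⊥ := fun h0 => hIT (by
      have e1 : IB.map (algebraMap B Y) = I.map ((algebraMap B Y).comp (algebraMap A B)) := map_comp_eq (J := I) rfl
      rw [e1] at h0
      exact (map_comp_eq (J := I) rfl).trans ((map_comp_eq (J := I) hk).symm.trans h0))
    exact rc_ker (IB.map (algebraMap B Y)) hdT (χ.comp β) hβfin hne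
  have hflat := hAB f ψ₁ hψ₁ qY (by rw [← mapI_eq]; exact hqY)
  haveI : IsNoetherianRing D' := inferInstance
  have hmain : ((algebraMap D' (Localization.AtPrime q')).comp γ).Flat := by
    refine flat_baseChange_point JX hftC' γ β hγβ hcD' ?_ ?_ q' hfin' hflat
    · intro T _ α b hαb hT
      let jT : A →+* T := α.comp jC'
      haveI hT' : IsAdicComplete (I.map jT) T := isAdicComplete_comp (J := I) (f := algebraMap A X)
        (g := α.comp (algebraMap X C')) (by rw [RingHom.comp_assoc]; exact congrArg α.comp hxc) hT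
      have hbA : (b.comp (algebraMap B Y)).comp (algebraMap A B) = jT := by
        rw [RingHom.comp_assoc, ← hψ₁A, ← RingHom.comp_assoc, show b.comp ψ₁ = α.comp (algebraMap X C') from hαb.symm,
          RingHom.comp_assoc, show (algebraMap X C').comp (algebraMap A X) = jC' from hxc]
      haveI : IsAdicComplete (I.map ((α.comp (algebraMap C C')).comp (algebraMap A C))) T := by
        rw [RingHom.comp_assoc]; exact hT'
      obtain ⟨g₀, hg₀C, hg₀B⟩ := exists_hom_CT (I := I) (α.comp (algebraMap C C')) (b.comp (algebraMap B Y)) (by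
        rw [hbA, RingHom.comp_assoc])
      haveI : IsAdicComplete (K.map g₀) T := isAdicComplete_comp' (J := IC) hg₀C
        (isAdicComplete_comp' (J := I) (RingHom.comp_assoc _ _ _) hT')
      obtain ⟨g, hg⟩ := exists_hom K dcf g₀ (by
        rw [← RingHom.comp_apply g₀, hg₀C]; exact (isUnit_CL IC cf).map α)
      refine ⟨g, ?_, ?_⟩
      · haveI : IsAdicComplete (IC.map (α.comp (algebraMap C C'))) T :=
          isAdicComplete_comp' (J := I) (RingHom.comp_assoc _ _ _) hT'
        refine hom_ext IC cf (φ := α.comp (algebraMap C C')) ?_ rfl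
        rw [RingHom.comp_assoc, hγC, ← RingHom.comp_assoc, hg, hg₀C]
      · haveI : IsAdicComplete (IB.map (b.comp (algebraMap B Y))) T := isAdicComplete_comp' (J := I) hbA hT'
        refine hom_ext IB (algebraMap A B f) (φ := b.comp (algebraMap B Y)) ?_ rfl
        rw [RingHom.comp_assoc, hβ, ← RingHom.comp_assoc, hg, hg₀B]
    · intro g hgγ hgβ
      haveI : IsAdicComplete (K.map (algebraMap D D')) D' := isAdicComplete_CL K dcf
      refine hom_ext K dcf (φ := algebraMap D D') ?_ (RingHom.id_comp _)
      haveI : IsAdicComplete (I.map (((algebraMap D D').comp (algebraMap C D)).comp (algebraMap A C))) D' := hcDA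
      refine hom_ext_CT (I := I) (a := (algebraMap D D').comp (algebraMap C D)) ?_ rfl ?_
      · rw [RingHom.comp_assoc, ← hγC, ← RingHom.comp_assoc, hgγ]
      · rw [RingHom.comp_assoc]
        show g.comp jB = jB
        rw [← hβ, ← RingHom.comp_assoc, hgβ]
  -- comparison
  have hu1 : IsUnit (algebraMap C (Localization.Away cf) h) :=
    unit_dvd _ (dvd_mul_right _ _) (IsLocalization.Away.algebraMap_isUnit cf)
  haveI : IsAdicComplete (IC.map (algebraMap C C')) C' := isAdicComplete_CL IC cf
  obtain ⟨lC, hlC⟩ := exists_hom IC h (algebraMap C C') (unit_dvd _ (dvd_mul_right _ _) (isUnit_CL IC cf))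
  have hlCflat : lC.Flat := flat_hom IC h (RingHom.Flat.id _) (Ideal.map_id _) cf
    (g := lC) (by rw [hlC, RingHom.comp_id]) (unit_dvd _ (dvd_mul_right _ _) (isUnit_CL IC cf)) hu1
  haveI : IsAdicComplete (K.map (algebraMap D D')) D' := isAdicComplete_CL K dcf
  obtain ⟨lD, hlD⟩ := exists_hom K hD (algebraMap D D')
    (unit_dvd _ (map_dvd (algebraMap C D) (dvd_mul_right _ _)) (isUnit_CL K dcf))
  have hlDflat : lD.Flat := flat_hom K hD (RingHom.Flat.id _) (Ideal.map_id _) dcf
    (g := lD) (by rw [hlD, RingHom.comp_id])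
    (unit_dvd _ (map_dvd (algebraMap C D) (dvd_mul_right _ _)) (isUnit_CL K dcf))
    (unit_dvd _ (map_dvd (algebraMap C D) (dvd_mul_right _ _)) (IsLocalization.Away.algebraMap_isUnit dcf))
  refine flat_descent ψ lD hlDflat q.asIdeal q' ?_ ?_
  · haveI : IsAdicComplete (K.map (π.comp (algebraMap D Dh))) (Dh ⧸ q.asIdeal) := hKT
    have hχl : χ.comp lD = π := hom_ext K hD (φ := π.comp (algebraMap D Dh))
      (by rw [RingHom.comp_assoc, hlD, hχ]) rfl
    ext x
    show χ (lD x) = 0 ↔ _
    rw [← RingHom.comp_apply χ lD, hχl]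
    exact Ideal.Quotient.eq_zero_iff_mem
  · have heq : lD.comp ψ = γ.comp lC := by
      haveI : IsAdicComplete (IC.map ((algebraMap D D').comp (algebraMap C D))) D' :=
        isAdicComplete_comp (J := IC) rfl (isAdicComplete_CL K dcf)
      refine hom_ext IC h (φ := (algebraMap D D').comp (algebraMap C D)) ?_ ?_
      · rw [RingHom.comp_assoc, hψC, ← RingHom.comp_assoc, hlD]
      · rw [RingHom.comp_assoc, hlC, hγC]
    rw [heq, ← RingHom.comp_assoc]
    exact hlCflat.comp hmain

end Groth.Agent.AdicRingLib
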