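import Mathlib
import Groth.Agent.Hensel.Smooth
import Groth.Agent.Hensel.Basic

/-!
# Descent of rigid solutions to Henselian pairs
-/

set_option autoImplicit false
set_option linter.style.haveILetI false

universe u

namespace Groth.Agent.AdicRingLib

open MvPolynomial

theorem eq_zero_of_le_smul_self {T : Type u} [CommRing T] {J : Ideal T} (hJ : J.FG) {a : T}
    (ha : a ∈ Ideal.jacobson (⊥ : Ideal T)) (h : J ≤ Ideal.span {a} * J) : J = ⊥ :=
  Submodule.eq_bot_of_le_smul_of_le_jacobson_bot (Ideal.span {a}) J hJ (by rwa [smul_eq_mul])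
    (by rwa [Ideal.span_le, Set.singleton_subset_iff])

/-- Second order expansion of `p (x + b W)`. -/
theorem exists_expand {R : Type u} [CommRing R] {n : ℕ} (x : Fin n → R) (b : R) (p : MvPolynomial (Fin n) R) :
    ∃ Q : MvPolynomial (Fin n) R, aeval (fun i => C (x i) + C b * X i) p =
      C (eval x p) + C b * ∑ i, C (eval x (pderiv i p)) * X i + C b ^ 2 * Q := by
  induction p using MvPolynomial.induction_on with
  | C r => exact ⟨0, by simp⟩
  | add p q hp hq =>
    obtain ⟨P, hP⟩ := hp
    obtain ⟨Q, hQ⟩ := hq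
    refine ⟨P + Q, ?_⟩
    rw [map_add, hP, hQ]
    simp only [map_add, add_mul, Finset.sum_add_distrib, mul_add]
    ring
  | mul_X p k hp =>
    obtain ⟨P, hP⟩ := hp
    refine ⟨(∑ i, C (eval x (pderiv i p)) * X i) * X k + P * (C (x k) + C b * X k), ?_⟩
    have hd : ∀ i, eval x (pderiv i (p * X k)) =
        eval x (pderiv i p) * x k + eval x p * (if k = i then 1 else 0) := by
      intro i
      rw [Derivation.leibniz, pderiv_X, map_add, smul_eq_mul, smul_eq_mul, map_mul, map_mul, eval_X]
      rcases eq_or_ne k i with rfl | h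
      · simp; ring
      · simp [h, Ne.symm h]; ring
    rw [map_mul, hP, aeval_X, map_mul, eval_X]
    have hsum : ∑ i, C (eval x (pderiv i (p * X k))) * (X i : MvPolynomial (Fin n) R) =
        (∑ i, C (eval x (pderiv i p)) * X i) * C (x k) + C (eval x p) * X k := by
      simp only [hd, map_add, map_mul, add_mul, Finset.sum_add_distrib, Finset.sum_mul]
      congr 1
      · exact Finset.sum_congr rfl fun i _ => by ring
      · rw [Finset.sum_eq_single k]
        · simp
        · intro i _ hi; simp [Ne.symm hi]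
        · simp
    rw [hsum, map_mul]
    ring

theorem aeval_algebraMap {R T : Type u} [CommRing R] [CommRing T] [Algebra R T] {n : ℕ} (x : Fin n → R)
    (p : MvPolynomial (Fin n) R) :
    aeval (fun i => algebraMap R T (x i)) p = algebraMap R T (eval x p) := by
  rw [eval, coe_eval₂Hom, eval₂_comp_left]
  rfl

theorem aeval_sub_mem {R T : Type u} [CommRing R] [CommRing T] [Algebra R T] {n : ℕ}
    (p : MvPolynomial (Fin n) R) {u v : Fin n → T} (J : Ideal T) (h : ∀ i, u i - v i ∈ J) :
    aeval u p - aeval v p ∈ J := by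
  rw [aeval_def, aeval_def, ← Ideal.Quotient.eq, eval₂_comp_left, eval₂_comp_left]
  congr 1
  funext i
  exact Ideal.Quotient.eq.2 (h i)

/-- Powers of an element killing torsion in a Noetherian ring. -/
theorem exists_torsion_bound {T : Type u} [CommRing T] [IsNoetherianRing T] (a : T) :
    ∃ t : ℕ, ∀ (m : ℕ) (x : T), a ^ m * x = 0 → a ^ t * x = 0 := by
  let F : ℕ →o Ideal T :=
    { toFun := fun m =>
        { carrier := {x | a ^ m * x = 0}
          add_mem' := fun {x y} hx hy => show a ^ m * (x + y) = 0 by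
            rw [mul_add, show a ^ m * x = 0 from hx, show a ^ m * y = 0 from hy, add_zero]
          zero_mem' := mul_zero _
          smul_mem' := fun c x hx => show a ^ m * (c * x) = 0 by
            rw [mul_left_comm, show a ^ m * x = 0 from hx, mul_zero] }
      monotone' := fun i j hij x hx => by
        obtain ⟨k, rfl⟩ := Nat.exists_eq_add_of_le hij
        show a ^ (i + k) * x = 0
        rw [pow_add, mul_right_comm, show a ^ i * x = 0 from hx, zero_mul] }
  obtain ⟨t, ht⟩ := monotone_stabilizes_iff_noetherian.2 inferInstance F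
  refine ⟨t, fun m x hx => ?_⟩
  rcases le_total t m with h | h
  · rw [show a ^ t * x = 0 ↔ x ∈ F t from Iff.rfl, ht m h]
    exact hx
  · exact F.monotone h hx

variable {R T : Type u} [CommRing R] [CommRing T] [Algebra R T]

/-- The step on one element. -/
theorem exists_point_of_approx (I : Ideal R) [HenselianRing R I] [IsNoetherianRing T] [Module.FaithfullyFlat R T]
    (hjac : I.map (algebraMap R T) ≤ Ideal.jacobson ⊥) (a : R) (ha : a ∈ I) {n : ℕ} (z : Fin n → T) (c : ℕ)
    (g : Fin n → MvPolynomial (Fin n) R) (hg0 : ∀ j, aeval z (g j) = 0)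
    (hg : ∀ i j, aeval z (pderiv i (g j)) = if i = j then algebraMap R T a ^ c else 0) :
    ∃ M : ℕ, ∀ x₀ : Fin n → R, (∀ i, z i - algebraMap R T (x₀ i) ∈ Ideal.span {algebraMap R T a ^ M}) →
      ∃ x : Fin n → R, ∀ i, algebraMap R T (x i) = z i := by
  classical
  obtain ⟨t, ht⟩ := exists_torsion_bound (algebraMap R T a)
  let k := max t (c + 1)
  refine ⟨c + k + 1, fun x₀ hx₀ => ?_⟩
  let φ := algebraMap R T
  let α := φ a
  have hαjac : α ∈ Ideal.jacobson (⊥ : Ideal T) := hjac (Ideal.mem_map_of_mem _ ha)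
  have hdesc : ∀ (r : R) (m : ℕ), φ r ∈ Ideal.span {α ^ m} → ∃ s, r = a ^ m * s := by
    intro r m hr
    rw [← map_pow, ← Set.image_singleton, ← Ideal.map_span, ← Ideal.mem_comap,
      Ideal.comap_map_eq_self_of_faithfullyFlat (B := T)] at hr
    obtain ⟨s, hs⟩ := Ideal.mem_span_singleton'.1 hr
    exact ⟨s, by rw [← hs, mul_comm]⟩
  -- the Jacobian at the approximation
  have hJ : ∀ i j, ∃ m, eval x₀ (pderiv i (g j)) = (if i = j then a ^ c else 0) + a ^ (c + 1) * m := by
    intro i j
    obtain ⟨s, hs⟩ := hdesc (eval x₀ (pderiv i (g j)) - if i = j then a ^ c else 0) (c + 1) (by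
      rw [map_sub, ← aeval_algebraMap, show φ (if i = j then a ^ c else 0) = aeval z (pderiv i (g j)) by
        rw [hg]; split <;> simp [φ], ← neg_sub]
      refine neg_mem (aeval_sub_mem _ _ fun l => ?_)
      exact (Ideal.span_singleton_le_span_singleton.2 (pow_dvd_pow α (by omega))) (hx₀ l))
    exact ⟨s, by rw [← hs, add_sub_cancel]⟩
  choose m hm using hJ
  -- a point in the completion
  have hw : ∀ i, ∃ w, z i = φ (x₀ i) + α ^ k * w := by
    intro i
    obtain ⟨u, hu⟩ := Ideal.mem_span_singleton'.1 (hx₀ i)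
    refine ⟨α ^ (c + 1) * u, ?_⟩
    rw [← sub_eq_iff_eq_add', ← hu, show c + k + 1 = k + (c + 1) by omega, pow_add]
    ring
  choose w' hw' using hw
  choose Q hQ using fun j => exists_expand x₀ (a ^ k) (g j)
  have hz : ∀ j, aeval w' (aeval (fun i => C (x₀ i) + C (a ^ k) * X i) (g j)) = 0 := by
    intro j
    rw [← AlgHom.comp_apply, comp_aeval]
    rw [← hg0 j]
    congr 1
    refine congrArg (fun v : Fin n → T => (aeval v : MvPolynomial (Fin n) R →ₐ[R] T)) (funext fun i => ?_)
    rw [hw' i]
    simp [φ, α]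
  have hex : ∀ j, aeval w' (C (eval x₀ (g j)) + C (a ^ k) * ∑ i, C (eval x₀ (pderiv i (g j))) * X i +
      C (a ^ k) ^ 2 * Q j) = 0 := fun j => hQ j ▸ hz j
  have hγ : ∀ j, ∃ γ, eval x₀ (g j) = a ^ (c + k) * γ := by
    intro j
    refine hdesc _ _ (Ideal.mem_span_singleton'.2 ⟨-((∑ i, ((if i = j then 1 else 0) + α * φ (m i j)) * w' i) +
      α ^ (k - c) * aeval w' (Q j)), ?_⟩)
    have h := hex j
    simp only [map_add, map_mul, map_pow, map_sum, aeval_C, aeval_X, hm] at h
    have hsum : ∑ i, (φ (if i = j then a ^ c else 0) + φ a ^ (c + 1) * φ (m i j)) * w' i =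
        α ^ c * ∑ i, ((if i = j then 1 else 0) + α * φ (m i j)) * w' i := by
      rw [Finset.mul_sum]
      refine Finset.sum_congr rfl fun i _ => ?_
      split <;> simp [α, φ, pow_succ] <;> ring
    rw [hsum] at h
    have hkc : (α ^ k) ^ 2 = α ^ (c + k) * α ^ (k - c) := by
      rw [← pow_add, ← pow_mul]; congr 1; omega
    linear_combination (-1 : T) * h + (aeval w' (Q j)) * hkc + (∑ i, ((if i = j then 1 else 0) + α * φ (m i j)) * w' i) *
      (pow_add α c k)
  choose γ hγ using hγ
  let P : Fin n → MvPolynomial (Fin n) R := fun j =>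
    (∑ i, C (m i j) * X i) + C (a ^ (k - (c + 1))) * Q j
  let Φ : Fin n → MvPolynomial (Fin n) R := fun j => C (γ j) + X j + C a * P j
  have hΦ : ∀ j, aeval (fun i => C (x₀ i) + C (a ^ k) * X i) (g j) = C (a ^ (c + k)) * Φ j := by
    intro j
    rw [hQ j, hγ j]
    have hsum : ∑ i, C (eval x₀ (pderiv i (g j))) * (X i : MvPolynomial (Fin n) R) =
        C (a ^ c) * X j + C (a ^ (c + 1)) * ∑ i, C (m i j) * X i := by
      simp only [hm, map_add, map_mul, add_mul, Finset.sum_add_distrib, Finset.mul_sum, mul_assoc]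
      congr 1
      rw [Finset.sum_eq_single j]
      · simp
      · intro i _ hi; simp [hi]
      · simp
    rw [hsum]
    have hpow : (a ^ k) ^ 2 = a ^ (c + k) * a * a ^ (k - (c + 1)) := by
      rw [← pow_succ, ← pow_add, ← pow_mul]; congr 1; omega
    simp only [Φ, P, ← map_pow, hpow, map_mul]
    simp only [map_pow]
    ring
  -- Hensel
  obtain ⟨w, hw0, -⟩ := Hensel.exists_zero_of_isUnit_jacobian (I := I) n Φ (fun j => -γ j)
    (fun j => by
      simp only [Φ, map_add, map_mul, eval_C, eval_X, add_neg_cancel, zero_add]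
      exact I.mul_mem_right _ ha) (by
      rw [RingHom.map_det, show (Ideal.Quotient.mk I).mapMatrix
        (Matrix.of fun i j => eval (fun j => -γ j) (pderiv j (Φ i))) = 1 from Matrix.ext fun i j => ?_, Matrix.det_one]
      · exact isUnit_one
      · rw [RingHom.mapMatrix_apply, Matrix.map_apply, Matrix.of_apply, Matrix.one_apply]
        simp only [Φ, map_add, map_mul, Derivation.leibniz, pderiv_C, smul_eq_mul, mul_zero, add_zero, zero_add,
          eval_C, Ideal.Quotient.eq_zero_iff_mem.2 ha, zero_mul, pderiv_X]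
        rcases eq_or_ne i j with rfl | h
        · simp
        · simp [h, Ne.symm h])
  refine ⟨fun i => x₀ i + a ^ k * w i, ?_⟩
  let wT : Fin n → T := fun i => φ (w i)
  have h1 : ∀ j, aeval wT (Φ j) = 0 := fun j => by
    rw [show aeval wT (Φ j) = φ (eval w (Φ j)) from aeval_algebraMap w (Φ j), hw0 j, map_zero]
  have h2 : ∀ j, α ^ t * aeval w' (Φ j) = 0 := by
    intro j
    refine ht (c + k) _ ?_
    have h := hz j
    rw [hΦ j, map_mul, aeval_C, map_pow] at h
    exact h
  let J : Ideal T := Ideal.span (Set.range fun i => α ^ t * (w' i - wT i))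
  have hJ0 : J = ⊥ := by
    refine eq_zero_of_le_smul_self (Submodule.fg_span (Set.finite_range _)) hαjac ?_
    refine Ideal.span_le.2 ?_
    rintro _ ⟨j, rfl⟩
    have hP : aeval w' (P j) - aeval wT (P j) ∈ Ideal.span (Set.range fun i => w' i - wT i) :=
      aeval_sub_mem _ _ fun i => Ideal.subset_span ⟨i, rfl⟩
    have hmem : α ^ t * (aeval w' (P j) - aeval wT (P j)) ∈ J := by
      have := Ideal.mul_mem_mul (Ideal.mem_span_singleton_self (α ^ t)) hP
      rw [Ideal.span_mul_span', Set.singleton_mul, ← Set.range_comp] at this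
      exact this
    have heq : α ^ t * (w' j - wT j) = α * -(α ^ t * (aeval w' (P j) - aeval wT (P j))) := by
      have e1 := h1 j
      have e2 := h2 j
      simp only [Φ, map_add, map_mul, aeval_C, aeval_X] at e1 e2
      linear_combination e2 - α ^ t * e1
    show α ^ t * (w' j - wT j) ∈ _
    rw [heq]
    exact Ideal.mul_mem_mul (Ideal.mem_span_singleton_self α) (neg_mem hmem)
  intro i
  have h3 : α ^ t * (w' i - wT i) = 0 := by
    have : α ^ t * (w' i - wT i) ∈ J := Ideal.subset_span ⟨i, rfl⟩
    rwa [hJ0, Ideal.mem_bot] at this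
  rw [hw' i, map_add, map_mul, map_pow]
  have hk : α ^ k = α ^ (k - t) * α ^ t := by rw [← pow_add]; congr 1; omega
  show φ (x₀ i) + α ^ k * wT i = _
  rw [hk]
  linear_combination (-(α ^ (k - t))) * h3

/-- Rigid solutions in a complete extension come from the Henselian pair. -/
theorem exists_point_of_rigid (len : ℕ) :
    ∀ {R T : Type u} [CommRing R] [IsNoetherianRing R] [CommRing T] [Algebra R T] [IsNoetherianRing T]
      [Module.FaithfullyFlat R T] (I : Ideal R) [HenselianRing R I], I.map (algebraMap R T) ≤ Ideal.jacobson ⊥ →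
      (∀ (m : ℕ) (y : T), ∃ r : R, y - algebraMap R T r ∈ (I ^ m).map (algebraMap R T)) →
      ∀ (s' : List R), s'.length = len → (∀ a ∈ s', a ∈ I) →
      I ≤ (Ideal.span {a | a ∈ s'}).radical →
      ∀ {n : ℕ} (z : Fin n → T), (∀ a ∈ s', ∃ (c : ℕ) (g : Fin n → MvPolynomial (Fin n) R),
        (∀ j, aeval z (g j) = 0) ∧
        ∀ i j, aeval z (pderiv i (g j)) = if i = j then algebraMap R T a ^ c else 0) →
      ∃ x : Fin n → R, ∀ i, algebraMap R T (x i) = z i := by
  induction len with
  | zero =>
    intro R T _ _ _ _ _ _ I _ hjac hd s' hlen _ hrad n z _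
    rw [List.length_eq_zero_iff] at hlen
    subst hlen
    obtain ⟨N, hN⟩ : IsNilpotent I := by
      rw [Ideal.FG.isNilpotent_iff_le_nilradical (IsNoetherian.noetherian I)]
      simpa [nilradical] using hrad
    choose x hx using fun i => hd N (z i)
    refine ⟨x, fun i => ?_⟩
    have := hx i
    rw [hN, Ideal.zero_eq_bot, Ideal.map_bot, Ideal.mem_bot, sub_eq_zero] at this
    exact this.symm
  | succ len ih =>
    intro R T _ _ _ _ _ _ I _ hjac hd s' hlen hsI hrad n z hz
    obtain ⟨a, s'', rfl⟩ := List.exists_cons_of_length_eq_add_one hlen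
    obtain ⟨c, g, hg0, hg⟩ := hz a (List.mem_cons_self ..)
    obtain ⟨M, hM⟩ := exists_point_of_approx I hjac a (hsI a (List.mem_cons_self ..)) z c g hg0 hg
    let K : Ideal R := Ideal.span {a ^ M}
    let KT : Ideal T := K.map (algebraMap R T)
    haveI : Module.FaithfullyFlat (R ⧸ K) (T ⧸ KT) :=
      Module.FaithfullyFlat.of_linearEquiv _ _
        ((Algebra.TensorProduct.quotIdealMapEquivQuotTensor T K).toLinearEquiv : (T ⧸ KT) ≃ₗ[R ⧸ K] _)
    haveI : HenselianRing (R ⧸ K) (I.map (Ideal.Quotient.mk K)) := Hensel.quotient K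
    have hmapmap : ∀ J : Ideal R, (J.map (Ideal.Quotient.mk K)).map (algebraMap (R ⧸ K) (T ⧸ KT)) =
        (J.map (algebraMap R T)).map (Ideal.Quotient.mk KT) := fun J => by
      rw [Ideal.map_map, Ideal.map_map]
      rfl
    have hmk : (algebraMap (R ⧸ K) (T ⧸ KT)).comp (Ideal.Quotient.mk K) =
        (Ideal.Quotient.mk KT).comp (algebraMap R T) := rfl
    obtain ⟨x, hx⟩ := ih (R := R ⧸ K) (T := T ⧸ KT) (I.map (Ideal.Quotient.mk K))
      (by
        rw [hmapmap]
        refine Ideal.map_le_iff_le_comap.2 fun y hy => ?_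
        rw [Ideal.mem_comap, Ideal.mem_jacobson_bot]
        intro r
        obtain ⟨r, rfl⟩ := Ideal.Quotient.mk_surjective r
        simpa using ((Ideal.mem_jacobson_bot.1 (hjac hy)) r).map (Ideal.Quotient.mk KT))
      (fun m y => by
        obtain ⟨y, rfl⟩ := Ideal.Quotient.mk_surjective y
        obtain ⟨r, hr⟩ := hd m y
        refine ⟨Ideal.Quotient.mk K r, ?_⟩
        rw [← Ideal.map_pow, hmapmap]
        have := Ideal.mem_map_of_mem (Ideal.Quotient.mk KT) hr
        rwa [map_sub] at this)
      (s''.map (Ideal.Quotient.mk K)) (by simpa using hlen)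
      (fun b hb => by
        obtain ⟨b, hb', rfl⟩ := List.mem_map.1 hb
        exact Ideal.mem_map_of_mem _ (hsI b (List.mem_cons_of_mem _ hb')))
      (by
        refine (Ideal.map_mono hrad).trans ((Ideal.map_radical_le _).trans ?_)
        rw [Ideal.radical_le_radical_iff, Ideal.map_span, Ideal.span_le]
        rintro _ ⟨b, hb, rfl⟩
        rcases List.mem_cons.1 hb with rfl | hb
        · exact ⟨M, by rw [← map_pow, Ideal.Quotient.eq_zero_iff_mem.2 (Ideal.mem_span_singleton_self _)]; exact zero_mem _⟩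
        · exact Ideal.le_radical (Ideal.subset_span (List.mem_map.2 ⟨b, hb, rfl⟩)))
      (fun i => Ideal.Quotient.mk KT (z i)) (fun b hb => by
        obtain ⟨b, hb', rfl⟩ := List.mem_map.1 hb
        obtain ⟨c, g, hg0, hg⟩ := hz b (List.mem_cons_of_mem _ hb')
        have hev : ∀ p : MvPolynomial (Fin n) R, aeval (fun i => Ideal.Quotient.mk KT (z i))
            (p.map (Ideal.Quotient.mk K)) = Ideal.Quotient.mk KT (aeval z p) := fun p => by
          rw [aeval_def, eval₂_map, aeval_def, eval₂_comp_left, hmk]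
          rfl
        refine ⟨c, fun j => (g j).map (Ideal.Quotient.mk K), fun j => by rw [hev, hg0, map_zero], fun i j => ?_⟩
        rw [pderiv_map, hev, hg]
        split
        · rw [map_pow]; rfl
        · exact map_zero _)
    choose x₀ hx₀ using fun i => Ideal.Quotient.mk_surjective (x i)
    refine hM x₀ fun i => ?_
    have h := hx i
    rw [← hx₀ i, ← RingHom.comp_apply, hmk, RingHom.comp_apply, eq_comm, Ideal.Quotient.eq] at h
    simpa [KT, K, Ideal.map_span] using h

end Groth.Agent.AdicRingLib
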