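import Mathlib
import Groth.Agent.AdicRingLib.Tougeron
import Groth.Agent.AdicRingLib.Maps
import Groth.Agent.PairHens.Basic
import Groth.Agent.RegLocal.Complete
import Groth.Agent.S2321
import Groth.Agent.S1994

/-!
# Maps from algebras étale off `V(I)` to Henselizations
-/

set_option autoImplicit false
set_option linter.style.haveILetI false

universe u

namespace Groth.Agent.AdicRingLib

open MvPolynomial

/-- An element at which the differentials die yields equations with scalar Jacobian. -/
theorem exists_scalar_jacobian {A B : Type u} [CommRing A] [CommRing B] [Algebra A B] [Algebra.FiniteType A B]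
    {n : ℕ} (π : MvPolynomial (Fin n) A →ₐ[A] B) (hπ : Function.Surjective π) (a : A)
    [Algebra.FormallyUnramified A (Localization.Away (algebraMap A B a))] :
    ∃ (c : ℕ) (g : Fin n → MvPolynomial (Fin n) A), (∀ j, π (g j) = 0) ∧
      ∀ i j, π (pderiv i (g j)) = if i = j then algebraMap A B a ^ c else 0 := by
  classical
  let L := Localization.Away (algebraMap A B a)
  let f := KaehlerDifferential.map A A B L
  haveI : IsLocalizedModule (Submonoid.powers (algebraMap A B a)) f := inferInstance
  have hk : ∀ v : Ω[B⁄A], ∃ c, algebraMap A B a ^ c • v = 0 := fun v => by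
    obtain ⟨⟨_, c, rfl⟩, hc⟩ := (IsLocalizedModule.eq_zero_iff (Submonoid.powers (algebraMap A B a)) f).1
      (Subsingleton.elim (f v) 0)
    exact ⟨c, hc⟩
  choose c hc using fun j => hk (KaehlerDifferential.D A B (π (X j)))
  let N := Finset.univ.sup c
  let grad : MvPolynomial (Fin n) A →ₗ[A] (Fin n → B) :=
    LinearMap.pi fun i => π.toLinearMap.comp (pderiv i).toLinearMap
  have hgrad : ∀ p i, grad p i = π (pderiv i p) := fun p i => rfl
  let W : Submodule B (Fin n → B) :=
    { carrier := {v | ∃ g, π g = 0 ∧ grad g = v}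
      add_mem' := fun {v w} ⟨g, hg, hv⟩ ⟨g', hg', hw⟩ => ⟨g + g', by rw [map_add, hg, hg', add_zero],
        by rw [map_add, hv, hw]⟩
      zero_mem' := ⟨0, map_zero _, map_zero _⟩
      smul_mem' := fun b v ⟨g, hg, hv⟩ => by
        obtain ⟨q, rfl⟩ := hπ b
        refine ⟨q * g, by rw [map_mul, hg, mul_zero], funext fun i => ?_⟩
        rw [hgrad, Derivation.leibniz, map_add, smul_eq_mul, smul_eq_mul, map_mul, map_mul, hg, zero_mul, add_zero,
          Pi.smul_apply, ← hv, hgrad, smul_eq_mul] }
  let sec : B → MvPolynomial (Fin n) A := Function.surjInv hπ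
  have hsec : ∀ p, W.mkQ (grad (sec (π p))) = W.mkQ (grad p) := fun p => by
    rw [← sub_eq_zero, ← map_sub, Submodule.mkQ_apply, Submodule.Quotient.mk_eq_zero, ← map_sub]
    exact ⟨sec (π p) - p, by rw [map_sub, Function.surjInv_eq hπ, sub_self], rfl⟩
  let lin : B →ₗ[A] (Fin n → B) ⧸ W :=
    { toFun := fun b => W.mkQ (grad (sec b))
      map_add' := fun b b' => by
        obtain ⟨p, rfl⟩ := hπ b
        obtain ⟨p', rfl⟩ := hπ b'
        rw [← map_add π, hsec, hsec, hsec, map_add, map_add]
      map_smul' := fun r b => by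
        obtain ⟨p, rfl⟩ := hπ b
        rw [← map_smul π, hsec, hsec, map_smul, RingHom.id_apply]
        rfl }
  let D : Derivation A B ((Fin n → B) ⧸ W) :=
    { lin with
      map_one_eq_zero' := by
        show W.mkQ (grad (sec 1)) = 0
        rw [← map_one π, hsec, show grad 1 = 0 from funext fun i => by rw [hgrad, Derivation.map_one_eq_zero, map_zero]; rfl,
          map_zero]
      leibniz' := fun b b' => by
        obtain ⟨p, rfl⟩ := hπ b
        obtain ⟨p', rfl⟩ := hπ b'
        show W.mkQ (grad (sec (π p * π p'))) = π p • W.mkQ (grad (sec (π p'))) + π p' • W.mkQ (grad (sec (π p)))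
        rw [← map_mul π, hsec, hsec, hsec, ← map_smul W.mkQ, ← map_smul W.mkQ, ← map_add W.mkQ]
        refine congrArg _ (funext fun i => ?_)
        rw [hgrad, Derivation.leibniz, map_add, smul_eq_mul, smul_eq_mul, map_mul, map_mul]
        rfl }
  have hD : ∀ p, D (π p) = W.mkQ (grad p) := hsec
  have he : ∀ j, ∃ g, π g = 0 ∧ ∀ i, π (pderiv i g) = if i = j then algebraMap A B a ^ N else 0 := by
    intro j
    have h := congrArg D.liftKaehlerDifferential
      (show algebraMap A B a ^ N • KaehlerDifferential.D A B (π (X j)) = 0 by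
        rw [show N = (N - c j) + c j from (Nat.sub_add_cancel (Finset.le_sup (Finset.mem_univ j))).symm, pow_add,
          mul_smul, hc, smul_zero])
    rw [map_smul, Derivation.liftKaehlerDifferential_comp_D, map_zero, hD, ← map_smul, Submodule.mkQ_apply,
      Submodule.Quotient.mk_eq_zero] at h
    obtain ⟨g, hg, hgv⟩ := h
    refine ⟨g, hg, fun i => ?_⟩
    rw [← hgrad, hgv, Pi.smul_apply, hgrad, pderiv_X, smul_eq_mul]
    rcases eq_or_ne i j with rfl | h
    · simp
    · simp [h, Ne.symm h]
  choose g hg0 hg using he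
  exact ⟨N, g, hg0, fun i j => hg j i⟩

/-- Unique lifting of maps into a completion to the Henselization. -/
theorem existsUnique_algHom {A : Type u} [CommRing A] [IsNoetherianRing A] (I : Ideal A) {B : Type u} [CommRing B]
    [Algebra A B] [Algebra.FiniteType A B]
    (hB : ∀ a ∈ I, Algebra.FormallyUnramified A (Localization.Away (algebraMap A B a)))
    {C : Type u} [CommRing C] [Algebra A C] [IsNoetherianRing C] {Ch : Type u} [CommRing Ch] [Algebra C Ch]
    [Algebra A Ch] [IsScalarTower A C Ch] (hCh : Hens2.IsPairHenselization C (I.map (algebraMap A C)) Ch)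
    (φ : (AdicCompletion (I.map (algebraMap A B)) B) →ₐ[A] (AdicCompletion (I.map (algebraMap A C)) C)) :
    ∃! ψ : B →ₐ[A] Ch, ∀ (n : ℕ) (b : B), ∃ c : C, ψ b - algebraMap C Ch c ∈ (I.map (algebraMap A Ch)) ^ n ∧
      AdicCompletion.eval (I.map (algebraMap A C)) C n (φ (AdicCompletion.of (I.map (algebraMap A B)) B b)) =
        Submodule.Quotient.mk c := by
  classical
  obtain ⟨hNoeth, -, -⟩ := S1994.result C _ Ch hCh
  haveI := hNoeth
  let K := I.map (algebraMap A C)
  let Ih := I.map (algebraMap A Ch)
  have hIh : K.map (algebraMap C Ch) = Ih := by rw [Ideal.map_map, ← IsScalarTower.algebraMap_eq]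
  haveI hHens : HenselianRing Ch Ih := hIh ▸ hCh.1
  let T := AdicCompletion Ih Ch
  have hfg : Ih.FG := Ideal.fg_of_isNoetherianRing Ih
  haveI hcomp : IsAdicComplete (Ih.map (algebraMap Ch T)) T := AdicCompletion.isAdicComplete_self Ih hfg
  haveI : IsNoetherianRing T := RegLocal.isNoetherianRing_adicCompletion Ih hfg
  haveI : Module.FaithfullyFlat Ch T := ((S2321.result Ch Ih).out 0 1).1 hHens.jac
  have hjac : Ih.map (algebraMap Ch T) ≤ Ideal.jacobson ⊥ := IsAdicComplete.le_jacobson_bot _
  have hd : ∀ (m : ℕ) (y : T), ∃ r : Ch, y - algebraMap Ch T r ∈ (Ih ^ m).map (algebraMap Ch T) := by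
    intro m y
    obtain ⟨r, hr⟩ := Submodule.Quotient.mk_surjective _ (AdicCompletion.eval Ih Ch m y)
    have hmem : y - algebraMap Ch T r ∈ Ih ^ m • (⊤ : Submodule Ch T) := by
      rw [AdicCompletion.pow_smul_top_eq_ker_eval hfg, LinearMap.mem_ker, map_sub, sub_eq_zero, ← hr]
      rfl
    rw [Ideal.smul_top_eq_map, Submodule.restrictScalars_mem] at hmem
    exact ⟨r, hmem⟩
  have hd' : ∀ (m : ℕ) (y : AdicCompletion K C) (c : C), AdicCompletion.eval K C m y = Submodule.Quotient.mk c →
      y - algebraMap C (AdicCompletion K C) c ∈ (K ^ m).map (algebraMap C (AdicCompletion K C)) := by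
    intro m y c hc
    have hmem : y - algebraMap C (AdicCompletion K C) c ∈ K ^ m • (⊤ : Submodule C (AdicCompletion K C)) := by
      rw [AdicCompletion.pow_smul_top_eq_ker_eval (Ideal.fg_of_isNoetherianRing K), LinearMap.mem_ker, map_sub,
        sub_eq_zero, hc]
      rfl
    rwa [Ideal.smul_top_eq_map, Submodule.restrictScalars_mem] at hmem
  obtain ⟨G, hG⟩ := exists_algHom_completion (R := C) (B := T) K (Ih.map (algebraMap Ch T))
    (Algebra.ofId C T) (by
      refine le_of_eq ?_
      show K.map (algebraMap C T) = _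
      rw [IsScalarTower.algebraMap_eq C Ch T, ← Ideal.map_map, hIh])
  let f : B →ₐ[A] T := ((G.restrictScalars A).comp φ).comp
    ((Algebra.ofId B (AdicCompletion (I.map (algebraMap A B)) B)).restrictScalars A)
  have hf : ∀ (m : ℕ) (b : B) (c : C),
      AdicCompletion.eval K C m (φ (AdicCompletion.of (I.map (algebraMap A B)) B b)) = Submodule.Quotient.mk c →
        f b - algebraMap Ch T (algebraMap C Ch c) ∈ (Ih ^ m).map (algebraMap Ch T) := by
    intro m b c hc
    have h := Ideal.mem_map_of_mem G.toRingHom (hd' m _ c hc)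
    rw [Ideal.map_map, show G.toRingHom.comp (algebraMap C (AdicCompletion K C)) = algebraMap C T from
      RingHom.ext hG, IsScalarTower.algebraMap_eq C Ch T, ← Ideal.map_map, Ideal.map_pow (algebraMap C Ch) K, hIh] at h
    have h' : G (φ (AdicCompletion.of (I.map (algebraMap A B)) B b) - algebraMap C (AdicCompletion K C) c) ∈
        (Ih ^ m).map (algebraMap Ch T) := h
    rw [map_sub, hG] at h'
    rw [← IsScalarTower.algebraMap_apply]
    exact h'
  obtain ⟨n, π, hπ⟩ := Algebra.FiniteType.iff_quotient_mvPolynomial''.1 ‹Algebra.FiniteType A B›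
  let z : Fin n → T := fun i => f (π (X i))
  have hzπ : ∀ p, aeval z p = f (π p) := fun p => by
    rw [← AlgHom.comp_apply f π, aeval_unique (f.comp π)]
    rfl
  obtain ⟨S, hS⟩ := IsNoetherian.noetherian I
  obtain ⟨x, hx⟩ := exists_point_of_rigid S.toList.length (R := Ch) (T := T) Ih hjac hd
    (S.toList.map (algebraMap A Ch)) (by simp)
    (fun a ha => by
      obtain ⟨b, hb, rfl⟩ := List.mem_map.1 ha
      exact Ideal.mem_map_of_mem _ (hS ▸ Submodule.subset_span (Finset.mem_toList.1 hb)))
    (by
      refine le_trans (le_of_eq ?_) Ideal.le_radical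
      show I.map (algebraMap A Ch) = _
      rw [← hS]
      show (Ideal.span (S : Set A)).map (algebraMap A Ch) = _
      rw [Ideal.map_span]
      congr 1
      ext y
      simp)
    z (fun a ha => by
      obtain ⟨b, hb, rfl⟩ := List.mem_map.1 ha
      haveI := hB b (hS ▸ Submodule.subset_span (Finset.mem_toList.1 hb))
      obtain ⟨c, g, hg0, hg⟩ := exists_scalar_jacobian π hπ b
      refine ⟨c, fun j => (g j).map (algebraMap A Ch), fun j => ?_, fun i j => ?_⟩
      · rw [aeval_map_algebraMap, hzπ, hg0, map_zero]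
      · rw [pderiv_map, aeval_map_algebraMap, hzπ, hg]
        split
        · rw [map_pow, AlgHom.commutes, IsScalarTower.algebraMap_apply A Ch T]
        · exact map_zero _)
  have hinj : Function.Injective (algebraMap Ch T) := FaithfulSMul.algebraMap_injective Ch T
  have hxz : ∀ p, algebraMap Ch T (aeval x p) = f (π p) := fun p => by
    rw [← hzπ, ← aeval_algebraMap_apply]
    exact congrArg (fun v : Fin n → T => aeval v p) (funext hx)
  let ψ : B →ₐ[A] Ch :=
    (Ideal.Quotient.liftₐ (RingHom.ker π.toRingHom) (aeval x) fun p hp => hinj (by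
      rw [hxz, show π p = 0 from hp, map_zero, map_zero])).comp
      (Ideal.quotientKerAlgEquivOfSurjective hπ).symm.toAlgHom
  have hψ : ∀ b, algebraMap Ch T (ψ b) = f b := by
    intro b
    obtain ⟨p, rfl⟩ := hπ b
    have : (Ideal.quotientKerAlgEquivOfSurjective hπ).symm (π p) = Ideal.Quotient.mk _ p := by
      rw [AlgEquiv.symm_apply_eq]; rfl
    simp only [ψ, AlgHom.comp_apply, AlgEquiv.toAlgHom_eq_coe, AlgHom.coe_coe]
    erw [this]
    exact hxz p
  refine ⟨ψ, fun m b => ?_, fun ψ' hψ' => AlgHom.ext fun b => hinj ?_⟩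
  · obtain ⟨c, hc⟩ := Submodule.Quotient.mk_surjective _
      (AdicCompletion.eval K C m (φ (AdicCompletion.of (I.map (algebraMap A B)) B b)))
    refine ⟨c, ?_, hc.symm⟩
    have h := hf m b c hc.symm
    rw [← hψ, ← map_sub, ← Ideal.mem_comap, Ideal.comap_map_eq_self_of_faithfullyFlat (B := T)] at h
    exact h
  · rw [hψ]
    refine (IsHausdorff.eq_iff_smodEq (I := Ih.map (algebraMap Ch T))).2 fun m => ?_
    obtain ⟨c, hc, hc'⟩ := hψ' m b
    rw [SModEq.sub_mem, smul_eq_mul, Ideal.mul_top, ← Ideal.map_pow]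
    have h := sub_mem (Ideal.mem_map_of_mem (algebraMap Ch T) hc) (hf m b c hc')
    rwa [map_sub, sub_sub_sub_cancel_right] at h

end Groth.Agent.AdicRingLib
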