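import Mathlib

/-!
# Saturated submodules of free modules over restricted power series over a valuation ring of height one

Abstract engine: `P` is a `t`-adically complete algebra over the valuation ring `R` whose reduction
modulo `t` is a polynomial ring over `R ⧸ (t)`.  Saturated submodules of `P ^ s` are finitely
generated, by division with respect to lifts of a Gröbner basis of the reduction modulo the
maximal ideal, whose non-leading "high" coefficients lie in a principal ideal `e R ⊆ m`.
-/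

set_option autoImplicit false

open IsLocalRing

namespace Groth.Agent.AdicRingLib.Sat

universe u v

variable {R : Type u} [CommRing R] [IsDomain R] [ValuationRing R] [Ring.KrullDimLE 1 R]
  {t : R} {P : Type v} [CommRing P] [Algebra R P] {n s : ℕ}

/-- In a valuation ring of height one a nonzero non-unit has a power divisible by any given nonzero
element. -/
theorem exists_pow_dvd (ht0 : t ≠ 0) {e : R} (he : ¬ IsUnit e) (he0 : e ≠ 0) :
    ∃ L : ℕ, t ∣ e ^ L := by
  have hrad : e ∈ (Ideal.span {t}).radical := by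
    rw [Ideal.radical_eq_sInf]
    refine Submodule.mem_sInf.2 fun p hp => ?_
    have := hp.2
    have hne : p ≠ ⊥ := fun h0 => ht0 (by simpa [h0] using hp.1 (Ideal.mem_span_singleton_self t))
    have : Ideal.IsMaximal p := Ideal.IsPrime.isMaximal_of_ne_bot this hne
    rw [IsLocalRing.eq_maximalIdeal this]
    exact he
  obtain ⟨L, hL⟩ := hrad
  exact ⟨L, Ideal.mem_span_singleton.1 hL⟩

/-- Among finitely many elements of a valuation ring one divides all the others. -/
theorem exists_dvd_all {γ : Type*} (S : Finset γ) (hS : S.Nonempty) (r : γ → R) :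
    ∃ a ∈ S, ∀ b ∈ S, r a ∣ r b := by
  induction hS using Finset.Nonempty.cons_induction with
  | singleton a => exact ⟨a, by simp, fun b hb => by simp [Finset.mem_singleton.1 hb]⟩
  | cons a S haS _ ih =>
    obtain ⟨c, hc, hmin⟩ := ih
    rcases ValuationRing.dvd_total (r a) (r c) with h | h
    · refine ⟨a, Finset.mem_cons_self a S, fun b hb => ?_⟩
      rcases Finset.mem_cons.1 hb with rfl | hb
      · exact dvd_rfl
      · exact h.trans (hmin b hb)
    · refine ⟨c, Finset.mem_cons.2 (Or.inr hc), fun b hb => ?_⟩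
      rcases Finset.mem_cons.1 hb with rfl | hb
      · exact h
      · exact hmin b hb

variable (n s) in
/-- Terms: a monomial and a component. -/
abbrev Term := (Fin n →₀ ℕ) × Fin s

/-- The well order on terms. -/
noncomputable def key (γ : Term n s) : (MonomialOrder.degLex (σ := Fin n)).syn ×ₗ Fin s :=
  toLex ((MonomialOrder.degLex (σ := Fin n)).toSyn γ.1, γ.2)

theorem key_injective : Function.Injective (key (n := n) (s := s)) := by
  intro a b h
  obtain ⟨h1, h2⟩ := Prod.mk.inj (toLex.injective h)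
  exact Prod.ext ((MonomialOrder.degLex (σ := Fin n)).toSyn.injective h1) h2

theorem key_add_lt {γ δ : Term n s} (h : key γ < key δ) (c : Fin n →₀ ℕ) :
    key (c + γ.1, γ.2) < key (c + δ.1, δ.2) := by
  rw [key, key, Prod.Lex.toLex_lt_toLex] at h ⊢
  simp only [map_add]
  rcases h with h | ⟨h1, h2⟩
  · exact Or.inl (add_lt_add_right h _)
  · exact Or.inr ⟨congrArg _ h1, h2⟩

variable (π : P →ₐ[R] MvPolynomial (Fin n) (R ⧸ Ideal.span {t}))

/-- The coefficient of `f` modulo `t` at a term. -/
noncomputable def co (f : Fin s → P) (γ : Term n s) : R ⧸ Ideal.span {t} :=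
  MvPolynomial.coeff γ.1 (π (f γ.2))

theorem co_sub (f g : Fin s → P) (γ : Term n s) : co π (f - g) γ = co π f γ - co π g γ := by
  simp [co, MvPolynomial.coeff_sub]

theorem co_add (f g : Fin s → P) (γ : Term n s) : co π (f + g) γ = co π f γ + co π g γ := by
  simp [co]

theorem co_smul (r : R) (f : Fin s → P) (γ : Term n s) :
    co π (r • f) γ = Ideal.Quotient.mk _ r * co π f γ := by
  simp [co, Algebra.smul_def]

/-- `N` is saturated with respect to `t`. -/
def IsSat (t : R) (N : Submodule P (Fin s → P)) : Prop := ∀ x, t • x ∈ N → x ∈ N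

/-- Engine: a saturated `N` is spanned by finitely many elements of any submodule having the same
reduction modulo `t`. -/
theorem exists_finset_span (ht0 : t ≠ 0) (ht : ¬ IsUnit t) (hπ : Function.Surjective π)
    (hker : ∀ x, π x = 0 → ∃ y, x = t • y)
    [IsAdicComplete (Ideal.span {algebraMap R P t}) P]
    (N : Submodule P (Fin s → P)) (hN : IsSat t N) (N0 : Submodule P (Fin s → P))
    (hle : N0 ≤ N) (hred : ∀ x ∈ N, ∃ y ∈ N0, ∃ z, x - y = t • z) :
    ∃ G : Finset (Fin s → P), (G : Set (Fin s → P)) ⊆ N0 ∧ N ≤ Submodule.span P G := by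
  classical
  -- reduction modulo the maximal ideal
  have htm : t ∈ maximalIdeal R := ht
  let red : R ⧸ Ideal.span {t} →+* ResidueField R :=
    Ideal.Quotient.lift _ (residue R) fun a ha => by
      obtain ⟨b, rfl⟩ := Ideal.mem_span_singleton.1 ha
      rw [map_mul, (residue_eq_zero_iff t).2 htm, zero_mul]
  have hredmk : ∀ r, red (Ideal.Quotient.mk _ r) = residue R r := fun r => rfl
  have hredmem : ∀ (a : R), residue R a = 0 ↔ a ∈ maximalIdeal R := fun a => residue_eq_zero_iff a
  choose lift hlift using Ideal.Quotient.mk_surjective (I := Ideal.span ({t} : Set R))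
  have hπsmul : ∀ (r : R) (x : P), π (r • x) = MvPolynomial.C (Ideal.Quotient.mk _ r) * π x := by
    intro r x
    rw [map_smul, Algebra.smul_def]; rfl
  have hco_t : ∀ (z : Fin s → P) γ, co π (t • z) γ = 0 := fun z γ => by
    rw [co_smul, Ideal.Quotient.eq_zero_iff_mem.2 (Ideal.mem_span_singleton_self t), zero_mul]
  have hkerF : ∀ f : Fin s → P, (∀ γ, co π f γ = 0) → ∃ z, f = t • z := by
    intro f hf
    have : ∀ i, ∃ y, f i = t • y := fun i => hker _ (MvPolynomial.ext _ _ fun a => by
      simpa [co] using hf (a, i))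
    choose y hy using this
    exact ⟨y, funext hy⟩
  -- monomials
  choose mono' hmono' using fun a : Fin n →₀ ℕ =>
    hπ (MvPolynomial.monomial a (1 : R ⧸ Ideal.span {t}))
  let mono : Term n s → Fin s → P := fun γ => Pi.single γ.2 (mono' γ.1)
  have hco_mono : ∀ γ δ, co π (mono γ) δ = if δ = γ then 1 else 0 := by
    intro γ δ
    simp only [co, mono, Pi.single_apply]
    split_ifs with h1 h2 h2
    · simp [hmono', MvPolynomial.coeff_monomial, h2]
    · rw [hmono', MvPolynomial.coeff_monomial, if_neg]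
      exact fun h3 => h2 (Prod.ext h3.symm h1)
    · exact absurd (congrArg Prod.snd h2) h1
    · simp
  have hco_shift : ∀ (c : Fin n →₀ ℕ) (f : Fin s → P) (δ : Term n s),
      co π (mono' c • f) δ = if c ≤ δ.1 then co π f (δ.1 - c, δ.2) else 0 := by
    intro c f δ
    simp only [co, Pi.smul_apply, smul_eq_mul, map_mul, hmono', MvPolynomial.coeff_monomial_mul', one_mul]
  -- finite support
  have hsupp : ∀ f : Fin s → P, ∃ S : Finset (Term n s), ∀ γ, γ ∉ S → co π f γ = 0 := by
    intro f
    refine ⟨(Finset.univ.biUnion fun i => (π (f i)).support) ×ˢ Finset.univ, fun γ hγ => ?_⟩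
    by_contra h
    exact hγ (Finset.mem_product.2 ⟨Finset.mem_biUnion.2 ⟨γ.2, Finset.mem_univ _,
      MvPolynomial.mem_support_iff.2 h⟩, Finset.mem_univ _⟩)
  -- leading terms
  let LT : Set (Term n s) := {γ | ∃ f ∈ N, red (co π f γ) = 1 ∧ ∀ δ, key γ < key δ → red (co π f δ) = 0}
  have hgen : ∀ γ ∈ LT, ∃ g ∈ N0, co π g γ = 1 ∧ ∀ δ, key γ < key δ → red (co π g δ) = 0 := by
    rintro γ ⟨f, hf, h1, h2⟩
    obtain ⟨y, hy, z, hz⟩ := hred f hf
    have hy' : ∀ δ, co π y δ = co π f δ := fun δ => by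
      rw [show y = f - t • z by rw [← hz, sub_sub_cancel], co_sub, hco_t, sub_zero]
    set r := lift (co π y γ) with hr
    have hru : IsUnit r := by
      rw [← IsLocalRing.residue_ne_zero_iff_isUnit, ← hredmk, hlift, hy', h1]; exact one_ne_zero
    obtain ⟨u, hu⟩ := hru
    refine ⟨(↑u⁻¹ : R) • y, N0.smul_of_tower_mem _ hy, ?_, fun δ hδ => ?_⟩
    · rw [co_smul, ← hlift (co π y γ), ← hr, ← hu, ← map_mul, Units.inv_mul, map_one]
    · rw [co_smul, map_mul, hy', h2 δ hδ, mul_zero]
  -- minimal leading terms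
  let S : Fin s → Set (Fin n →₀ ℕ) := fun i => {a | (a, i) ∈ LT}
  have hpwo : ∀ i, (S i).IsPWO := fun i => Set.isPWO_of_wellQuasiOrderedLE _
  let Λ : Set (Term n s) := {γ | Minimal (· ∈ S γ.2) γ.1}
  have hΛfin : Λ.Finite := by
    have : Λ ⊆ ⋃ i, (fun a => (a, i)) '' {a | Minimal (· ∈ S i) a} := fun γ hγ =>
      Set.mem_iUnion.2 ⟨γ.2, γ.1, hγ, rfl⟩
    refine (Set.finite_iUnion fun i => Set.Finite.image _ ?_).subset this
    exact (setOfPred_minimal_antichain _).finite_of_partiallyWellOrderedOn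
      ((hpwo i).mono fun a ha => ha.1)
  have hΛLT : ∀ l ∈ Λ, l ∈ LT := fun l hl => hl.1
  have hΛcov : ∀ γ ∈ LT, ∃ l ∈ Λ, l.2 = γ.2 ∧ l.1 ≤ γ.1 := by
    intro γ hγ
    obtain ⟨a, ha, hmin⟩ := (hpwo γ.2).exists_le_minimal (a := γ.1) hγ
    exact ⟨(a, γ.2), hmin, rfl, ha⟩
  have : Fintype Λ := hΛfin.fintype
  choose g hg0 hg1 hg2 using fun l : Λ => hgen l.1 (hΛLT l.1 l.2)
  -- the principal ideal containing the high coefficients
  choose Sg hSg using fun l : Λ => hsupp (g l)
  let T : Finset R := insert t (Finset.univ.biUnion fun l : Λ =>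
    ((Sg l).filter fun δ => key l.1 < key δ).image fun δ => lift (co π (g l) δ))
  obtain ⟨e, heT, hediv⟩ := exists_dvd_all T ⟨t, Finset.mem_insert_self _ _⟩ id
  simp only [id] at hediv
  have het : e ∣ t := hediv t (Finset.mem_insert_self _ _)
  have hem : e ∈ maximalIdeal R := by
    rcases Finset.mem_insert.1 heT with rfl | h
    · exact htm
    · obtain ⟨l, -, hl⟩ := Finset.mem_biUnion.1 h
      obtain ⟨δ, hδ, rfl⟩ := Finset.mem_image.1 hl
      rw [← hredmem, ← hredmk, hlift]
      exact hg2 l δ (Finset.mem_filter.1 hδ).2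
  have he0 : e ≠ 0 := fun h => ht0 (by simpa [h] using het)
  let Ie : Ideal (R ⧸ Ideal.span {t}) := Ideal.span {Ideal.Quotient.mk _ e}
  have hIe : ∀ r : R, Ideal.Quotient.mk _ r ∈ Ie ↔ e ∣ r := by
    intro r
    refine ⟨fun h => ?_, fun ⟨c, hc⟩ => Ideal.mem_span_singleton.2 ⟨Ideal.Quotient.mk _ c, by rw [← map_mul, ← hc]⟩⟩
    obtain ⟨c, hc⟩ := Ideal.mem_span_singleton.1 h
    rw [← hlift c, ← map_mul, Ideal.Quotient.eq, Ideal.mem_span_singleton] at hc
    obtain ⟨d, hd⟩ := het.trans hc
    exact ⟨lift c + d, by linear_combination hd⟩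
  have hhigh : ∀ (l : Λ) δ, key l.1 < key δ → co π (g l) δ ∈ Ie := by
    intro l δ hδ
    by_cases h : δ ∈ Sg l
    · rw [← hlift (co π (g l) δ), hIe]
      exact hediv _ (Finset.mem_insert_of_mem (Finset.mem_biUnion.2
        ⟨l, Finset.mem_univ _, Finset.mem_image.2 ⟨δ, Finset.mem_filter.2 ⟨h, hδ⟩, rfl⟩⟩))
    · rw [hSg l δ h]; exact Ie.zero_mem
  -- division
  let D : Set (Fin s → P) := {f | ∃ c : Λ → P, ∀ γ ∈ LT, co π (f - ∑ l, c l • g l) γ ∈ Ie}
  have hDadd : ∀ f f', f ∈ D → f' ∈ D → f + f' ∈ D := by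
    rintro f f' ⟨c, hc⟩ ⟨c', hc'⟩
    refine ⟨c + c', fun γ hγ => ?_⟩
    have : f + f' - ∑ l, (c + c') l • g l = (f - ∑ l, c l • g l) + (f' - ∑ l, c' l • g l) := by
      simp only [Pi.add_apply, add_smul, Finset.sum_add_distrib]; abel
    rw [this, co_add]
    exact Ie.add_mem (hc γ hγ) (hc' γ hγ)
  have hDsmul : ∀ (r : R) f, f ∈ D → r • f ∈ D := by
    rintro r f ⟨c, hc⟩
    refine ⟨fun l => r • c l, fun γ hγ => ?_⟩
    have : r • f - ∑ l, (r • c l) • g l = r • (f - ∑ l, c l • g l) := by
      rw [smul_sub, Finset.smul_sum]; simp [smul_assoc]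
    rw [this, co_smul]
    exact Ie.mul_mem_left _ (hc γ hγ)
  have hDzero : ∀ f, (∀ γ ∈ LT, co π f γ ∈ Ie) → f ∈ D := fun f hf => ⟨0, by simpa using hf⟩
  have hDsum : ∀ (f : Fin s → P), (∀ δ, co π f δ ∈ Ie ∨ mono δ ∈ D) → f ∈ D := by
    intro f hf
    obtain ⟨U, hU⟩ := hsupp f
    let f0 := ∑ δ ∈ U, lift (co π f δ) • mono δ
    have hf0 : ∀ γ, co π (f - f0) γ = 0 := by
      intro γ
      have h0 : co π f0 γ = ∑ δ ∈ U, co π f δ * if γ = δ then 1 else 0 := by
        show MvPolynomial.coeff γ.1 (π (f0 γ.2)) = _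
        simp only [f0, Finset.sum_apply, map_sum, MvPolynomial.coeff_sum]
        refine Finset.sum_congr rfl fun δ _ => ?_
        show co π (lift (co π f δ) • mono δ) γ = _
        rw [co_smul, hlift, hco_mono]
      rw [co_sub, h0]
      by_cases h : γ ∈ U
      · rw [Finset.sum_eq_single γ (fun δ _ hδ => by simp [Ne.symm hδ]) (fun h' => absurd h h')]
        simp
      · rw [Finset.sum_eq_zero fun δ hδ => by simp [show γ ≠ δ from fun h' => h (h' ▸ hδ)], hU γ h, sub_zero]
    have h1 : ∀ U' ⊆ U, (∑ δ ∈ U', lift (co π f δ) • mono δ) ∈ D := by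
      intro U'
      induction U' using Finset.induction_on with
      | empty => exact fun _ => hDzero _ fun γ _ => by simp [co]
      | insert a U' ha ih =>
        intro hU'
        rw [Finset.sum_insert ha]
        refine hDadd _ _ ?_ (ih (fun x hx => hU' (Finset.mem_insert_of_mem hx)))
        rcases hf a with h | h
        · refine hDzero _ fun γ _ => ?_
          rw [co_smul, hlift]
          exact Ie.mul_mem_right _ h
        · exact hDsmul _ _ h
    have := hDadd _ _ (hDzero (f - f0) fun γ _ => by rw [hf0]; exact Ie.zero_mem) (h1 U subset_rfl)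
    rwa [sub_add_cancel] at this
  have hDmono : ∀ γ, mono γ ∈ D := by
    suffices ∀ k, ∀ γ, key γ = k → mono γ ∈ D from fun γ => this _ γ rfl
    intro k
    induction k using WellFoundedLT.induction with
    | ind k ih =>
      rintro γ rfl
      by_cases hγ : γ ∈ LT
      swap
      · refine hDzero _ fun δ hδ => ?_
        rw [hco_mono, if_neg (fun h => hγ (by rwa [h] at hδ))]
        exact Ie.zero_mem
      obtain ⟨l, hl, hl2, hl1⟩ := hΛcov γ hγ
      set c := γ.1 - l.1 with hc
      have hγeq : γ = (c + l.1, l.2) := Prod.ext (tsub_add_cancel_of_le hl1).symm hl2.symm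
      set h := mono' c • g ⟨l, hl⟩ with hh
      have hhD : h ∈ D := by
        refine ⟨Pi.single ⟨l, hl⟩ (mono' c), fun δ _ => ?_⟩
        rw [Finset.sum_eq_single (⟨l, hl⟩ : Λ) (fun b _ hb => by simp [hb]) (by simp), Pi.single_eq_same,
          sub_self]
        simp [co]
      have hrest : h - mono γ ∈ D := by
        refine hDsum _ fun δ => ?_
        rcases lt_trichotomy (key δ) (key γ) with hlt | heq | hgt
        · exact Or.inr (ih _ hlt δ rfl)
        · left
          obtain rfl := key_injective heq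
          rw [co_sub, hco_mono, if_pos rfl, hh, hco_shift, if_pos tsub_le_self,
            show (δ.1 - c, δ.2) = l by
              rw [hγeq]; simp, hg1 ⟨l, hl⟩, sub_self]
          exact Ie.zero_mem
        · left
          rw [co_sub, hco_mono, if_neg (fun h => hgt.ne (by rw [h])), sub_zero, hh, hco_shift]
          split_ifs with hcδ
          · refine hhigh ⟨l, hl⟩ _ ?_
            by_contra hcon
            apply hgt.not_ge
            have hδeq : δ = (c + (δ.1 - c), δ.2) := Prod.ext (add_tsub_cancel_of_le hcδ).symm rfl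
            rw [hγeq, hδeq]
            rcases (not_lt.1 hcon).eq_or_lt with h' | h'
            · have h'' := key_injective h'
              have e1 : δ.1 - c = l.1 := by simpa using congrArg Prod.fst h''
              have e2 : δ.2 = l.2 := by simpa using congrArg Prod.snd h''
              exact le_of_eq (by simp only [e1, e2])
            · exact (key_add_lt h' c).le
          · exact Ie.zero_mem
      have := hDadd _ _ hhD (hDsmul (-1) _ hrest)
      rwa [neg_one_smul, ← sub_eq_add_neg, sub_sub_cancel] at this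
  have hD : ∀ f, f ∈ D := fun f => hDsum f fun δ => Or.inr (hDmono δ)
  -- one step inside N
  have hgN : ∀ l, g l ∈ N := fun l => hle (hg0 l)
  have hstage : ∀ f ∈ N, ∃ c : Λ → P, ∃ y ∈ N, f - ∑ l, c l • g l = e • y := by
    intro f hf
    obtain ⟨c, hc⟩ := hD f
    set f' := f - ∑ l, c l • g l with hf'
    have hf'N : f' ∈ N := N.sub_mem hf (sum_mem fun l _ => N.smul_mem _ (hgN l))
    suffices h : ∀ γ, co π f' γ ∈ Ie by
      obtain ⟨U, hU⟩ := hsupp f'
      choose q hq using fun δ => (hIe (lift (co π f' δ))).1 (by rw [hlift]; exact h δ)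
      obtain ⟨w, hw⟩ := het
      obtain ⟨z, hz⟩ := hkerF (f' - e • ∑ δ ∈ U, q δ • mono δ) fun γ => by
        rw [co_sub, co_smul]
        have h0 : co π (∑ δ ∈ U, q δ • mono δ) γ = ∑ δ ∈ U, Ideal.Quotient.mk _ (q δ) * if γ = δ then 1 else 0 := by
          show MvPolynomial.coeff γ.1 (π ((∑ δ ∈ U, q δ • mono δ) γ.2)) = _
          simp only [Finset.sum_apply, map_sum, MvPolynomial.coeff_sum]
          refine Finset.sum_congr rfl fun δ _ => ?_
          show co π (q δ • mono δ) γ = _
          rw [co_smul, hco_mono]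
        rw [h0]
        by_cases hγ : γ ∈ U
        · rw [Finset.sum_eq_single γ (fun δ _ hδ => by simp [Ne.symm hδ]) (fun h' => absurd hγ h')]
          rw [if_pos rfl, mul_one, ← map_mul, ← hq, hlift, sub_self]
        · rw [Finset.sum_eq_zero fun δ hδ => by simp [show γ ≠ δ from fun h' => hγ (h' ▸ hδ)], hU γ hγ]
          simp
      have hy : f' = e • ((∑ δ ∈ U, q δ • mono δ) + w • z) := by
        rw [smul_add, smul_smul, ← hw, ← hz, add_sub_cancel]
      refine ⟨c, _, hN _ ?_, hy⟩
      rw [hw, mul_comm, mul_smul, ← hy]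
      exact N.smul_of_tower_mem _ hf'N
    by_contra hcon
    push Not at hcon
    obtain ⟨γ₁, hγ₁⟩ := hcon
    obtain ⟨U, hU⟩ := hsupp f'
    obtain ⟨δ₀, hδ₀, hmin⟩ := exists_dvd_all U
      ⟨γ₁, by by_contra h; exact hγ₁ (by rw [hU _ h]; exact Ie.zero_mem)⟩ (fun δ => lift (co π f' δ))
    set a := lift (co π f' δ₀) with ha
    have hea : ¬ e ∣ a := fun h => hγ₁ (by
      rw [← hlift (co π f' γ₁), hIe]
      exact h.trans (hmin γ₁ (by by_contra h'; exact hγ₁ (by rw [hU _ h']; exact Ie.zero_mem))))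
    obtain ⟨u, hu⟩ := (ValuationRing.dvd_total a e).resolve_right hea
    have hum : u ∈ maximalIdeal R := fun hunit => by
      obtain ⟨uu, rfl⟩ := hunit
      exact hea ⟨↑uu⁻¹, by rw [hu, mul_assoc, Units.mul_inv, mul_one]⟩
    obtain ⟨v, hv⟩ := het
    have ha0 : a ≠ 0 := fun h => hea (h ▸ dvd_zero e)
    have htw : t = a * (u * v) := by rw [hv, hu]; ring
    choose q hq using fun δ : U => hmin δ.1 δ.2
    let f2 := ∑ δ : U, q δ • mono δ.1
    obtain ⟨z, hz⟩ := hkerF (f' - a • f2) fun γ => by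
      rw [co_sub, co_smul]
      have h0 : co π f2 γ = ∑ δ : U, Ideal.Quotient.mk _ (q δ) * if γ = δ.1 then 1 else 0 := by
        show MvPolynomial.coeff γ.1 (π ((∑ δ : U, q δ • mono δ.1) γ.2)) = _
        simp only [Finset.sum_apply, map_sum, MvPolynomial.coeff_sum]
        refine Finset.sum_congr rfl fun δ _ => ?_
        show co π (q δ • mono δ.1) γ = _
        rw [co_smul, hco_mono]
      rw [h0]
      by_cases hγ : γ ∈ U
      · rw [Finset.sum_eq_single (⟨γ, hγ⟩ : U)
          (fun δ _ hδ => by rw [if_neg fun h => hδ (Subtype.ext h.symm), mul_zero])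
          (fun h' => absurd (Finset.mem_univ _) h')]
        rw [if_pos rfl, mul_one, ← map_mul, ← hq, hlift, sub_self]
      · rw [Finset.sum_eq_zero fun δ _ => by rw [if_neg fun h' : γ = δ.1 => hγ (by rw [h']; exact δ.2), mul_zero], hU γ hγ]
        simp
    set f3 := f2 + (u * v) • z with hf3
    have hf'3 : f' = a • f3 := by rw [smul_add, smul_smul, ← htw, ← hz, add_sub_cancel]
    have hf3N : f3 ∈ N := hN _ (by
      rw [htw, mul_comm, mul_smul, ← hf'3]; exact N.smul_of_tower_mem _ hf'N)
    have hco3 : ∀ δ, co π f' δ = Ideal.Quotient.mk _ a * co π f3 δ := fun δ => by rw [hf'3, co_smul]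
    -- f3 reduces to zero at leading terms
    have hLT0 : ∀ γ ∈ LT, red (co π f3 γ) = 0 := by
      intro γ hγ
      have hmem := hc γ hγ
      rw [hco3, ← hlift (co π f3 γ), ← map_mul, hIe] at hmem
      rw [← hlift (co π f3 γ), hredmk, hredmem]
      obtain ⟨d, hd⟩ := hmem
      have : lift (co π f3 γ) = u * d := mul_left_cancel₀ ha0 (by rw [hd, hu]; ring)
      rw [this]
      exact Ideal.mul_mem_right _ _ hum
    have hne : red (co π f3 δ₀) = 1 := by
      have h1 : Ideal.Quotient.mk (Ideal.span {t}) a = Ideal.Quotient.mk _ a * co π f3 δ₀ := by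
        rw [← hco3, ha, hlift]
      rw [← hlift (co π f3 δ₀), ← map_mul, Ideal.Quotient.eq, Ideal.mem_span_singleton] at h1
      obtain ⟨d, hd⟩ := h1
      rw [← hlift (co π f3 δ₀), hredmk]
      have : lift (co π f3 δ₀) = 1 - u * v * d := mul_left_cancel₀ ha0 (by
        linear_combination -hd - d * htw)
      rw [this, map_sub, map_one, (hredmem _).2 (Ideal.mul_mem_right _ _ (Ideal.mul_mem_right _ _ hum)), sub_zero]
    obtain ⟨W, hW⟩ := hsupp f3
    let W' := W.filter fun δ => red (co π f3 δ) ≠ 0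
    have hW'ne : W'.Nonempty := ⟨δ₀, Finset.mem_filter.2
      ⟨by by_contra h; rw [hW _ h, map_zero] at hne; exact zero_ne_one hne, by rw [hne]; exact one_ne_zero⟩⟩
    obtain ⟨γs, hγs, hmax⟩ := W'.exists_max_image key hW'ne
    have hγs0 := (Finset.mem_filter.1 hγs).2
    refine hγs0 (hLT0 γs ?_)
    obtain ⟨r, hr⟩ := IsLocalRing.residue_surjective (red (co π f3 γs))⁻¹
    refine ⟨r • f3, N.smul_of_tower_mem _ hf3N, ?_, fun δ hδ => ?_⟩
    · rw [co_smul, map_mul, hredmk, hr, inv_mul_cancel₀ hγs0]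
    · rw [co_smul, map_mul]
      by_contra h
      have hδ' : δ ∈ W' := Finset.mem_filter.2 ⟨by
        by_contra hd; exact h (by rw [hW _ hd, map_zero, mul_zero]), fun h0 => h (by rw [h0, mul_zero])⟩
      exact (hmax δ hδ').not_gt hδ
  -- e-adic steps give t-adic steps
  have hstageK : ∀ K : ℕ, ∀ f ∈ N, ∃ c : Λ → P, ∃ y ∈ N, f - ∑ l, c l • g l = e ^ K • y := by
    intro K
    induction K with
    | zero => exact fun f hf => ⟨0, f, hf, by simp⟩
    | succ K ih =>
      intro f hf
      obtain ⟨c, y, hy, hcy⟩ := ih f hf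
      obtain ⟨c', y', hy', hcy'⟩ := hstage y hy
      refine ⟨c + e ^ K • c', y', hy', ?_⟩
      rw [pow_succ, mul_smul, ← hcy', smul_sub, ← hcy, Finset.smul_sum]
      simp only [Pi.add_apply, Pi.smul_apply, add_smul, Finset.sum_add_distrib, smul_assoc]
      abel
  obtain ⟨L, w, hw⟩ := exists_pow_dvd ht0 hem he0
  have hstaget : ∀ f : N, ∃ c : Λ → P, ∃ y : N, (f : Fin s → P) - ∑ l, c l • g l = t • (y : Fin s → P) := by
    intro f
    obtain ⟨c, y, hy, hcy⟩ := hstageK L f f.2
    exact ⟨c, ⟨w • y, N.smul_of_tower_mem w hy⟩, by rw [hcy, hw, mul_smul]⟩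
  choose cc yy hyy using hstaget
  refine ⟨Finset.univ.image g, by rw [Finset.coe_image]; rintro _ ⟨l, -, rfl⟩; exact hg0 l, fun f hf => ?_⟩
  let seq : ℕ → N := fun K => yy^[K] ⟨f, hf⟩
  let A : Λ → ℕ → P := fun l K => ∑ k ∈ Finset.range K, t ^ k • cc (seq k) l
  have hA : ∀ K, f - ∑ l, A l K • g l = t ^ K • (seq K : Fin s → P) := by
    intro K
    induction K with
    | zero => simp [A, seq]
    | succ K ih =>
      have hseq : seq (K + 1) = yy (seq K) := Function.iterate_succ_apply' _ _ _
      rw [hseq, pow_succ, mul_smul, ← hyy, smul_sub, ← ih, Finset.smul_sum]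
      simp only [A, Finset.sum_range_succ, add_smul, Finset.sum_add_distrib, smul_assoc]
      abel
  set J := Ideal.span {algebraMap R P t}
  have hJ : ∀ (K : ℕ) (x : P), t ^ K • x ∈ (J ^ K • ⊤ : Submodule P P) := by
    intro K x
    rw [smul_eq_mul, Ideal.mul_top, Algebra.smul_def, map_pow]
    exact Ideal.mul_mem_right _ _ (Ideal.pow_mem_pow (Ideal.mem_span_singleton_self _) K)
  have hcauchy : ∀ l, ∀ {m k : ℕ}, m ≤ k → A l m ≡ A l k [SMOD (J ^ m • ⊤ : Submodule P P)] := by
    intro l m k hmk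
    rw [SModEq.sub_mem, show A l m - A l k = -∑ j ∈ Finset.Ico m k, t ^ j • cc (seq j) l by
      rw [Finset.sum_Ico_eq_sub _ hmk, neg_sub]]
    refine neg_mem (sum_mem fun j hj => ?_)
    obtain ⟨d, rfl⟩ := Nat.exists_eq_add_of_le (Finset.mem_Ico.1 hj).1
    rw [pow_add, mul_smul]
    exact hJ m _
  choose lim hlim using fun l => IsPrecomplete.prec' (I := J) (A l) (hcauchy l)
  have hf : f = ∑ l, lim l • g l := by
    funext i
    refine sub_eq_zero.1 (IsHausdorff.haus' (I := J) _ fun K => ?_)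
    rw [SModEq.zero]
    have h1 := congrFun (hA K) i
    simp only [Pi.sub_apply, Finset.sum_apply, Pi.smul_apply, smul_eq_mul] at h1 ⊢
    have : f i - ∑ l, lim l * g l i = t ^ K • (seq K : Fin s → P) i + ∑ l, (A l K - lim l) * g l i := by
      rw [← h1]; simp only [sub_mul, Finset.sum_sub_distrib]; abel
    rw [this]
    exact add_mem (hJ K _) (sum_mem fun l _ => by
      have h2 := SModEq.sub_mem.1 (hlim l K)
      rw [smul_eq_mul, Ideal.mul_top] at h2
      rw [Ideal.mul_top]
      exact Ideal.mul_mem_right _ _ h2)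
  rw [hf]
  exact sum_mem fun l _ => Submodule.smul_mem _ _
    (Submodule.subset_span (Finset.mem_coe.2 (Finset.mem_image_of_mem g (Finset.mem_univ l))))

section Corollaries

variable (ht0 : t ≠ 0) (ht : ¬ IsUnit t) (hπ : Function.Surjective π)
  (hker : ∀ x, π x = 0 → ∃ y, x = t • y) [IsAdicComplete (Ideal.span {algebraMap R P t}) P]
include ht0 ht hπ hker

/-- Saturated submodules are finitely generated. -/
theorem fg_of_isSat (N : Submodule P (Fin s → P)) (hN : IsSat t N) : N.FG := by
  obtain ⟨G, hG, hle⟩ := exists_finset_span π ht0 ht hπ hker N hN N le_rfl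
    (fun x hx => ⟨x, hx, 0, by simp⟩)
  exact ⟨G, le_antisymm (Submodule.span_le.2 hG) hle⟩

/-- A submodule with the same reduction as a saturated one containing it equals it. -/
theorem eq_of_red (N : Submodule P (Fin s → P)) (hN : IsSat t N) (N0 : Submodule P (Fin s → P))
    (hle : N0 ≤ N) (hred : ∀ x ∈ N, ∃ y ∈ N0, ∃ z, x - y = t • z) : N0 = N := by
  obtain ⟨G, hG, hle'⟩ := exists_finset_span π ht0 ht hπ hker N hN N0 hle hred
  exact le_antisymm hle (hle'.trans (Submodule.span_le.2 hG))

/-- Saturated submodules are closed. -/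
theorem mem_of_forall_approx (htf : ∀ x : P, t • x = 0 → x = 0) (N : Submodule P (Fin s → P))
    (hN : IsSat t N) (x : Fin s → P) (hx : ∀ k : ℕ, ∃ y ∈ N, ∃ z, x - y = t ^ k • z) : x ∈ N := by
  let C : Submodule P (Fin s → P) :=
    { carrier := {x | ∀ k : ℕ, ∃ y ∈ N, ∃ z, x - y = t ^ k • z}
      zero_mem' := fun k => ⟨0, N.zero_mem, 0, by simp⟩
      add_mem' := fun {a b} ha hb k => by
        obtain ⟨y, hy, z, hz⟩ := ha k
        obtain ⟨y', hy', z', hz'⟩ := hb k
        exact ⟨y + y', N.add_mem hy hy', z + z', by rw [smul_add, ← hz, ← hz']; abel⟩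
      smul_mem' := fun c a ha k => by
        obtain ⟨y, hy, z, hz⟩ := ha k
        exact ⟨c • y, N.smul_mem c hy, c • z, by rw [← smul_sub, hz, smul_comm]⟩ }
  have hcanc : ∀ u v : Fin s → P, t • u = t • v → u = v := fun u v h => funext fun i =>
    sub_eq_zero.1 (htf _ (by rw [smul_sub]; exact sub_eq_zero.2 (congrFun h i)))
  have hC : IsSat t C := by
    intro a ha k
    obtain ⟨y, hy, z, hz⟩ := ha (k + 1)
    have hy' : y = t • (a - t ^ k • z) := by
      rw [smul_sub, smul_smul, ← pow_succ', ← hz, sub_sub_cancel]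
    exact ⟨a - t ^ k • z, hN _ (hy' ▸ hy), z, by rw [sub_sub_cancel]⟩
  have hNC : N ≤ C := fun a ha k => ⟨a, ha, 0, by simp⟩
  have := eq_of_red π ht0 ht hπ hker C hC N hNC fun a ha => by
    obtain ⟨y, hy, z, hz⟩ := ha 1
    exact ⟨y, hy, z, by rw [hz, pow_one]⟩
  rw [this]
  exact hx

end Corollaries

end Groth.Agent.AdicRingLib.Sat
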