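import Groth.Agent.AdicRingLib.TFT

/-!
# A finite algebra over an algebra topologically of finite type is topologically of finite type
-/

set_option autoImplicit false

open AdicRing

namespace Groth.Agent.AdicRingLib

universe u

theorem tft_of_finite {R : Type u} [CommRing R] {I : Ideal R} (hR : IsBase R I)
    {A : Type u} [CommRing A] [Algebra R A] (hA : TopFiniteType R I A)
    (B : Type u) [CommRing B] [Algebra R B] [Algebra A B] [IsScalarTower R A B] [Module.Finite A B] :
    TopFiniteType R I B := by
  classical
  have hI := isBase_fg hR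
  obtain ⟨k, q, hq⟩ := Module.Finite.exists_fin' A B
  have hc := isAdicComplete_tft hR hA B
  haveI : IsAdicComplete (I.map (algebraMap R B)) B :=
    (IsAdicComplete.map_algebraMap_iff I B).2 hc
  obtain ⟨n, φ, hφ⟩ := hA
  let P := RPow R I (n + k)
  haveI : IsAdicComplete (I.map (algebraMap R P)) P := rpow_isAdicComplete hI (n + k)
  let v : Fin (n + k) → B := Fin.append
    (fun j => algebraMap A B (φ (algebraMap (MvPolynomial (Fin n) R) _ (MvPolynomial.X j))))
    fun i => q (Pi.single i 1)
  obtain ⟨ψ, hψ⟩ := exists_algHom_completion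
    (I.map (MvPolynomial.C : R →+* MvPolynomial (Fin (n + k)) R)) (I.map (algebraMap R B))
    (MvPolynomial.aeval v) (by
      rw [Ideal.map_le_iff_le_comap, Ideal.map_le_iff_le_comap]
      intro a ha
      rw [Ideal.mem_comap, Ideal.mem_comap, MvPolynomial.aeval_C]
      exact Ideal.mem_map_of_mem _ ha)
  obtain ⟨ι, hι⟩ := exists_algHom_completion
    (I.map (MvPolynomial.C : R →+* MvPolynomial (Fin n) R)) (I.map (algebraMap R P))
    (((Algebra.ofId (MvPolynomial (Fin (n + k)) R) P).restrictScalars R).comp
      (MvPolynomial.rename (Fin.castAdd k))) (by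
      rw [Ideal.map_le_iff_le_comap, Ideal.map_le_iff_le_comap]
      intro a ha
      rw [Ideal.mem_comap, Ideal.mem_comap,
        show (MvPolynomial.C a : MvPolynomial (Fin n) R) = algebraMap R _ a from rfl, AlgHom.commutes]
      exact Ideal.mem_map_of_mem _ ha)
  have hcomm : (IsScalarTower.toAlgHom R A B).comp φ = ψ.comp ι := by
    refine algHom_completion_ext (K := I.map (algebraMap R B)) (hI.map _) (fun c hc => ?_)
      fun c => ?_
    · refine (show I.map (MvPolynomial.C : R →+* MvPolynomial (Fin n) R) ≤
        Ideal.comap (((IsScalarTower.toAlgHom R A B).comp φ).toRingHom.comp (algebraMap _ _))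
          (I.map (algebraMap R B)) from Ideal.map_le_iff_le_comap.2 fun a ha => ?_) hc
      show algebraMap A B (φ (algebraMap _ _ (MvPolynomial.C a))) ∈ I.map (algebraMap R B)
      rw [show (MvPolynomial.C a : MvPolynomial (Fin n) R) = algebraMap R _ a from rfl,
        ← IsScalarTower.algebraMap_apply, φ.commutes,
        ← IsScalarTower.algebraMap_apply]
      exact Ideal.mem_map_of_mem _ ha
    · show algebraMap A B (φ (algebraMap _ _ c)) = ψ (ι (algebraMap _ _ c))
      rw [hι]
      show _ = ψ (algebraMap _ P (MvPolynomial.rename (Fin.castAdd k) c))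
      rw [hψ]
      have : ((IsScalarTower.toAlgHom R A B).comp φ).comp
          ((Algebra.ofId (MvPolynomial (Fin n) R) (RPow R I n)).restrictScalars R) =
          (MvPolynomial.aeval v).comp (MvPolynomial.rename (Fin.castAdd k)) :=
        MvPolynomial.algHom_ext fun j => by
          show algebraMap A B (φ (algebraMap _ _ (MvPolynomial.X j))) =
            MvPolynomial.aeval v (MvPolynomial.rename (Fin.castAdd k) (MvPolynomial.X j))
          rw [MvPolynomial.rename_X, MvPolynomial.aeval_X]
          simp only [v, Fin.append_left]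
      exact congrArg (fun G : MvPolynomial (Fin n) R →ₐ[R] B => G c) this
  refine ⟨n + k, ψ, fun b => ?_⟩
  obtain ⟨w, rfl⟩ := hq b
  rw [← AlgHom.mem_range, ← Finset.univ_sum_single w, map_sum]
  refine sum_mem fun i _ => ?_
  rw [show Pi.single i (w i) = w i • (Pi.single i (1 : A) : Fin k → A) by
    rw [← Pi.single_smul, smul_eq_mul, mul_one], map_smul, Algebra.smul_def]
  refine mul_mem ?_ ?_
  · obtain ⟨p, hp⟩ := hφ (w i)
    refine ⟨ι p, ?_⟩
    have := congrArg (fun G : RPow R I n →ₐ[R] B => G p) hcomm
    exact this.symm.trans (congrArg (algebraMap A B) hp)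
  · refine ⟨algebraMap (MvPolynomial (Fin (n + k)) R) P (MvPolynomial.X (Fin.natAdd n i)), ?_⟩
    show ψ _ = _
    rw [hψ, MvPolynomial.aeval_X]
    simp only [v, Fin.append_right]

end Groth.Agent.AdicRingLib
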