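import Groth.Agent.AdicRingLib.TFT
import Groth.Agent.AdicLemmas.Basic

/-!
# Topological finite type / presentation through the truncations
-/

set_option autoImplicit false

open AdicRing

namespace Groth.Agent.AdicRingLib.TruncFP

universe u v

variable {R : Type u} [CommRing R] {I : Ideal R}

theorem quotientMap_finiteType_iff {A : Type v} [CommRing A] [Algebra R A] (K : Ideal R) :
    (Ideal.quotientMap (K.map (algebraMap R A)) (algebraMap R A) Ideal.le_comap_map).FiniteType ↔
      Algebra.FiniteType R (A ⧸ K.map (algebraMap R A)) := by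
  have hcomp : algebraMap R (A ⧸ K.map (algebraMap R A)) = (Ideal.quotientMap (K.map (algebraMap R A))
      (algebraMap R A) Ideal.le_comap_map).comp (Ideal.Quotient.mk K) := RingHom.ext fun r => rfl
  rw [← RingHom.finiteType_algebraMap, hcomp]
  exact ⟨fun h => h.comp (RingHom.FiniteType.of_surjective _ Ideal.Quotient.mk_surjective),
    fun h => RingHom.FiniteType.of_comp_finiteType h⟩

theorem quotientMap_finitePresentation_iff {A : Type v} [CommRing A] [Algebra R A] (K : Ideal R)
    (hK : K.FG) :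
    (Ideal.quotientMap (K.map (algebraMap R A)) (algebraMap R A) Ideal.le_comap_map).FinitePresentation ↔
      Algebra.FinitePresentation R (A ⧸ K.map (algebraMap R A)) := by
  have hcomp : algebraMap R (A ⧸ K.map (algebraMap R A)) = (Ideal.quotientMap (K.map (algebraMap R A))
      (algebraMap R A) Ideal.le_comap_map).comp (Ideal.Quotient.mk K) := RingHom.ext fun r => rfl
  rw [← RingHom.finitePresentation_algebraMap, hcomp]
  exact ⟨fun h => h.comp (RingHom.FinitePresentation.of_surjective _ Ideal.Quotient.mk_surjective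
    (by rwa [Ideal.mk_ker])), fun h => RingHom.FinitePresentation.of_comp_finiteType _ h
    (RingHom.FiniteType.of_surjective _ Ideal.Quotient.mk_surjective)⟩

theorem exists_surjective_of_quot (hI : I.FG) (B : Type v) [CommRing B] [Algebra R B]
    [IsAdicComplete (I.map (algebraMap R B)) B]
    [hft : Algebra.FiniteType R (B ⧸ I.map (algebraMap R B))] :
    ∃ (n : ℕ) (φ : RPow R I n →ₐ[R] B), Function.Surjective φ := by
  obtain ⟨n, g, hg⟩ := Algebra.FiniteType.iff_quotient_mvPolynomial''.1 hft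
  choose x hx using fun i => Ideal.Quotient.mk_surjective (g (MvPolynomial.X i))
  obtain ⟨ψ, hψ⟩ := exists_algHom_completion (I.map (MvPolynomial.C : R →+* MvPolynomial (Fin n) R))
    (I.map (algebraMap R B)) (MvPolynomial.aeval x) (by
      rw [Ideal.map_le_iff_le_comap, Ideal.map_le_iff_le_comap]
      intro a ha
      rw [Ideal.mem_comap, Ideal.mem_comap, MvPolynomial.aeval_C]
      exact Ideal.mem_map_of_mem _ ha)
  haveI : IsAdicComplete I B := (IsAdicComplete.map_algebraMap_iff (S := B) I B).1 inferInstance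
  haveI : IsAdicComplete I (RPow R I n) :=
    (IsAdicComplete.map_algebraMap_iff I (RPow R I n)).1 (rpow_isAdicComplete hI n)
  refine ⟨n, ψ, ?_⟩
  refine surjective_of_mkQ_comp_surjective (I := I) (f := ψ.toLinearMap) fun q => ?_
  obtain ⟨b, rfl⟩ := Submodule.mkQ_surjective _ q
  obtain ⟨c, hc⟩ := hg (Ideal.Quotient.mk _ b)
  refine ⟨algebraMap _ _ c, (Submodule.Quotient.eq _).2 ?_⟩
  rw [Ideal.smul_top_eq_map, Submodule.restrictScalars_mem, ← Ideal.Quotient.eq]
  show Ideal.Quotient.mk _ (ψ (algebraMap _ _ c)) = _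
  rw [hψ, ← hc]
  have : (Ideal.Quotient.mkₐ R (I.map (algebraMap R B))).comp (MvPolynomial.aeval x) = g :=
    MvPolynomial.algHom_ext fun i => by
      show Ideal.Quotient.mk _ (MvPolynomial.aeval x (MvPolynomial.X i)) = _
      rw [MvPolynomial.aeval_X, hx]
  exact congrArg (fun G : MvPolynomial (Fin n) R →ₐ[R] B ⧸ I.map (algebraMap R B) => G c) this

/-- Approximation of restricted power series by polynomials. -/
theorem exists_poly_approx (hI : I.FG) (n m : ℕ) (p : RPow R I n) :
    ∃ c : MvPolynomial (Fin n) R,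
      p - algebraMap (MvPolynomial (Fin n) R) (RPow R I n) c ∈
        (I ^ m).map (algebraMap R (RPow R I n)) := by
  let J := I.map (MvPolynomial.C : R →+* MvPolynomial (Fin n) R)
  obtain ⟨c, hc⟩ := Submodule.Quotient.mk_surjective _ (p.val m)
  refine ⟨c, ?_⟩
  have hmem : p - algebraMap (MvPolynomial (Fin n) R) _ c ∈
      J ^ m • (⊤ : Submodule (MvPolynomial (Fin n) R) (AdicCompletion J (MvPolynomial (Fin n) R))) := by
    rw [AdicCompletion.pow_smul_top_eq_ker_eval (hI.map _), LinearMap.mem_ker, map_sub, sub_eq_zero]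
    exact hc.symm
  rw [Ideal.smul_top_eq_map, Submodule.restrictScalars_mem, ← Ideal.map_pow, Ideal.map_map] at hmem
  exact hmem

theorem mem_of_algebraMap_mem (n m : ℕ) {c : MvPolynomial (Fin n) R}
    (hc : algebraMap (MvPolynomial (Fin n) R) (RPow R I n) c ∈
      (I ^ m).map (algebraMap R (RPow R I n))) :
    c ∈ (I ^ m).map (MvPolynomial.C : R →+* MvPolynomial (Fin n) R) := by
  let J := I.map (MvPolynomial.C : R →+* MvPolynomial (Fin n) R)
  have hle : (I ^ m).map (algebraMap R (RPow R I n)) ≤ RingHom.ker (AdicCompletion.evalₐ J m).toRingHom := by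
    rw [Ideal.map_le_iff_le_comap]
    intro a ha
    rw [Ideal.mem_comap, RingHom.mem_ker]
    show AdicCompletion.evalₐ J m (algebraMap R (RPow R I n) a) = 0
    rw [IsScalarTower.algebraMap_apply R (MvPolynomial (Fin n) R) (RPow R I n), AlgHom.commutes]
    refine Ideal.Quotient.eq_zero_iff_mem.2 ?_
    show MvPolynomial.C a ∈ J ^ m
    rw [← Ideal.map_pow]
    exact Ideal.mem_map_of_mem _ ha
  have := hle hc
  rw [RingHom.mem_ker] at this
  rw [Ideal.map_pow, ← Ideal.Quotient.eq_zero_iff_mem, ← Ideal.Quotient.algebraMap_eq,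
    ← AlgHom.commutes (AdicCompletion.evalₐ J m) c]
  exact this

section

variable {n : ℕ} {A : Type v} [CommRing A] [Algebra R A] (φ : RPow R I n →ₐ[R] A)

theorem surjective_trunc (hI : I.FG) (hφ : Function.Surjective φ) (m : ℕ) :
    Function.Surjective ((Ideal.Quotient.mkₐ R ((I ^ m).map (algebraMap R A))).comp (φ.comp
      ((Algebra.ofId (MvPolynomial (Fin n) R) (RPow R I n)).restrictScalars R))) := fun q => by
  obtain ⟨a, rfl⟩ := Ideal.Quotient.mk_surjective q
  obtain ⟨p, rfl⟩ := hφ a
  obtain ⟨c, hc⟩ := exists_poly_approx hI n m p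
  refine ⟨c, ?_⟩
  show Ideal.Quotient.mk _ (φ (algebraMap _ _ c)) = Ideal.Quotient.mk _ (φ p)
  rw [eq_comm, Ideal.Quotient.eq, ← map_sub]
  have := Ideal.mem_map_of_mem φ.toRingHom hc
  rwa [Ideal.map_map, show φ.toRingHom.comp (algebraMap R (RPow R I n)) = algebraMap R A from
    RingHom.ext φ.commutes] at this

theorem finitePresentation_trunc (hI : I.FG) (hφ : Function.Surjective φ)
    (hker : (RingHom.ker φ.toRingHom).FG) (m : ℕ) :
    Algebra.FinitePresentation R (A ⧸ (I ^ m).map (algebraMap R A)) := by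
  classical
  refine Algebra.FinitePresentation.of_surjective (surjective_trunc φ hI hφ m) ?_
  obtain ⟨G, hG⟩ := hker
  choose h hh using fun g => exists_poly_approx hI n m g
  let ι := algebraMap (MvPolynomial (Fin n) R) (RPow R I n)
  let K : Ideal (MvPolynomial (Fin n) R) := Ideal.span ↑(G.image h) ⊔
    (I ^ m).map (MvPolynomial.C : R →+* MvPolynomial (Fin n) R)
  suffices RingHom.ker ((Ideal.Quotient.mkₐ R ((I ^ m).map (algebraMap R A))).comp (φ.comp
      ((Algebra.ofId (MvPolynomial (Fin n) R) (RPow R I n)).restrictScalars R))).toRingHom = K by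
    rw [this]
    exact Submodule.FG.sup ⟨_, rfl⟩ ((Ideal.FG.pow hI).map _)
  refine le_antisymm (fun c hc => ?_) (sup_le (Ideal.span_le.2 ?_) (Ideal.map_le_iff_le_comap.2 ?_))
  · rw [RingHom.mem_ker] at hc
    have hc' : φ (ι c) ∈ (I ^ m).map (algebraMap R A) := Ideal.Quotient.eq_zero_iff_mem.1 hc
    rw [show algebraMap R A = φ.toRingHom.comp (algebraMap R (RPow R I n)) from
      (RingHom.ext φ.commutes).symm, ← Ideal.map_map] at hc'
    obtain ⟨z, hz, hzc⟩ := (Ideal.mem_map_iff_of_surjective φ.toRingHom hφ).1 hc'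
    let Z := (I ^ m).map (algebraMap R (RPow R I n))
    have hmem : ι c ∈ K.map ι ⊔ Z := by
      have h1 : ι c - z ∈ RingHom.ker φ.toRingHom := by
        rw [RingHom.mem_ker, map_sub, sub_eq_zero]
        exact hzc.symm
      rw [← hG] at h1
      rw [show ι c = (ι c - z) + z by ring]
      refine add_mem ?_ (Ideal.mem_sup_right hz)
      refine Submodule.span_le.2 (fun g hg => ?_) h1
      rw [show g = ι (h g) + (g - ι (h g)) by ring]
      exact add_mem (Ideal.mem_sup_left (Ideal.mem_map_of_mem _ (Ideal.mem_sup_left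
        (Ideal.subset_span (Finset.mem_coe.2 (Finset.mem_image_of_mem h hg))))))
        (Ideal.mem_sup_right (hh g))
    have hs : Function.Surjective ((Ideal.Quotient.mk Z).comp ι) := fun q => by
      obtain ⟨p, rfl⟩ := Ideal.Quotient.mk_surjective q
      obtain ⟨d, hd⟩ := exists_poly_approx hI n m p
      exact ⟨d, (Ideal.Quotient.eq.2 hd).symm⟩
    have h2 := Ideal.mem_map_of_mem (Ideal.Quotient.mk Z) hmem
    rw [Ideal.map_sup, Ideal.map_quotient_self, sup_bot_eq, Ideal.map_map] at h2
    obtain ⟨k, hk, hkc⟩ := (Ideal.mem_map_iff_of_surjective _ hs).1 h2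
    rw [show c = (c - k) + k by ring]
    refine add_mem (Ideal.mem_sup_right (mem_of_algebraMap_mem n m ?_)) hk
    rw [map_sub]
    exact Ideal.Quotient.eq.1 hkc.symm
  · intro x hx
    obtain ⟨g, hg, rfl⟩ := Finset.mem_image.1 (Finset.mem_coe.1 hx)
    rw [SetLike.mem_coe, RingHom.mem_ker]
    refine Ideal.Quotient.eq_zero_iff_mem.2 ?_
    have hg0 : φ g = 0 := by
      have : g ∈ RingHom.ker φ.toRingHom := hG ▸ Submodule.subset_span hg
      exact this
    have := Ideal.mem_map_of_mem φ.toRingHom (hh g)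
    rw [Ideal.map_map, show φ.toRingHom.comp (algebraMap R (RPow R I n)) = algebraMap R A from
      RingHom.ext φ.commutes, map_sub] at this
    have h3 : φ (ι (h g)) = -(φ.toRingHom g - φ.toRingHom (ι (h g))) := by
      show _ = -(φ g - φ (ι (h g)))
      rw [hg0]; ring
    exact h3 ▸ neg_mem this
  · intro a ha
    rw [Ideal.mem_comap, RingHom.mem_ker]
    refine Ideal.Quotient.eq_zero_iff_mem.2 ?_
    show φ (algebraMap (MvPolynomial (Fin n) R) _ (MvPolynomial.C a)) ∈ _
    rw [show (MvPolynomial.C a : MvPolynomial (Fin n) R) = algebraMap R _ a from rfl,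
      ← IsScalarTower.algebraMap_apply, φ.commutes]
    exact Ideal.mem_map_of_mem _ ha

end

theorem topFinitePresentation_of_trunc (hR : IsBase R I) (A : Type u) [CommRing A] [Algebra R A]
    [IsAdicComplete (I.map (algebraMap R A)) A]
    (h : ∀ m : ℕ, Algebra.FinitePresentation R (A ⧸ (I ^ (m + 1)).map (algebraMap R A))) :
    TopFinitePresentation R I A := by
  classical
  have hI := isBase_fg hR
  haveI : Algebra.FiniteType R (A ⧸ I.map (algebraMap R A)) := by
    haveI := h 0
    exact Algebra.FiniteType.equiv inferInstance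
      (Ideal.quotientEquivAlgOfEq R (show (I ^ (0 + 1)).map (algebraMap R A) = I.map (algebraMap R A) by
        rw [zero_add, pow_one]))
  obtain ⟨n, φ, hφ⟩ := exists_surjective_of_quot hI A
  refine ⟨n, φ, hφ, ?_⟩
  rcases isBase_cases hR with ⟨hN, -⟩ | ⟨t, hv⟩
  · haveI := rpow_isNoetherianRing I n
    exact IsNoetherian.noetherian _
  let P := RPow R I n
  let N : Submodule P P := RingHom.ker φ.toRingHom
  let S : Submodule P P :=
    { carrier := {x | ∃ k : ℕ, t ^ k • x ∈ N}
      add_mem' := by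
        rintro x y ⟨a, ha⟩ ⟨b, hb⟩
        refine ⟨a + b, ?_⟩
        rw [smul_add]
        refine add_mem ?_ ?_
        · rw [pow_add, mul_comm, mul_smul]; exact N.smul_of_tower_mem _ ha
        · rw [pow_add, mul_smul]; exact N.smul_of_tower_mem _ hb
      zero_mem' := ⟨0, by rw [smul_zero]; exact N.zero_mem⟩
      smul_mem' := fun c x ⟨a, ha⟩ => ⟨a, by rw [smul_comm]; exact N.smul_mem c ha⟩ }
  obtain ⟨S₀, hS₀⟩ : S.FG := fg_of_saturated hR S fun x k hx => by
    have := (hv.forall_pow_iff (S.restrictScalars R) x k).1 hx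
    obtain ⟨a, ha⟩ := this
    exact ⟨a + k, by rw [pow_add, mul_smul]; exact ha⟩
  choose e he using fun x : {x // x ∈ S₀} => (hS₀ ▸ Submodule.subset_span x.2 : x.1 ∈ S)
  obtain ⟨K, hK⟩ : ∃ K : ℕ, ∀ w ∈ S, t ^ K • w ∈ N := by
    refine ⟨Finset.univ.sup e, fun w hw => ?_⟩
    rw [← hS₀] at hw
    induction hw using Submodule.span_induction with
    | mem w hw =>
      obtain ⟨d, hd⟩ := Nat.exists_eq_add_of_le (Finset.le_sup (f := e) (Finset.mem_univ ⟨w, hw⟩))
      rw [hd, pow_add, mul_comm, mul_smul]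
      exact N.smul_of_tower_mem _ (he ⟨w, hw⟩)
    | zero => rw [smul_zero]; exact N.zero_mem
    | add x y _ _ hx hy => rw [smul_add]; exact add_mem hx hy
    | smul c x _ hx => rw [smul_comm]; exact N.smul_mem c hx
  haveI := h K
  obtain ⟨H, hH⟩ := Algebra.FinitePresentation.ker_fG_of_surjective _
    (surjective_trunc φ hI hφ (K + 1))
  let ι := algebraMap (MvPolynomial (Fin n) R) P
  let Z := (I ^ (K + 1)).map (algebraMap R P)
  have hmapZ : Z.map φ.toRingHom = (I ^ (K + 1)).map (algebraMap R A) := by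
    rw [Ideal.map_map, show φ.toRingHom.comp (algebraMap R P) = algebraMap R A from
      RingHom.ext φ.commutes]
  have hlift : ∀ x : {x // x ∈ H}, ∃ g : N, ι x.1 - g.1 ∈ Z := by
    intro x
    have hx : φ (ι x.1) ∈ (I ^ (K + 1)).map (algebraMap R A) :=
      Ideal.Quotient.eq_zero_iff_mem.1 (RingHom.mem_ker.1 (show x.1 ∈ RingHom.ker
        ((Ideal.Quotient.mkₐ R ((I ^ (K + 1)).map (algebraMap R A))).comp (φ.comp
          ((Algebra.ofId (MvPolynomial (Fin n) R) P).restrictScalars R))).toRingHom by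
        rw [← hH]; exact Ideal.subset_span x.2))
    rw [← hmapZ] at hx
    obtain ⟨z, hz, hzx⟩ := (Ideal.mem_map_iff_of_surjective φ.toRingHom hφ).1 hx
    refine ⟨⟨ι x.1 - z, ?_⟩, by simpa using hz⟩
    show ι x.1 - z ∈ RingHom.ker φ.toRingHom
    rw [RingHom.mem_ker, map_sub, sub_eq_zero]
    exact hzx.symm
  choose G hG using hlift
  have hIK : I ^ (K + 1) = Ideal.span {t ^ (K + 1)} := by rw [hv.eq, Ideal.span_singleton_pow]
  let IP := I.map (algebraMap R P)
  haveI : IsAdicComplete IP P := rpow_isAdicComplete hI n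
  haveI : IsHausdorff IP N := ⟨fun x hx => Subtype.ext (IsHausdorff.haus' (I := IP) x.1 fun k => by
    have h1 := SModEq.zero.1 (hx k)
    rw [SModEq.zero]
    have h2 := Submodule.mem_map_of_mem (f := N.subtype) h1
    rw [Submodule.map_smul''] at h2
    exact Submodule.smul_mono le_rfl le_top h2)⟩
  have hN : (⊤ : Submodule P N) ≤ Submodule.span P (Set.range G) ⊔ IP • ⊤ := by
    rintro ⟨x, hx⟩ -
    obtain ⟨c, hc⟩ := exists_poly_approx hI n (K + 1) x
    have hcH : c ∈ Ideal.span (H : Set (MvPolynomial (Fin n) R)) := by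
      rw [hH, RingHom.mem_ker]
      refine Ideal.Quotient.eq_zero_iff_mem.2 ?_
      have h1 := Ideal.mem_map_of_mem φ.toRingHom hc
      rw [hmapZ, map_sub, RingHom.mem_ker.1 hx, zero_sub, neg_mem_iff] at h1
      exact h1
    have h2 : ι c ∈ (Submodule.span P (Set.range G)).map N.subtype ⊔ Z := by
      have h3 := Ideal.mem_map_of_mem ι hcH
      rw [Ideal.map_span] at h3
      refine Submodule.span_le.2 ?_ h3
      rintro _ ⟨y, hy, rfl⟩
      rw [show ι y = (G ⟨y, hy⟩).1 + (ι y - (G ⟨y, hy⟩).1) by ring]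
      exact Submodule.add_mem_sup (Submodule.mem_map_of_mem (Submodule.subset_span ⟨_, rfl⟩))
        (hG ⟨y, hy⟩)
    have h4 : x ∈ (Submodule.span P (Set.range G)).map N.subtype ⊔ Z := by
      rw [show x = (x - ι c) + ι c by ring]
      exact add_mem (Submodule.mem_sup_right hc) h2
    obtain ⟨_, ⟨y, hy, rfl⟩, z, hz, hyz⟩ := Submodule.mem_sup.1 h4
    obtain ⟨w, hw⟩ : ∃ w : P, z = t ^ (K + 1) • w := by
      obtain ⟨w, hw⟩ := Ideal.mem_span_singleton'.1 (show z ∈ Ideal.span {algebraMap R P (t ^ (K + 1))} by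
        have hz' : z ∈ (I ^ (K + 1)).map (algebraMap R P) := hz
        rwa [hIK, Ideal.map_span, Set.image_singleton] at hz')
      exact ⟨w, by rw [← hw, Algebra.smul_def, mul_comm]⟩
    have hzN : z ∈ N := by
      rw [show z = x - y.1 from eq_sub_of_add_eq' hyz]
      exact sub_mem hx y.2
    have hwS : w ∈ S := ⟨K + 1, hw ▸ hzN⟩
    have : (⟨x, hx⟩ : N) = y + algebraMap R P t • (⟨t ^ K • w, hK w hwS⟩ : N) := Subtype.ext (by
      show x = y.1 + algebraMap R P t • t ^ K • w
      rw [algebraMap_smul, smul_smul, ← pow_succ', ← hw]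
      exact hyz.symm)
    rw [this]
    exact Submodule.add_mem_sup hy (Submodule.smul_mem_smul
      (Ideal.mem_map_of_mem _ (hv.eq ▸ Ideal.mem_span_singleton_self t)) Submodule.mem_top)
  haveI : Module.Finite P (N ⧸ (IP • ⊤ : Submodule P N)) := by
    refine ⟨⟨(Finset.univ.image G).image (Submodule.mkQ _), eq_top_iff.2 fun q _ => ?_⟩⟩
    obtain ⟨x, rfl⟩ := Submodule.mkQ_surjective _ q
    have h5 := Submodule.mem_map_of_mem (f := Submodule.mkQ (IP • ⊤ : Submodule P N))
      (hN (Submodule.mem_top (x := x)))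
    rw [Submodule.map_sup, Submodule.mkQ_map_self, sup_bot_eq, Submodule.map_span] at h5
    refine Submodule.span_mono ?_ h5
    rintro _ ⟨_, ⟨i, rfl⟩, rfl⟩
    exact Finset.mem_coe.2 (Finset.mem_image_of_mem _ (Finset.mem_image_of_mem _ (Finset.mem_univ i)))
  haveI := Groth.Agent.AdicLemmas.module_finite_of_quotient_finite IP N inferInstance
  exact (Module.Finite.iff_fg (N := N)).1 inferInstance

end Groth.Agent.AdicRingLib.TruncFP
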