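import Groth.Agent.AdicRingLib.TFT

/-!
# Flatness of finite modules through the truncations
-/

set_option autoImplicit false

open TensorProduct

namespace Groth.Agent.AdicRingLib

open AdicRing

universe u

variable {R : Type u} [CommRing R] {I : Ideal R} (hR : IsBase R I)
  {A : Type u} [CommRing A] [Algebra R A] (hA : TopFiniteType R I A)
  {B : Type u} [CommRing B] [Algebra R B] [Algebra A B] [IsScalarTower R A B]
  (hB : TopFiniteType R I B)
  (M : Type u) [AddCommGroup M] [Module B M] [Module A M] [IsScalarTower A B M] [Module.Finite B M]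

include hR hA hB

theorem flat_of_trunc (h : ∀ n : ℕ, Module.Flat (trunc A I n) ((trunc A I n) ⊗[A] M)) :
    Module.Flat A M := by
  classical
  letI : Module R M := Module.compHom M (algebraMap R B)
  haveI : IsScalarTower R B M := ⟨fun r b m => by
    show (r • b) • m = algebraMap R B r • (b • m)
    rw [Algebra.smul_def, mul_smul]⟩
  haveI : IsScalarTower R A M := ⟨fun r a m => by
    show (r • a) • m = algebraMap R B r • (a • m)
    rw [← algebraMap_smul B (r • a), ← algebraMap_smul B a, ← mul_smul, Algebra.smul_def, map_mul,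
      ← IsScalarTower.algebraMap_apply]⟩
  refine Module.Flat.iff_rTensor_injective.2 fun 𝔞 h𝔞 => ?_
  obtain ⟨s, f, hf⟩ := Submodule.fg_iff_exists_fin_generating_family.1 h𝔞
  have hfm : ∀ i, f i ∈ 𝔞 := fun i => hf ▸ Submodule.subset_span ⟨i, rfl⟩
  let g : Fin s → 𝔞 := fun i => ⟨f i, hfm i⟩
  let Φ : (Fin s → M) →ₗ[B] M ⊗[A] 𝔞 :=
    ∑ i, ((TensorProduct.AlgebraTensorModule.mk A B M 𝔞).flip (g i)) ∘ₗ LinearMap.proj i
  have hΦ : ∀ v, Φ v = ∑ i, v i ⊗ₜ[A] g i := fun v => by simp [Φ]
  have hsurj : Function.Surjective Φ := by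
    intro z
    induction z using TensorProduct.induction_on with
    | zero => exact ⟨0, map_zero _⟩
    | add a b ha hb =>
      obtain ⟨v, rfl⟩ := ha
      obtain ⟨w, rfl⟩ := hb
      exact ⟨v + w, map_add _ _ _⟩
    | tmul m a =>
      obtain ⟨c, hc⟩ := (Submodule.mem_span_range_iff_exists_fun A).1 (hf.symm ▸ a.2 : (a : A) ∈ Submodule.span A (Set.range f))
      refine ⟨fun i => c i • m, ?_⟩
      rw [hΦ, show a = ∑ i, c i • g i from Subtype.ext (by
        rw [AddSubmonoidClass.coe_finsetSum]; exact hc.symm), TensorProduct.tmul_sum]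
      exact Finset.sum_congr rfl fun i _ => TensorProduct.smul_tmul _ _ _
  haveI : Module.Finite B (M ⊗[A] 𝔞) := Module.Finite.of_surjective Φ hsurj
  have hH : IsHausdorff I (M ⊗[A] 𝔞) := (isAdicComplete_tft hR hB (M ⊗[A] 𝔞)).toIsHausdorff
  rw [← LinearMap.ker_eq_bot, LinearMap.ker_eq_bot']
  intro z hz
  obtain ⟨x, hx⟩ := hsurj (TensorProduct.comm A 𝔞 M z)
  have hz' : z = ∑ i, g i ⊗ₜ[A] x i := by
    rw [← (TensorProduct.comm A 𝔞 M).symm_apply_apply z, ← hx, hΦ, map_sum]
    simp
  have hrel : ∑ i, f i • x i = 0 := by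
    have := congrArg (TensorProduct.lid A M) hz
    rw [hz', map_sum, map_sum, map_zero] at this
    simpa [g] using this
  suffices hzero : Φ x = 0 by
    rw [← (TensorProduct.comm A 𝔞 M).symm_apply_apply z, ← hx, hzero, map_zero]
  refine hH.haus' _ fun k => ?_
  rw [SModEq.zero]
  obtain ⟨c, hc⟩ := artinRees_tft hR hA A 𝔞
  set N := k + c
  let q : M →ₗ[A] (trunc A I N) ⊗[A] M := TensorProduct.mk A (trunc A I N) M 1
  have hq : Function.Surjective q :=
    TensorProduct.mk_surjective (R := A) (S := trunc A I N) (M := M) Ideal.Quotient.mk_surjective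
  have hqker : ∀ m, q m = 0 → m ∈ I ^ k • (⊤ : Submodule R M) := fun m hm => by
    have h1 := congrArg (TensorProduct.quotTensorEquivQuotSMul M ((I ^ (N + 1)).map (algebraMap R A))) hm
    rw [map_zero] at h1
    have h2 : (Submodule.Quotient.mk m :
        M ⧸ ((I ^ (N + 1)).map (algebraMap R A) • ⊤ : Submodule A M)) = 0 :=
      (TensorProduct.quotTensorEquivQuotSMul_mk_one_tmul _ _).symm.trans h1
    rw [Submodule.Quotient.mk_eq_zero, ← Submodule.restrictScalars_mem R, Ideal.smul_restrictScalars,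
      Submodule.restrictScalars_top] at h2
    exact Submodule.smul_mono (Ideal.pow_le_pow_right (by omega)) le_rfl h2
  have h0 : ∑ i, algebraMap A (trunc A I N) (f i) • q (x i) = 0 := by
    simp only [algebraMap_smul, ← map_smul, ← map_sum, hrel, map_zero]
  haveI := h N
  obtain ⟨l, a', y', hxy, hfa⟩ := Module.Flat.isTrivialRelation_of_sum_smul_eq_zero h0
  choose a ha using fun i j => Ideal.Quotient.mk_surjective (a' i j)
  choose y hy using fun j => hq (y' j)
  have hd : ∀ i, x i - ∑ j, a i j • y j ∈ I ^ k • (⊤ : Submodule R M) := fun i => hqker _ (by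
    rw [map_sub, map_sum, sub_eq_zero]
    refine (hxy i).trans (Finset.sum_congr rfl fun j _ => ?_)
    rw [map_smul, hy, ← ha, ← Ideal.Quotient.algebraMap_eq, algebraMap_smul])
  have hb : ∀ j, ∑ i, a i j • g i ∈ I ^ k • (⊤ : Submodule R 𝔞) := by
    intro j
    have h1 : ∑ i, a i j * f i ∈ (I ^ (N + 1)).map (algebraMap R A) := by
      rw [← Ideal.Quotient.eq_zero_iff_mem, map_sum]
      refine Eq.trans (Finset.sum_congr rfl fun i _ => ?_) (hfa j)
      rw [map_mul, ha, mul_comm]
      rfl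
    have h2 : ∑ i, a i j * f i ∈ I ^ (k + c) • (⊤ : Submodule R A) := by
      rw [Ideal.smul_top_eq_map, Submodule.restrictScalars_mem]
      exact Ideal.map_mono (Ideal.pow_le_pow_right (Nat.le_succ _)) h1
    have h3 := hc k ⟨h2, 𝔞.sum_mem fun i _ => 𝔞.mul_mem_left _ (hfm i)⟩
    rw [← Submodule.comap_map_eq_of_injective
      (f := (𝔞.subtype.restrictScalars R)) 𝔞.injective_subtype (I ^ k • ⊤), Submodule.mem_comap,
      Submodule.map_smul'', Submodule.map_top]
    show (𝔞.subtype (∑ i, a i j • g i)) ∈ _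
    rw [map_sum]
    refine Submodule.smul_mono le_rfl ?_ (show (∑ i, a i j * f i) ∈ I ^ k • 𝔞.restrictScalars R from h3)
    intro z hz
    exact ⟨⟨z, hz⟩, rfl⟩
  have hsplit : Φ x = ∑ i, (x i - ∑ j, a i j • y j) ⊗ₜ[A] g i + ∑ j, y j ⊗ₜ[A] (∑ i, a i j • g i) := by
    rw [hΦ]
    simp only [TensorProduct.sub_tmul, Finset.sum_sub_distrib, TensorProduct.sum_tmul,
      TensorProduct.tmul_sum, TensorProduct.smul_tmul]
    rw [Finset.sum_comm (f := fun i j => y j ⊗ₜ[A] (a i j • g i)), sub_add_cancel]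
  rw [hsplit]
  refine add_mem (sum_mem fun i _ => ?_) (sum_mem fun j _ => ?_)
  · have := Submodule.mem_map_of_mem
      (f := (((TensorProduct.mk A M 𝔞).flip (g i)).restrictScalars R : M →ₗ[R] M ⊗[A] 𝔞)) (hd i)
    rw [Submodule.map_smul''] at this
    exact Submodule.smul_mono le_rfl le_top this
  · have := Submodule.mem_map_of_mem
      (f := ((TensorProduct.mk A M 𝔞 (y j)).restrictScalars R : 𝔞 →ₗ[R] M ⊗[A] 𝔞)) (hb j)
    rw [Submodule.map_smul''] at this
    exact Submodule.smul_mono le_rfl le_top this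

theorem faithfullyFlat_of_trunc
    (h : ∀ n : ℕ, Module.FaithfullyFlat (trunc A I n) ((trunc A I n) ⊗[A] M)) :
    Module.FaithfullyFlat A M := by
  haveI := flat_of_trunc hR hA hB M fun n => inferInstance
  refine ⟨fun m hm htop => ?_⟩
  have hJ : I.map (algebraMap R A) ≤ m := by
    haveI : IsAdicComplete (I.map (algebraMap R A)) A :=
      (IsAdicComplete.map_algebraMap_iff I A (S := A)).2 (isAdicComplete_tft hR hA A)
    exact (IsAdicComplete.le_jacobson_bot _).trans (sInf_le ⟨bot_le, hm⟩)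
  let Q := trunc A I 0
  have hle : (I ^ (0 + 1)).map (algebraMap R A) ≤ m := by rwa [pow_one]
  haveI : (m.map (Ideal.Quotient.mk _) : Ideal Q).IsMaximal :=
    Ideal.IsMaximal.map_of_surjective_of_ker_le Ideal.Quotient.mk_surjective (by simpa using hle)
  refine (h 0).submodule_ne_top ‹(m.map (Ideal.Quotient.mk _) : Ideal Q).IsMaximal› ?_
  rw [eq_top_iff]
  rintro w -
  let q : M →ₗ[A] Q ⊗[A] M := TensorProduct.mk A Q M 1
  have hq : Function.Surjective q :=
    TensorProduct.mk_surjective (R := A) (S := Q) (M := M) Ideal.Quotient.mk_surjective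
  obtain ⟨w, rfl⟩ := hq w
  have hw : w ∈ m • (⊤ : Submodule A M) := by rw [htop]; exact Submodule.mem_top
  refine Submodule.smul_induction_on hw (fun r hr x _ => ?_) fun x y hx hy => ?_
  · rw [map_smul, ← algebraMap_smul Q r]
    exact Submodule.smul_mem_smul (Ideal.mem_map_of_mem _ hr) Submodule.mem_top
  · rw [map_add]; exact add_mem hx hy

end Groth.Agent.AdicRingLib
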